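import Groth.Agent.Htor.H255.Theta
import Groth.Agent.Krr.H487.ExtPull
import Groth.Agent.Krr.H463.HomTensor

/-!
# `g^* Hom(F, N) ≅ Hom(g^* F, g^* N)` for `F` finite locally free and `N` invertible
-/

set_option autoImplicit false

universe u

open CategoryTheory CategoryTheory.Limits AlgebraicGeometry Opposite TopologicalSpace

namespace K994.PullHom

open Groth.Agent Groth.Agent.CohqB.HomSheaf
open Groth.Agent.Sga67.Sec Groth.Agent.Sga67.LocBasis
open Groth.Agent.Krr.H463.HomBasis Groth.Agent.Krr.H487.LocBasisPull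
open Groth.Agent.Htor.H255.Theta

variable {X Y : Scheme.{u}} (g : X ⟶ Y)

/-- `theta` on local bases. -/
theorem theta_hsec {F N : Y.Modules} {U : Y.Opens} {κ : Type*} [Fintype κ] [DecidableEq κ]
    {e : κ → Sec F U} (he : IsLocBasis e) (t : Sec N U) (i : κ) :
    appS (theta g F N) (g ⁻¹ᵁ U) (pbS g (homSheaf F N) (hsec he t i)) =
      hsec (isLocBasis_pbS g he) (pbS g N t) i := by
  apply (ev_bijective (N := (Scheme.Modules.pullback g).obj N) (isLocBasis_pbS g he) le_rfl).1
  rw [ev_hsec]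
  funext j
  rw [ev_apply]
  have h1 : res ((Scheme.Modules.pullback g).obj F) (le_refl (g ⁻¹ᵁ U)) (pbS g F (e j)) =
      pbS g F (e j) := Sga67.Sec.res_self _ _ _
  rw [h1]
  have h2 := comp_theta_pb g (le_refl U) (show Γ(homSheaf F N, U) from hsec he t i) (e j)
  refine (show _ = _ from h2).trans ?_
  have h3 : comp (show Γ(homSheaf F N, U) from hsec he t i) U le_rfl (e j) =
      (Pi.single i t : κ → Sec N U) j := by
    have h4 := congrFun (ev_hsec he t i) j
    rw [ev_apply, Sga67.Sec.res_self] at h4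
    exact h4
  rw [h3]
  by_cases h : j = i
  · subst h
    rw [Pi.single_eq_same, Pi.single_eq_same]
    rfl
  · rw [Pi.single_eq_of_ne h, Pi.single_eq_of_ne h]
    exact map_zero (pbS g N)

/-- The pull-back of the sheaf Hom. -/
theorem nonempty_iso {F N : Y.Modules} (hF : FlatMod.IsFinLocFree F)
    (hN : FlatMod.IsFinLocFreeOfRank 1 N) :
    Nonempty ((Scheme.Modules.pullback g).obj (homSheaf F N) ≅
      homSheaf ((Scheme.Modules.pullback g).obj F) ((Scheme.Modules.pullback g).obj N)) := by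
  have : IsIso (theta g F N) := isIso_of_bijective _ (by
    intro x W hxW
    obtain ⟨U₁, n, hx₁, e₁, he₁⟩ := (isFinLocFree_iff _).mp hF (g x)
    obtain ⟨U₂, hx₂, hU₂⟩ := hN (g x)
    obtain ⟨d₂, hd₂⟩ := nonempty_restrict_iso_iff.mp hU₂
    have he := he₁.restrict (inf_le_left : U₁ ⊓ U₂ ≤ U₁)
    have hd := hd₂.restrict (inf_le_right : U₁ ⊓ U₂ ≤ U₂)
    have hd' : IsLocBasis (fun _ : Fin 1 => res N (inf_le_right : U₁ ⊓ U₂ ≤ U₂) (d₂ 0)) := by
      convert hd using 2 with i
      rw [Subsingleton.elim i 0]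
    have h1 := isLocBasis_pbS g (isLocBasis_hsec (N := N) he hd')
    have h2 := isLocBasis_hsec (N := (Scheme.Modules.pullback g).obj N) (isLocBasis_pbS g he)
      (isLocBasis_pbS g hd')
    refine ⟨W ⊓ g ⁻¹ᵁ (U₁ ⊓ U₂), inf_le_left, ⟨hxW, hx₁, hx₂⟩, ?_⟩
    exact Krr.H487.ExtPull.bijective_of_locBasis (theta g F N) h1 h2
      (fun i => theta_hsec g he _ i) inf_le_right)
  exact ⟨asIso (theta g F N)⟩

end K994.PullHom
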