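import Groth.Agent.TautSh.K994.DblMap
import Groth.Agent.TautSh.K994.PullHom
import Groth.Agent.SDiv.K476.HomSh6
import Groth.Agent.Krr.H495.Rank
import Groth.Agent.Ega2.QCohLocal
import Groth.Agent.Fga.UnitRestrict
import Groth.Agent.PerfC.PullRestrict
import Groth.Agent.Ega2.TensMon
import Groth.Agent.S19692

/-!
# The dual of a tautological sheaf on the Hilbert scheme of two points
-/

set_option autoImplicit false

universe u

open CategoryTheory CategoryTheory.Limits AlgebraicGeometry Opposite TopologicalSpace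

namespace K994.DblDual

open Groth.Agent Groth.Agent.CohqB.HomSheaf
open Groth.Agent.Sga67.Sec Groth.Agent.Sga67.LocBasis Groth.Agent.Sga67.ExtSheaf

variable {X Z H : Scheme.{u}}

/-- Exterior powers only depend on the isomorphism class of the module. -/
theorem isExtPow_of_iso_left {i : ℕ} {E E' L : X.Modules} (e : E ≅ E')
    (h : ExtPow.IsExtPow i E L) : ExtPow.IsExtPow i E' L := by
  obtain ⟨φ, hφ⟩ := exists_phi h
  let ε : ∀ U : X.affineOpens, (⋀[Γ(X, U.1)]^i (Sec E U.1)) ≃ₗ[Γ(X, U.1)]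
      (⋀[Γ(X, U.1)]^i (Sec E' U.1)) := fun U =>
    LinearEquiv.ofLinearMap (exteriorPower.map i (appS e.hom U.1))
      (exteriorPower.map i (appS e.inv U.1))
      (by
        rw [← exteriorPower.map_comp, ← exteriorPower.map_id]
        congr 1
        ext s
        exact appS_inv_hom e U.1 s)
      (by
        rw [← exteriorPower.map_comp, ← exteriorPower.map_id]
        congr 1
        ext s
        exact appS_hom_inv e U.1 s)
  have hε : ∀ (U : X.affineOpens) (s : Fin i → Sec E' U.1),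
      (ε U).symm (exteriorPower.ιMulti _ i s) =
        exteriorPower.ιMulti _ i (fun j => appS e.inv U.1 (s j)) := by
    intro U s
    show exteriorPower.map i (appS e.inv U.1) _ = _
    rw [exteriorPower.map_apply_ιMulti]
    rfl
  refine ⟨fun U => (φ U).trans (ε U), fun U V h s => ?_⟩
  show res L h ((φ U).symm ((ε U).symm (exteriorPower.ιMulti _ i s))) =
    (φ V).symm ((ε V).symm (exteriorPower.ιMulti _ i (fun j => res E' h (s j))))
  rw [hε, hε]
  refine (hφ U V h _).trans ?_
  simp only [appS_res]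

/-- The internal Hom applied to an isomorphism. -/
noncomputable def homMapIso (M : X.Modules) {N N' : X.Modules} (e : N ≅ N') :
    homSheaf M N ≅ homSheaf M N' where
  hom := homMap M e.hom
  inv := homMap M e.inv
  hom_inv_id := by rw [← homMap_comp, e.hom_inv_id, homMap_id]
  inv_hom_id := by rw [← homMap_comp, e.inv_hom_id, homMap_id]

/-- **Duality for double covers.** For `p : Z ⟶ H` finite locally free of degree two, `q : Z ⟶ X`,
`F` finite locally free on `X`, and `D` inverse to `Λ² p_* O`: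
`(p_* q^* F)^∨ ≅ (p_* q^* F^∨) ⊗ D`. -/
theorem nonempty_dual_iso (p : Z ⟶ H) (q : Z ⟶ X) (hp : FinCov.IsCover p 2) {F : X.Modules}
    (hF : FlatMod.IsFinLocFree F) {Λ D : H.Modules}
    (hΛ : ExtPow.IsExtPow 2 ((Scheme.Modules.pushforward p).obj
      ((Scheme.Modules.pullback q).obj (Coh.structureModule X))) Λ)
    (hD : ClSub.IsInverseOf D Λ) :
    Nonempty (RefHull.dual ((Scheme.Modules.pushforward p).obj
        ((Scheme.Modules.pullback q).obj F)) ≅
      CohB1.tensorMod ((Scheme.Modules.pushforward p).obj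
        ((Scheme.Modules.pullback q).obj (RefHull.dual F))) D) := by
  obtain ⟨haff, hrk⟩ := (S19692.result p 2).1 hp
  have hp1 : Mor2.IsFinLocFree p := hp.1
  have : IsFinite p := hp1.1
  have : Flat p := hp1.2.1
  have : LocallyOfFinitePresentation p := hp1.2.2
  -- the exterior square of `p_* O`
  have hΛ' : ExtPow.IsExtPow 2 (PerfB.PushFLF.pushO p) Λ :=
    isExtPow_of_iso_left ((Scheme.Modules.pushforward p).mapIso
      (Fga.UnitRestrict.pullbackUnitIso q)) hΛ
  have hΛinv : FlatMod.IsFinLocFreeOfRank 1 Λ := by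
    rw [Krr.H495.Rank.isFinLocFreeOfRank_iff]
    have hE' := Krr.H495.Rank.isFinLocFree_of_rank hrk
    refine ⟨Sga67.LocBasis.isFinLocFree_of_isExtPow hE' hΛ', fun x => ?_⟩
    rw [Krr.H495.Rank.rk_extPow hE' hΛ', Krr.H495.Rank.rk_of_rank hrk, Nat.choose_self]
  -- the bundle `G = q^* F`
  have hG : FlatMod.IsFinLocFree ((Scheme.Modules.pullback q).obj F) :=
    PerfC.PullRestrict.isFinLocFree_pullback q hF
  have hGq : Coh.IsQCoh ((Scheme.Modules.pullback q).obj F) :=
    Ega4dA.FrameQC.isQCoh_of_isFinLocFree hG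
  have hpG := PerfB.PushFLF.isFinLocFree_pushforward p hG
  -- the isomorphisms
  obtain ⟨e1⟩ := DblMap.nonempty_iso (p := p) hGq hrk hΛ'
  obtain ⟨e2⟩ := PullHom.nonempty_iso q hF
    (Krr.H495.Rank.isFinLocFreeOfRank_structureModule (X := X))
  obtain ⟨e3⟩ := Krr.H463.HomTensor.nonempty_iso hpG hΛinv
  obtain ⟨e4⟩ := hD
  -- `p_* q^* F^∨ ≅ Hom(p_* G, O) ⊗ Λ`
  let e5 : (Scheme.Modules.pushforward p).obj
      ((Scheme.Modules.pullback q).obj (RefHull.dual F)) ≅
      CohB1.tensorMod (homSheaf ((Scheme.Modules.pushforward p).obj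
        ((Scheme.Modules.pullback q).obj F)) (Coh.structureModule H)) Λ :=
    (Scheme.Modules.pushforward p).mapIso ((Scheme.Modules.pullback q).mapIso
        (K476.HomSh6.cmpIso F (Coh.structureModule X)) ≪≫ e2 ≪≫
      homMapIso _ (Fga.UnitRestrict.pullbackUnitIso q)) ≪≫ e1 ≪≫ e3.symm
  exact ⟨K476.HomSh6.cmpIso _ _ ≪≫ (Ega2.Tens.runit _).symm ≪≫
    Ega2.Tens.mapTIso (Iso.refl _) (e4.symm ≪≫ Ega2.Tens.swap _ _) ≪≫
    (Ega2.Tens.assoc _ _ _).symm ≪≫ Ega2.Tens.mapTIso e5.symm (Iso.refl D)⟩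

end K994.DblDual
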