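import Groth.Agent.TautSh.K994.Spread
import Groth.Agent.PicLoc.K729.FGCone

/-!
# Schemes representing the Hilbert functor of points are locally of finite type

For `f : X ⟶ Spec R` quasi-compact, quasi-separated and locally of finite presentation, any scheme
carrying a universal family for `Hilb^d_{X/R}` is locally of finite type over `R`.
-/

set_option autoImplicit false
universe u

open CategoryTheory CategoryTheory.Limits AlgebraicGeometry Opposite TopologicalSpace

namespace K994.Hlft

open Groth.Agent.Picfga.HilbPull K994.Spread K729.FGCone Groth.Agent.Etcore.FGLim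

/-- An open immersion which factors through a scheme affine and of finite type over the base makes
its source of finite type over the base. -/
theorem locallyOfFiniteType_of_factor {W B S : Scheme.{u}} (w : W ⟶ S) {U : W.Opens}
    (hU : IsAffineOpen U) [IsAffine B] (b : B ⟶ S) [LocallyOfFiniteType b]
    (π : Spec Γ(W, U) ⟶ B) (g : B ⟶ W) (hg : g ≫ w = b) (hπ : π ≫ g = hU.fromSpec) :
    LocallyOfFiniteType (hU.fromSpec ≫ w) := by
  have hr : Set.range π ⊆ (g ⁻¹ᵁ U : Set B) := by
    rintro _ ⟨x, rfl⟩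
    change g (π x) ∈ U
    rw [← Scheme.Hom.comp_apply, hπ]
    have : hU.fromSpec x ∈ Set.range hU.fromSpec := ⟨x, rfl⟩
    rwa [hU.range_fromSpec] at this
  let π' : Spec Γ(W, U) ⟶ (g ⁻¹ᵁ U).toScheme :=
    IsOpenImmersion.lift (g ⁻¹ᵁ U).ι π (by simpa using hr)
  have h1 : π' ≫ (g ⁻¹ᵁ U).ι = π := IsOpenImmersion.lift_fac _ _ _
  have h2 : π' ≫ (g ∣_ U) = hU.isoSpec.inv := by
    rw [← cancel_mono U.ι, Category.assoc, morphismRestrict_ι, reassoc_of% h1, hπ]
    rfl
  have h3 : IsClosedImmersion (π' ≫ (g ∣_ U)) := by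
    rw [h2]
    infer_instance
  have h4 : IsSeparated (g ∣_ U) := inferInstance
  have h5 : IsClosedImmersion π' := IsClosedImmersion.of_comp _ (g ∣_ U)
  have h6 : hU.fromSpec ≫ w = π' ≫ (g ⁻¹ᵁ U).ι ≫ b := by
    rw [reassoc_of% h1, ← hg, reassoc_of% hπ]
  rw [h6]
  infer_instance

/-- **Local finiteness of the Hilbert scheme of points.** -/
theorem locallyOfFiniteType_hom (R : Type u) [CommRing R] {X : Scheme.{u}}
    (f : X ⟶ Spec (CommRingCat.of R)) [QuasiCompact f] [QuasiSeparated f]
    [LocallyOfFinitePresentation f] {d : ℕ} {H : Over (Spec (CommRingCat.of R))}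
    {Z : HilbD.Obj f d H} (hZ : HilbD.IsUniversal f d H Z) : LocallyOfFiniteType H.hom := by
  have key : ∀ {U : H.left.Opens} (hU : IsAffineOpen U),
      LocallyOfFiniteType (hU.fromSpec ≫ H.hom) := by
    intro U hU
    obtain ⟨φ, hφ⟩ := Spec.map_surjective (hU.fromSpec ≫ H.hom)
    let A : Type u := Γ(H.left, U)
    let : Algebra R A := φ.hom.toAlgebra
    let gT : PicLoc.spc R A ⟶ H := Over.homMk hU.fromSpec hφ.symm
    obtain ⟨C, Z₀, hC⟩ := exists_stage f (fgD R A) (fgC R A) (isLimitFgC R A)
      (haff := fun a => inferInstanceAs (IsAffine (Spec (CommRingCat.of a.unop.1))))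
      (pullObj f gT Z)
    obtain ⟨g₀, hg₀, -⟩ := hZ _ Z₀
    have h1 : (fgC R A).π.app C ≫ g₀ = gT := by
      apply hom_ext_of_isUniversal hZ
      rw [pull_comp, hg₀]
      exact hC
    have h2 : ((fgC R A).π.app C).left ≫ g₀.left = hU.fromSpec := congrArg (fun z => z.left) h1
    have h3 : IsAffine ((fgD R A).obj C).left :=
      inferInstanceAs (IsAffine (Spec (CommRingCat.of C.unop.1)))
    have h4 : LocallyOfFiniteType ((fgD R A).obj C).hom := by
      have h5 : Algebra.FiniteType R C.unop.1 := (Subalgebra.fg_iff_finiteType _).1 C.unop.2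
      change LocallyOfFiniteType (Spec.map (CommRingCat.ofHom (algebraMap R C.unop.1)))
      rw [HasRingHomProperty.Spec_iff (P := @LocallyOfFiniteType)]
      exact (RingHom.finiteType_algebraMap ..).2 h5
    exact locallyOfFiniteType_of_factor H.hom hU ((fgD R A).obj C).hom
      ((fgC R A).π.app C).left g₀.left (Over.w g₀) h2
  have : IsZariskiLocalAtSource @LocallyOfFiniteType.{u} :=
    HasRingHomProperty.instIsZariskiLocalAtSource (P := @LocallyOfFiniteType.{u})
  rw [IsZariskiLocalAtSource.iff_of_openCover (P := @LocallyOfFiniteType)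
    H.left.directedAffineCover]
  intro i
  change LocallyOfFiniteType (i.1.ι ≫ H.hom)
  have h := key i.2
  have e : i.1.ι ≫ H.hom = i.2.isoSpec.hom ≫ i.2.fromSpec ≫ H.hom := by
    rw [← Category.assoc]
    congr 1
    rw [← i.2.isoSpec_inv_ι, Iso.hom_inv_id_assoc]
  rw [e]
  infer_instance

end K994.Hlft
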