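import Groth.Agent.Picfga.HilbPull
import Groth.Agent.Picfga.ClosedMap
import Mathlib.AlgebraicGeometry.Morphisms.QuasiFinite
import Mathlib.RingTheory.Spectrum.Prime.FreeLocus
import Mathlib.AlgebraicGeometry.Noetherian

/-!
# Finite schemes over a field
-/

set_option autoImplicit false
universe u

open CategoryTheory CategoryTheory.Limits AlgebraicGeometry Opposite TopologicalSpace

namespace K994.Fin

variable {k : Type u} [Field k]

/-- The `k`-algebra structure of the global functions of a `k`-scheme. -/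
noncomputable def str {W : Scheme.{u}} (w : W ⟶ Spec (CommRingCat.of k)) : k →+* Γ(W, ⊤) :=
  w.appTop.hom.comp (Scheme.ΓSpecIso (CommRingCat.of k)).inv.hom

/-- The dimension of the space of global functions of a `k`-scheme. -/
noncomputable def dm {W : Scheme.{u}} (w : W ⟶ Spec (CommRingCat.of k)) : ℕ :=
  letI := (str w).toAlgebra
  Module.finrank k Γ(W, ⊤)

lemma eq_isoSpec_comp {W : Scheme.{u}} (w : W ⟶ Spec (CommRingCat.of k)) [IsAffine W] :
    w = W.isoSpec.hom ≫ Spec.map (CommRingCat.ofHom (str w)) := by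
  have h1 : CommRingCat.ofHom (str w) =
      (Scheme.ΓSpecIso (CommRingCat.of k)).inv ≫ w.appTop := rfl
  rw [h1, Spec.map_comp, Scheme.isoSpec_hom, ← Scheme.toSpecΓ_naturality_assoc,
    ← SpecMap_ΓSpecIso_hom, ← Spec.map_comp, Iso.inv_hom_id, Spec.map_id, Category.comp_id]

lemma finite_str {W : Scheme.{u}} (w : W ⟶ Spec (CommRingCat.of k)) [IsFinite w] :
    (str w).Finite := by
  have h : w.appTop.hom.Finite := w.finite_appTop
  exact h.comp (RingHom.Finite.of_surjective _
    (ConcreteCategory.bijective_of_isIso (Scheme.ΓSpecIso (CommRingCat.of k)).inv).2)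

lemma isFinite_of_finite_str {W : Scheme.{u}} (w : W ⟶ Spec (CommRingCat.of k)) [IsAffine W]
    (h : (str w).Finite) : IsFinite w := by
  rw [eq_isoSpec_comp w]
  have : IsFinite (Spec.map (CommRingCat.ofHom (str w))) := (IsFinite.SpecMap_iff _).2 h
  infer_instance

lemma isAffine_of_isFinite {W : Scheme.{u}} (w : W ⟶ Spec (CommRingCat.of k)) [IsFinite w] :
    IsAffine W := isAffine_of_isAffineHom w

lemma finrank_eq {W : Scheme.{u}} (w : W ⟶ Spec (CommRingCat.of k)) [IsFinite w]
    (y : Spec (CommRingCat.of k)) : w.finrank y = dm w := by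
  have := isAffine_of_isFinite w
  let := (str w).toAlgebra
  have hf : Module.Finite k Γ(W, ⊤) := finite_str w
  have h1 : IsFinite (Spec.map (CommRingCat.ofHom (str w))) :=
    (IsFinite.SpecMap_iff _).2 (finite_str w)
  have h2 : w.finrank = (Spec.map (CommRingCat.ofHom (str w))).finrank := by
    conv_lhs => rw [eq_isoSpec_comp w]
    exact Scheme.Hom.finrank_comp_left_of_isIso _ _
  rw [h2]
  refine (Scheme.Hom.finrank_SpecMap_algebraMap k Γ(W, ⊤) y).trans ?_
  rw [Module.rankAtStalk_eq_finrank_of_free]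
  rfl

lemma lofp {W : Scheme.{u}} (w : W ⟶ Spec (CommRingCat.of k)) [LocallyOfFiniteType w] :
    LocallyOfFinitePresentation w :=
  LocallyOfFinitePresentation.iff_locallyOfFiniteType.2 ‹_›

theorem isFinLocFreeOfDeg_iff {W : Scheme.{u}} (w : W ⟶ Spec (CommRingCat.of k)) (d : ℕ) :
    Mor2.IsFinLocFreeOfDeg d w ↔ IsFinite w ∧ dm w = d := by
  constructor
  · rintro ⟨⟨h1, -, -⟩, h2⟩
    obtain ⟨y⟩ : Nonempty (Spec (CommRingCat.of k)) := inferInstance
    exact ⟨h1, by rw [← h2 y, finrank_eq]⟩
  · rintro ⟨h1, h2⟩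
    exact ⟨⟨h1, inferInstance, lofp w⟩, fun y => by rw [finrank_eq, h2]⟩

end K994.Fin
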