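import Groth.Agent.TautSh.K994.EpiPt
import Groth.Agent.Ega3B.LocFree
import Groth.Agent.PerfC.PullRestrict
import Groth.Agent.FormalB.ModPowAff2

/-!
# Surjectivity of the evaluation map of a tautological sheaf
-/

set_option autoImplicit false
universe u

open CategoryTheory CategoryTheory.Limits AlgebraicGeometry Opposite TopologicalSpace
open AlgebraicGeometry.Scheme.Modules

namespace K994.EpiEv

open Groth.Agent.CohqA.PullbackUniv Groth.Agent.CohqA.PullbackSections
  Groth.Agent.CohqA.AffineBaseChange Groth.Agent.CohqA.PullbackAffine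
  Groth.Agent.CohqA.BaseChangeMod Groth.Agent.Picfga.HilbPull
  K994.Adj K994.Pt K994.Sec K994.Taut K994.Kpt K994.Sct K994.Core K994.Fin K994.EpiPt

theorem finite_of_comp {A B M : Type*} [CommRing A] [CommRing B] (φ : A →+* B) (hφ : φ.Finite)
    [AddCommGroup M] [Module A M] [Module B M] (h : ∀ (a : A) (m : M), a • m = φ a • m)
    (hM : Module.Finite B M) : Module.Finite A M := by
  let : Algebra A B := φ.toAlgebra
  have : IsScalarTower A B M := IsScalarTower.of_algebraMap_smul fun a m => (h a m).symm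
  have : Module.Finite A B := hφ
  exact Module.Finite.trans B M

/-- The sections of `p_* G` over an affine open are finite, for `p` finite and `G` finite locally
free. -/
theorem finite_push {Z W : Scheme.{u}} (p : Z ⟶ W) [IsFinite p] {G : Z.Modules}
    (hG : FlatMod.IsFinLocFree G) (hG' : Coh.IsQCoh G) {U : W.Opens} (hU : IsAffineOpen U) :
    Module.Finite Γ(W, U) Γ((pushforward p).obj G, U) := by
  have : G.IsQuasicoherent := hG'
  have h1 := (Groth.Agent.Ega3B.LocFree.finite_flat_sections G hG (hU.preimage p)).1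
  let : Module Γ(W, U) Γ(G, p ⁻¹ᵁ U) := (((pushforward p).obj G).val.obj (.op U)).isModule
  exact finite_of_comp (M := Γ(G, p ⁻¹ᵁ U)) (p.app U).hom (p.finite_app U hU) (fun _ _ => rfl) h1

variable {k : Type u} [Field k] [IsAlgClosed k] {X : Scheme.{u}} (f : X ⟶ Spec (CommRingCat.of k))

/-- **Surjectivity of the evaluation map**, when the parameter scheme is locally of finite type. -/
theorem epi_evalMap {L : X.Modules} (hL : FlatMod.IsFinLocFree L) (hLq : Coh.IsQCoh L)
    {d : ℕ} {H : Over (Spec (CommRingCat.of k))} [LocallyOfFiniteType H.hom] (Z : HilbD.Obj f d H)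
    (hva : ∀ I : X.IdealSheafData, Mor2.IsFinLocFreeOfDeg d (I.subschemeι ≫ f) →
      Function.Surjective (TautSh.resSect I L)) :
    Epi (TautSh.evalMap f H Z.1 L) := by
  have hfin : IsFinite (TautSh.famToH f H Z.1) := Z.2.1.1
  have hq : Coh.IsQCoh (TautSh.taut f H Z.1 L) := isQCoh_taut f (isAffineHom_famToH f Z) hLq
  have hLq' : L.IsQuasicoherent := hLq
  refine Groth.Agent.FormalB.ModPowAff2.epi_of_affine_cover hq _ fun x => ?_
  obtain ⟨U, hU, hxU, -⟩ := exists_isAffineOpen_mem_and_subset (U := ⊤) (x := x) trivial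
  refine ⟨U, hxU, hU, ?_⟩
  have hp : Coh.IsQCoh ((Scheme.Modules.pullback (TautSh.famToX f H Z.1)).obj L) :=
    Groth.Agent.CohqA.PullbackQCoh.isQuasicoherent_of_isUniv _ _
      (isUniv_pbUnit (TautSh.famToX f H Z.1) L)
  have hfs : Module.Finite Γ(H.left, U) Γ(TautSh.taut f H Z.1 L, U) :=
    finite_push (TautSh.famToH f H Z.1)
      (Groth.Agent.PerfC.PullRestrict.isFinLocFree_pullback _ hL) hp hU
  have key := span_eq_top H.hom hq hU hfs
    (Set.range fun x : Γ(L, ⊤) => (show Γ(TautSh.taut f H Z.1 L, ⊤) from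
      (TautSh.pushEval f H Z.1 L).app ⊤ x)) ?_
  · let ev := TautSh.evalMap f H Z.1 L
    let R : Submodule Γ(H.left, U) Γ(TautSh.taut f H Z.1 L, U) :=
      { carrier := Set.range (ev.app U)
        add_mem' := by
          rintro _ _ ⟨x, rfl⟩ ⟨y, rfl⟩
          exact ⟨x + y, map_add (ev.app U).hom x y⟩
        zero_mem' := ⟨0, map_zero (ev.app U).hom⟩
        smul_mem' := by
          rintro b _ ⟨x, rfl⟩
          exact ⟨b • x, (ev.val.app (.op U)).hom.map_smul b x⟩ }
    have hR : (⊤ : Submodule Γ(H.left, U) Γ(TautSh.taut f H Z.1 L, U)) ≤ R := by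
      rw [← key, Submodule.span_le]
      rintro _ ⟨_, ⟨y, rfl⟩, rfl⟩
      have h1 : TautSh.pushEval f H Z.1 L = pbUnit H.hom _ ≫ (pushforward H.hom).map ev := by
        rw [← tr_evalMap]
        rfl
      have h2 : (show Γ(TautSh.taut f H Z.1 L, ⊤) from (TautSh.pushEval f H Z.1 L).app ⊤ y) =
          ev.app ⊤ ((pbUnit H.hom _).app ⊤ y) := by
        rw [h1]
        rfl
      refine ⟨((Scheme.Modules.pullback H.hom).obj
        ((Scheme.Modules.pushforward f).obj L)).presheaf.map (homOfLE (le_top : U ≤ ⊤)).op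
          ((pbUnit H.hom _).app ⊤ y), ?_⟩
      refine (app_map ev (le_top : U ≤ ⊤) _).trans ?_
      exact congrArg _ h2.symm
    intro m
    exact hR (show m ∈ (⊤ : Submodule Γ(H.left, U) Γ(TautSh.taut f H Z.1 L, U)) from trivial)
  · intro x hx
    let g : T₀ (Spec (CommRingCat.of k)) ⟶ H := Over.homMk x hx
    obtain ⟨t, ht, hc⟩ := exists_isUniv f g Z.1 L (isAffineHom_famToH f Z) hLq
    obtain ⟨fa, da⟩ := isFinite_idl f Z g
    have h1 := hva (idl f (HilbD.pull f g Z.1)) ((isFinLocFreeOfDeg_iff _ d).2 ⟨fa, da⟩)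
    have h2 := rs_famToX_surjective hLq (HilbD.pull f g Z.1) h1
    refine ⟨_, t, ht, fun y => ?_⟩
    obtain ⟨z, hz⟩ := pushEval_surj f g h2 y
    refine ⟨_, ⟨z, rfl⟩, ?_⟩
    rw [← hz, ← hc]
    exact (app_top_congr (Over.w g) (compMap (TautSh.pushEval f H Z.1 L) t) z).symm

end K994.EpiEv
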