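import Groth.Agent.TautSh.K994.Core

/-!
# Supplements for the secant map of the Hilbert scheme of two points
-/

set_option autoImplicit false
universe u

open CategoryTheory CategoryTheory.Limits AlgebraicGeometry Opposite TopologicalSpace
open AlgebraicGeometry.Scheme.Modules

namespace K994.Core2

open Groth.Agent.CohqA.PullbackUniv Groth.Agent.CohqA.PullbackSections
  Groth.Agent.CohqA.AffineBaseChange Groth.Agent.CohqA.PullbackAffine
  Groth.Agent.Fdesc.LocGen K994.Adj K994.Pt K994.PB K994.Sec K994.Fin K994.Fin2 K994.Fin3 K994.Fin4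
  K994.Taut K994.Kpt K994.Sct Groth.Agent.Picfga.HilbPull K994.Core

variable {k : Type u} [Field k] {X : Scheme.{u}} (f : X ⟶ Spec (CommRingCat.of k))

/-- A scheme finite over a field with one-dimensional ring of functions is the base. -/
lemma isIso_of_dm_eq_one {W : Scheme.{u}} (w : W ⟶ Spec (CommRingCat.of k)) [IsFinite w]
    (h : dm w = 1) : IsIso w := by
  obtain ⟨⟨-, h2, h3⟩, h4⟩ := (isFinLocFreeOfDeg_iff w 1).2 ⟨inferInstance, h⟩
  rw [Scheme.Hom.isIso_iff_finrank_eq]
  ext y
  exact h4 y

/-- An integral scheme of finite type over an algebraically closed field which contains a finite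
closed subscheme of degree at least two has more than one point. -/
theorem nontrivial_of_le_dm [IsAlgClosed k] [IsIntegral X] [LocallyOfFiniteType f]
    (J : X.IdealSheafData) (hJ : 2 ≤ dm (J.subschemeι ≫ f)) : Nontrivial X := by
  by_contra hcon
  rw [not_nontrivial_iff_subsingleton] at hcon
  have h2 : QuasiCompact f := by
    rw [quasiCompact_iff_compactSpace]
    infer_instance
  have h3 : LocallyQuasiFinite f :=
    LocallyQuasiFinite.of_finite_preimage_singleton _ fun x => Set.toFinite _
  have h4 : IsFinite f := IsFinite.of_locallyQuasiFinite _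
  have h5 : IsAffine X := isAffine_of_isFinite f
  have h6 := dm_le f J.subschemeι
  have h7 : dm f = 1 := by
    let := (str f).toAlgebra
    have hf : Module.Finite k Γ(X, ⊤) := finite_str f
    have hb : Function.Bijective (algebraMap k Γ(X, ⊤)) :=
      IsAlgClosed.algebraMap_bijective_of_isIntegral
    have h := LinearEquiv.finrank_eq (LinearEquiv.ofBijective (Algebra.linearMap k Γ(X, ⊤)) hb)
    rw [Module.finrank_self] at h
    exact h.symm
  omega

/-- The kernel attached to the image of a point `x` under the morphism of the complete linear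
system. -/
theorem K'_linSys {S : Scheme.{u}} {X : Scheme.{u}} (f : X ⟶ S) (L : X.Modules) {P : Scheme.{u}}
    {π : P ⟶ S} {O1 : P.Modules}
    {qP : (Scheme.Modules.pullback π).obj ((pushforward f).obj L) ⟶ O1} {φ : X ⟶ P}
    (hφ : TautSh.IsMapOfQuot π ((pushforward f).obj L) O1 qP f L (TautSh.linSysQuot f L) φ)
    (x : S ⟶ X) (s : Γ(L, ⊤)) :
    (show Γ((pushforward f).obj L, ⊤) from s) ∈ K' π O1 qP (x ≫ φ) ↔ s ∈ kr (pbUnit x L) := by
  rw [K'_comp hφ, tr_linSysQuot, mem_kr_compMap]
  rfl

end K994.Core2
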