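import Groth.Agent.TautSh.K994.Sec

/-!
# `k`-points of Hilbert schemes of points and finite closed subschemes
-/

set_option autoImplicit false
universe u

open CategoryTheory CategoryTheory.Limits AlgebraicGeometry Opposite TopologicalSpace
open AlgebraicGeometry.Scheme.Modules

namespace K994.Kpt

open Groth.Agent.CohqA.PullbackUniv Groth.Agent.CohqA.PullbackSections
  Groth.Agent.CohqA.AffineBaseChange Groth.Agent.CohqA.PullbackAffine
  Groth.Agent.Fdesc.LocGen K994.Adj K994.Pt K994.Fin K994.Fin2 K994.Fin3 K994.Fin4 K994.Sec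
  K994.Taut Groth.Agent.Picfga.ClosedMap Groth.Agent.Picfga.HilbPull

variable {X S : Scheme.{u}} (f : X ⟶ S)

/-- The base as an object over itself. -/
noncomputable abbrev T₀ (S : Scheme.{u}) : Over S := Over.mk (𝟙 S)

/-- The projection `X ×_S S ⟶ X`. -/
noncomputable abbrev pr : PicF.XT f (T₀ S) ⟶ X := pullback.fst f (T₀ S).hom

instance : IsIso (pr f) := by
  have : IsIso (T₀ S).hom := inferInstanceAs (IsIso (𝟙 S))
  infer_instance

/-- The closed subscheme of `X` attached to a closed subscheme of `X ×_S S`. -/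
noncomputable def idl (I : (PicF.XT f (T₀ S)).IdealSheafData) : X.IdealSheafData := I.map (pr f)

lemma idl_injective : Function.Injective (idl f) := map_injective (pr f)

lemma idl_comap (J : X.IdealSheafData) : idl f (J.comap (pr f)) = J :=
  map_comap (pr f) (by rw [Scheme.Hom.ker_eq_bot_of_isIso]; exact bot_le)

lemma exists_iso (I : (PicF.XT f (T₀ S)).IdealSheafData) :
    ∃ e : I.subscheme ≅ (idl f I).subscheme,
      e.hom ≫ (idl f I).subschemeι = TautSh.famToX f (T₀ S) I :=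
  exists_iso_map (pr f) I

lemma famToH_eq (I : (PicF.XT f (T₀ S)).IdealSheafData) :
    TautSh.famToH f (T₀ S) I = TautSh.famToX f (T₀ S) I ≫ f := by
  have h : TautSh.famToH f (T₀ S) I ≫ (T₀ S).hom = TautSh.famToH f (T₀ S) I := Category.comp_id _
  rw [TautSh.famToX_comp, h]

lemma isFinLocFreeOfDeg_idl_iff (d : ℕ) (I : (PicF.XT f (T₀ S)).IdealSheafData) :
    Mor2.IsFinLocFreeOfDeg d ((idl f I).subschemeι ≫ f) ↔
      Mor2.IsFinLocFreeOfDeg d (I.subschemeι ≫ PicF.XTproj f (T₀ S)) := by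
  obtain ⟨e, he⟩ := exists_iso f I
  have h1 : I.subschemeι ≫ PicF.XTproj f (T₀ S) = e.hom ≫ (idl f I).subschemeι ≫ f := by
    rw [← Category.assoc, he]
    exact famToH_eq f I
  rw [h1]
  constructor
  · exact fun h => isFinLocFreeOfDeg_comp_iso h
  · intro h
    have := isFinLocFreeOfDeg_comp_iso (e := e.inv) h
    rwa [Iso.inv_hom_id_assoc] at this

/-- The point of `Hilb^d` over the base attached to a closed subscheme of `X`. -/
noncomputable def ofIdl {d : ℕ} (J : X.IdealSheafData)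
    (hJ : Mor2.IsFinLocFreeOfDeg d (J.subschemeι ≫ f)) : HilbD.Obj f d (T₀ S) :=
  ⟨J.comap (pr f), by
    rw [← isFinLocFreeOfDeg_idl_iff, idl_comap]
    exact hJ⟩

section Kr

variable (L : X.Modules)

lemma kr_pbUnit_le {V W : Scheme.{u}} {i : V ⟶ X} {i' : W ⟶ X} (j : W ⟶ V) (h : j ≫ i = i') :
    kr (pbUnit i L) ≤ kr (pbUnit i' L) := by
  have h1 : IsUniv i' (compMap (pbUnit i L) (pbUnit j _) ≫ (pushforwardCongr h).hom.app _) := by
    rw [isUniv_congr]
    exact (isUniv_pbUnit _ _).comp (isUniv_pbUnit _ _)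
  rw [kr_eq_of_isUniv (isUniv_pbUnit i' L) h1, kr_congr]
  intro x hx
  rw [mem_kr_compMap]
  rw [mem_kr] at hx ⊢
  refine (congrArg ((pbUnit j _).app ⊤) hx).trans ?_
  exact map_zero _

lemma kr_pbUnit_eq {V W : Scheme.{u}} {i : V ⟶ X} {i' : W ⟶ X} (e : W ≅ V) (h : e.hom ≫ i = i') :
    kr (pbUnit i L) = kr (pbUnit i' L) :=
  le_antisymm (kr_pbUnit_le L e.hom h)
    (kr_pbUnit_le L e.inv (by rw [← h, Iso.inv_hom_id_assoc]))

/-- If the restriction of sections to an affine `W` is surjective, so is the restriction to any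
closed subscheme of `W`. -/
lemma rs_surjective_of_closed {V W : Scheme.{u}} [IsAffine W] {i : W ⟶ X} {i' : V ⟶ X} (j : V ⟶ W)
    [IsClosedImmersion j] (h : j ≫ i = i') (hL : Coh.IsQCoh L)
    (hs : Function.Surjective (rs i L)) : Function.Surjective (rs i' L) := by
  subst h
  have : L.IsQuasicoherent := hL
  have hM : Coh.IsQCoh ((Scheme.Modules.pullback i).obj L) :=
    Groth.Agent.CohqA.PullbackQCoh.isQuasicoherent_of_isUniv _ _ (isUniv_pbUnit i L)
  have h1 : IsUniv (j ≫ i) (compMap (pbUnit i L) (pbUnit j _)) :=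
    (isUniv_pbUnit _ _).comp (isUniv_pbUnit _ _)
  obtain ⟨e, he, -⟩ := h1.exists_iso (isUniv_pbUnit (j ≫ i) L)
  have h2 : Function.Surjective ((pbUnit j ((Scheme.Modules.pullback i).obj L)).app ⊤) :=
    app_top_surjective j hM _ (isUniv_pbUnit _ _)
  intro y
  obtain ⟨y', hy'⟩ : ∃ y', e.hom.app ⊤ y' = y := by
    refine ⟨e.inv.app ⊤ y, ?_⟩
    have := congr(($(e.inv_hom_id)).app ⊤ y)
    exact this
  obtain ⟨m, hm⟩ := h2 y'
  obtain ⟨x, hx⟩ := hs m
  refine ⟨x, ?_⟩
  have h3 := congr(($he).app ⊤ x)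
  refine Eq.trans h3.symm ?_
  refine Eq.trans ?_ hy'
  exact congrArg (e.hom.app ⊤) ((congrArg ((pbUnit j _).app ⊤) hx).trans hm)

end Kr

/-- The kernel of the evaluation map on the base is the space of sections vanishing on the closed
subscheme. -/
lemma kr_pushEval (L : X.Modules) (I : (PicF.XT f (T₀ S)).IdealSheafData) (x : Γ(L, ⊤)) :
    (show Γ((pushforward f).obj L, ⊤) from x) ∈ kr (TautSh.pushEval f (T₀ S) I L) ↔
      x ∈ kr (pbUnit (idl f I).subschemeι L) := by
  obtain ⟨e, he⟩ := exists_iso f I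
  rw [kr_pbUnit_eq L e he, mem_kr, mem_kr]
  have h := pushEval_app_top f (H := T₀ S) I L x
  exact Iff.of_eq (congrArg (fun z => z = 0) h)

end K994.Kpt
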