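import Groth.Agent.TautSh.K994.Sct

/-!
# The common core of the injectivity statements for secant maps
-/

set_option autoImplicit false
universe u

open CategoryTheory CategoryTheory.Limits AlgebraicGeometry Opposite TopologicalSpace
open AlgebraicGeometry.Scheme.Modules

namespace K994.Core

open Groth.Agent.CohqA.PullbackUniv Groth.Agent.CohqA.PullbackSections
  Groth.Agent.CohqA.AffineBaseChange Groth.Agent.CohqA.PullbackAffine
  Groth.Agent.Fdesc.LocGen K994.Adj K994.Pt K994.PB K994.Sec K994.Fin K994.Fin2 K994.Fin3 K994.Fin4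
  K994.Taut K994.Kpt K994.Sct Groth.Agent.Picfga.HilbPull

variable {k : Type u} [Field k] {X : Scheme.{u}} (f : X ⟶ Spec (CommRingCat.of k))

lemma isField_Γ : IsField Γ(Spec (CommRingCat.of k), ⊤) :=
  (Scheme.ΓSpecIso (CommRingCat.of k)).commRingCatIsoToRingEquiv.toMulEquiv.isField
    (Field.toIsField k)

lemma isFinite_of_le {I J : X.IdealSheafData} (h : I ≤ J) [IsFinite (I.subschemeι ≫ f)] :
    IsFinite (J.subschemeι ≫ f) := by
  rw [← inc_comp f h]
  infer_instance

variable {f} in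
lemma eq_of_le_of_dm_le {I J : X.IdealSheafData} (h : I ≤ J) [IsFinite (I.subschemeι ≫ f)]
    (hdm : dm (I.subschemeι ≫ f) ≤ dm (J.subschemeι ≫ f)) : I = J := by
  have := isAffine_of_isFinite (I.subschemeι ≫ f)
  have hi : IsIso (inc h) := by
    apply isIso_of_dm_le (I.subschemeι ≫ f)
    rwa [inc_comp]
  have h1 := inc_ker h
  rw [Scheme.Hom.ker_eq_bot_of_isIso, Scheme.IdealSheafData.map_bot,
    Scheme.IdealSheafData.ker_subschemeι] at h1
  exact h1

section VeryAmple

variable [LocallyOfFiniteType f] [IsAlgClosed k] [IrreducibleSpace X] [Nontrivial X]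

/-- The surjectivity in `TautSh.IsKVeryAmple`, for all finite closed subschemes of degree at most
`N`. -/
theorem rs_surjective {L : X.Modules} (hL : Coh.IsQCoh L) {N : ℕ}
    (hva : ∀ I : X.IdealSheafData, Mor2.IsFinLocFreeOfDeg N (I.subschemeι ≫ f) →
      Function.Surjective (TautSh.resSect I L)) (J : X.IdealSheafData)
    [IsFinite (J.subschemeι ≫ f)] (hJ : dm (J.subschemeι ≫ f) ≤ N) :
    Function.Surjective (rs J.subschemeι L) := by
  obtain ⟨J', h1, h2, h3⟩ := exists_enlarge f J N hJ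
  have h4 := hva J' ((isFinLocFreeOfDeg_iff _ N).2 ⟨h2, h3⟩)
  have := isAffine_of_isFinite (J'.subschemeι ≫ f)
  exact rs_surjective_of_closed L (inc h1) (Scheme.IdealSheafData.inclusion_subschemeι h1) hL h4

end VeryAmple

section

variable {H : Over (Spec (CommRingCat.of k))} {d : ℕ} (Z : HilbD.Obj f d H)

lemma isAffineHom_famToH : IsAffineHom (TautSh.famToH f H Z.1) := by
  have : IsFinite (TautSh.famToH f H Z.1) := Z.2.1.1
  infer_instance

lemma isFinite_idl (g : T₀ (Spec (CommRingCat.of k)) ⟶ H) :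
    IsFinite ((idl f (HilbD.pull f g Z.1)).subschemeι ≫ f) ∧
      dm ((idl f (HilbD.pull f g Z.1)).subschemeι ≫ f) = d := by
  rw [← isFinLocFreeOfDeg_iff, isFinLocFreeOfDeg_idl_iff]
  exact isFinLocFreeOfDeg_pull f g Z.2

variable {f} in
lemma rs_famToX_surjective {L : X.Modules} (hL : Coh.IsQCoh L)
    (I : (PicF.XT f (T₀ (Spec (CommRingCat.of k)))).IdealSheafData)
    [IsFinite ((idl f I).subschemeι ≫ f)]
    (h : Function.Surjective (rs (idl f I).subschemeι L)) :
    Function.Surjective (rs (TautSh.famToX f (T₀ (Spec (CommRingCat.of k))) I) L) := by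
  obtain ⟨e, he⟩ := exists_iso f I
  have := isAffine_of_isFinite ((idl f I).subschemeι ≫ f)
  exact rs_surjective_of_closed L e.hom he hL h

end

section Main

variable [LocallyOfFiniteType f] [IsAlgClosed k] [IrreducibleSpace X] [Nontrivial X]
  {L : X.Modules} (hL : Coh.IsQCoh L) {n : ℕ}
  (hva : ∀ I : X.IdealSheafData, Mor2.IsFinLocFreeOfDeg (2 * n + 1 + 1) (I.subschemeι ≫ f) →
      Function.Surjective (TautSh.resSect I L))
  {H : Over (Spec (CommRingCat.of k))} {Z : HilbD.Obj f (n + 1) H}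
  (hU : HilbD.IsUniversal f (n + 1) H Z)
  {PE : Scheme.{u}} {πE : PE ⟶ H.left} {OE : PE.Modules}
  {qE : (Scheme.Modules.pullback πE).obj (TautSh.taut f H Z.1 L) ⟶ OE}
  (hPE : KRR.IsProjBundle πE (TautSh.taut f H Z.1 L) OE qE)

omit [IsAlgClosed k] [IrreducibleSpace X] [Nontrivial X] [LocallyOfFiniteType f] in
include hPE hL in
lemma kr_le_K (g : T₀ (Spec (CommRingCat.of k)) ⟶ H) {a : Spec (CommRingCat.of k) ⟶ PE}
    (ha : a ≫ πE = g.left) :
    kr (pbUnit (idl f (HilbD.pull f g Z.1)).subschemeι L) ≤ K f Z.1 L πE OE qE a := by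
  obtain ⟨t, ht, hc⟩ := exists_isUniv f g Z.1 L (isAffineHom_famToH f Z) hL
  obtain ⟨s, -, -, hs⟩ := exists_s f hPE g ht hc a ha
  intro x hx
  refine (hs x).2 ?_
  have h1 := (kr_pushEval f L (HilbD.pull f g Z.1) x).2 hx
  exact (congrArg (fun z => s.app ⊤ z) h1).trans (map_zero (s.app ⊤).hom)

include hL hva hU hPE in
/-- The core of the argument. -/
theorem core {a b : Spec (CommRingCat.of k) ⟶ PE} (ha : a ≫ πE ≫ H.hom = 𝟙 _)
    (hb : b ≫ πE ≫ H.hom = 𝟙 _) (hK : K f Z.1 L πE OE qE a = K f Z.1 L πE OE qE b)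
    (hab : a ≠ b) :
    ∃ I₃ : X.IdealSheafData, IsFinite (I₃.subschemeι ≫ f) ∧ dm (I₃.subschemeι ≫ f) = n ∧
      Function.Surjective (rs I₃.subschemeι L) ∧
      kr (pbUnit I₃.subschemeι L) ≤ K f Z.1 L πE OE qE a := by
  let ga : T₀ (Spec (CommRingCat.of k)) ⟶ H := Over.homMk (a ≫ πE) (by simpa using ha)
  let gb : T₀ (Spec (CommRingCat.of k)) ⟶ H := Over.homMk (b ≫ πE) (by simpa using hb)
  obtain ⟨fa, da⟩ := isFinite_idl f Z ga
  obtain ⟨fb, db⟩ := isFinite_idl f Z gb
  have ra := rs_surjective f hL hva (idl f (HilbD.pull f ga Z.1)) (by omega)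
  have ka := kr_le_K f hL hPE ga (a := a) rfl
  have kb := kr_le_K f hL hPE gb (a := b) rfl
  rw [← hK] at kb
  have hne : idl f (HilbD.pull f ga Z.1) ≠ idl f (HilbD.pull f gb Z.1) := by
    intro h
    have h1 := idl_injective f h
    have h2 : ga = gb := hom_ext_of_isUniversal hU h1
    have h3 : b ≫ πE = ga.left := by rw [h2]; rfl
    exact hab (eq_of_K_le f isField_Γ hPE (isAffineHom_famToH f Z) hL ga
      (rs_famToX_surjective hL _ ra) rfl h3 hK.le)
  generalize idl f (HilbD.pull f ga Z.1) = Ja at *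
  generalize idl f (HilbD.pull f gb Z.1) = Jb at *
  have hle : ¬ Jb ≤ Ja := fun h => hne (eq_of_le_of_dm_le (f := f) h (by omega)).symm
  have hfi := isFinite_inf f Ja Jb
  obtain ⟨I₀, h0, h0f, h0d⟩ := exists_enlarge f (Ja ⊓ Jb) (2 * n + 1 + 1) (by
    have := dm_inf_le f Ja Jb
    omega)
  have h0a := h0.trans inf_le_left
  have h0b := h0.trans inf_le_right
  obtain ⟨I₃, h3a, h3, h3d⟩ := exists_intermediate f h0a h0b hle
  have hf3 : IsFinite (I₃.subschemeι ≫ f) := isFinite_of_le f h3a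
  have := isAffine_of_isFinite (I₀.subschemeι ≫ f)
  refine ⟨I₃, hf3, by omega, rs_surjective f hL hva I₃ (by omega), ?_⟩
  exact kr_le h0a h0b (h0a.trans h3a) h3 hL (rs_surjective f hL hva I₀ h0d.le) _ ka kb

end Main

end K994.Core
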