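import Groth.Agent.TautSh.K994.DegMl
import Groth.Agent.TautSh.K83.SplitMono

/-!
# A uniform bound for the slopes of invertible submodules

`isMuSt_of_lt`: if `rk E * deg_h G < deg_h E` for all invertible `G` with a nonzero map to `E` (`h` the pull-back of an
ample class), then for all large `N` the same holds with respect to `h^N ⊗ D` as soon as it is ample.
-/

set_option autoImplicit false
universe u
open CategoryTheory CategoryTheory.Limits AlgebraicGeometry Polynomial

namespace K994.Unif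

open Groth.Agent Groth.Agent.Ega2 Groth.Agent.Fga.PicMon Groth.Agent.Grpsch.PicGrp Groth.Agent.Fga.SnapperTwist
open K909.InterML K848.Hull K848.Rank K848.Stab K848.HB K848.Poly StabCat K396.Taut K396.Push K396.Bd K994.DegMl

section comp

variable {X : Scheme.{u}}

theorem mono_of_pull_id {M N : X.Modules} (i : M ⟶ N) (h : Mono ((Scheme.Modules.pullback (𝟙 X)).map i)) : Mono i := by
  have h1 := (Scheme.Modules.pullbackId X).inv.naturality i
  have h2 : Mono ((Scheme.Modules.pullbackId X).inv.app M ≫ (Scheme.Modules.pullback (𝟙 X)).map i) := inferInstance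
  have h3 : i ≫ (Scheme.Modules.pullbackId X).inv.app N =
      (Scheme.Modules.pullbackId X).inv.app M ≫ (Scheme.Modules.pullback (𝟙 X)).map i := h1
  rw [← h3] at h2
  exact mono_of_mono i ((Scheme.Modules.pullbackId X).inv.app N)

theorem exists_coord {s : ℕ} {B G : X.Modules} (φ : G ⟶ ∐ fun _ : Fin s => B) (hφ : φ ≠ 0) :
    ∃ f : G ⟶ B, f ≠ 0 := by
  have : HasFiniteBiproducts X.Modules := Abelian.hasFiniteBiproducts
  let e : (∐ fun _ : Fin s => B) ≅ ∏ᶜ fun _ : Fin s => B :=
    (biproduct.isoCoproduct _).symm ≪≫ biproduct.isoProduct _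
  by_contra hcon
  push Not at hcon
  apply hφ
  rw [← cancel_mono e.hom, Limits.zero_comp]
  refine Limits.Pi.hom_ext _ _ fun j => ?_
  rw [hcon ((φ ≫ e.hom) ≫ Pi.π _ j), Limits.zero_comp]

/-- Non-zero maps to a finite locally free module give non-zero maps to a fixed invertible module. -/
theorem exists_target (k : Type u) [Field k] (X : Scheme.{u}) [X.Over (Spec (CommRingCat.of k))]
    [IsProper (X ↘ Spec (CommRingCat.of k))] (A : X.Modules) (hA : CohB1.IsAmple A) (E : X.Modules)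
    (hE : FlatMod.IsFinLocFree E) :
    ∃ (B : X.Modules) (_ : PicF.IsInvertible B), ∀ (G : X.Modules) (φ : G ⟶ E), φ ≠ 0 → ∃ f : G ⟶ B, f ≠ 0 := by
  obtain ⟨m, s, i, hi⟩ := K83.SplitMono.exists_split_mono k X A hA E hE
  have hmono : Mono i := mono_of_pull_id i (hi (𝟙 X))
  refine ⟨_, Fdesc.LocGen.isInvertible_tensorPow hA.1 m, fun G φ hφ => exists_coord (φ ≫ i) fun h => hφ ?_⟩
  rw [← cancel_mono i, h, Limits.zero_comp]

end comp

section main

variable (k : Type u) [Field k] {H Y : Scheme.{u}} [H.Over (Spec (CommRingCat.of k))]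
  [IsProper (H ↘ Spec (CommRingCat.of k))] [IsIntegral H]
variable (gY : Y ⟶ Spec (CommRingCat.of k)) [IsProper gY] (ρ : H ⟶ Y) (hρ : ρ ≫ gY = H ↘ Spec (CommRingCat.of k))
  (M : Y.Modules) (hM : CohB1.IsAmple M) {r : ℕ} (hn : topologicalKrullDim H = (r + 1 : ℕ))

include hρ hn in
/-- Non-zero maps of invertible modules increase the mixed degrees. -/
theorem dg_le {A : H.Modules} (hA : CohB1.IsAmple A) {G B : H.Modules} (hG : PicF.IsInvertible G)
    (hB : PicF.IsInvertible B) (f : G ⟶ B) (hf : f ≠ 0) (c : Fin r → Pic H)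
    (hc : ∀ j, c j = pull ρ (mk M hM.1) ∨ c j = mk A hA.1) :
    dg k H (r + 1) G c ≤ dg k H (r + 1) B c := by
  let : Y.Over (Spec (CommRingCat.of k)) := ⟨gY⟩
  have : IsProper (Y ↘ Spec (CommRingCat.of k)) := inferInstanceAs (IsProper gY)
  have nH := isNoetherian_of_proper k H
  have hd : topologicalKrullDim H ≤ (r + 1 : ℕ) := hn.le
  have hmono : Mono f := K704.InvHom.mono_of_ne_zero hG hB f hf
  have hGc := isCoh_of_isInvertible hG
  have hBc := isCoh_of_isInvertible hB
  have hC : Coh.IsCoh (cokernel f) := Sga67.CohBasic.isCoh_cokernel _ hGc.1 hBc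
  have hS : (ShortComplex.mk f (cokernel.π f) (cokernel.condition _)).ShortExact :=
    { exact := ShortComplex.exact_cokernel _
      mono_f := hmono
      epi_g := inferInstanceAs (Epi (cokernel.π f)) }
  have hrG : rk G = 1 := rk_structureModule_of_isInvertible hG
  have hrB : rk B = 1 := rk_structureModule_of_isInvertible hB
  have hgen := generic_notMem_support_cokernel f hBc hGc (by rw [hrG, hrB])
  have hdim : topologicalKrullDim (CohB1.support (cokernel f)) ≤ r := by
    have := le_pred_of_add_one_le (dim_support_le_pred hn hC hgen)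
    simpa using this
  have h1 := nonneg_mix k ρ hρ hM hA (r + 1) hd r (cokernel f) hC hdim c hc
  have h2 := isAdd_inter k H (r + 1) hd c _ hS hGc hBc hC
  dsimp only at h2
  unfold dg
  rw [hrG, hrB, h2]
  linarith

include hρ hn in
theorem exists_N0 {D : H.Modules} (hD : PicF.IsInvertible D) (hr : 1 ≤ r) (E : H.Modules) (hE : FlatMod.IsFinLocFree E)
    (hlt : ∀ (G : H.Modules) (_ : PicF.IsInvertible G) (φ : G ⟶ E), φ ≠ 0 →
      (rk E : ℤ) * dg k H (r + 1) G (fun _ : Fin r => pull ρ (mk M hM.1)) <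
        dg k H (r + 1) E (fun _ : Fin r => pull ρ (mk M hM.1))) :
    ∃ N0 : ℕ, ∀ N : ℕ, N0 ≤ N →
      CohB1.IsAmple (CohB1.tensorMod (CohB1.tensorPow ((Scheme.Modules.pullback ρ).obj M) N) D) →
      ∀ (G : H.Modules) (_ : PicF.IsInvertible G) (φ : G ⟶ E), φ ≠ 0 →
        (rk E : ℤ) * dg k H (r + 1) G (fun _ : Fin r => mk _ (isInv_pol ρ M D hM.1 hD N)) <
          dg k H (r + 1) E (fun _ : Fin r => mk _ (isInv_pol ρ M D hM.1 hD N)) := by
  classical
  by_cases hex : ∃ N1, CohB1.IsAmple (CohB1.tensorMod (CohB1.tensorPow ((Scheme.Modules.pullback ρ).obj M) N1) D)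
  swap
  · exact ⟨0, fun N _ h => absurd ⟨N, h⟩ hex⟩
  obtain ⟨N1, hA⟩ := hex
  have hd : topologicalKrullDim H ≤ (r + 1 : ℕ) := hn.le
  have hEc : Coh.IsCoh E := PerfA.CohSerre.isCoh_of_isFinLocFree hE
  obtain ⟨B, hB, hBf⟩ := exists_target k H _ hA E hE
  set h := pull ρ (mk M hM.1) with hh
  set a := mk _ (isInv_pol ρ M D hM.1 hD N1) with ha
  let cs : Finset (Fin r) → (Fin r → Pic H) := fun s => s.piecewise (fun _ => h) (fun _ => a)
  let K : ℤ := ∑ s : Finset (Fin r), |(rk E : ℤ) * dg k H (r + 1) B (cs s) - dg k H (r + 1) E (cs s)|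
  have hK : 0 ≤ K := Finset.sum_nonneg fun s _ => abs_nonneg _
  refine ⟨N1 + (K.toNat + 1), fun N hN _ G hG φ hφ => ?_⟩
  obtain ⟨t, rfl⟩ : ∃ t, N = N1 + t := ⟨N - N1, by omega⟩
  have ht : K + 1 ≤ (t : ℤ) := by
    have : K.toNat + 1 ≤ t := by omega
    have h2 := Int.toNat_of_nonneg hK
    omega
  have ht1 : (1 : ℤ) ≤ t := by linarith
  have hGc := isCoh_of_isInvertible hG
  obtain ⟨f, hf⟩ := hBf G φ hφ
  rw [mk_pol ρ M D hM.1 hD N1 t, dg_expand k H (r + 1) hd hn G hGc, dg_expand k H (r + 1) hd hn E hEc, ← sub_neg,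
    Finset.mul_sum, ← Finset.sum_sub_distrib]
  have key : ∀ s ∈ (Finset.univ : Finset (Finset (Fin r))),
      ((rk E : ℤ) * ((t : ℤ) ^ s.card * dg k H (r + 1) G (cs s)) - (t : ℤ) ^ s.card * dg k H (r + 1) E (cs s)) ≤
        (if s = Finset.univ then -(t : ℤ) ^ r else 0) +
        (t : ℤ) ^ (r - 1) * |(rk E : ℤ) * dg k H (r + 1) B (cs s) - dg k H (r + 1) E (cs s)| := by
    intro s _
    by_cases hs : s = Finset.univ
    · rw [if_pos hs]
      have hcs : cs s = fun _ => h := by
        simp only [cs, hs, Finset.piecewise_univ]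
      have hcard : s.card = r := by rw [hs, Finset.card_univ, Fintype.card_fin]
      rw [hcs, hcard]
      have h1 := hlt G hG φ hφ
      have h2 : (0 : ℤ) ≤ (t : ℤ) ^ (r - 1) *
          |(rk E : ℤ) * dg k H (r + 1) B (fun _ : Fin r => h) - dg k H (r + 1) E (fun _ : Fin r => h)| :=
        mul_nonneg (by positivity) (abs_nonneg _)
      have h3 : (rk E : ℤ) * dg k H (r + 1) G (fun _ : Fin r => h) - dg k H (r + 1) E (fun _ : Fin r => h) ≤ -1 := by
        linarith
      have h4 : (0 : ℤ) ≤ (t : ℤ) ^ r := by positivity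
      have h5 := mul_le_mul_of_nonneg_left h3 h4
      linarith
    · rw [if_neg hs, zero_add]
      have hcard : s.card ≤ r - 1 := by
        have h4 : s.card < r := by
          have h5 := Finset.card_lt_card (Finset.ssubset_univ_iff.mpr hs)
          simpa using h5
        omega
      have h1 := dg_le k gY ρ hρ M hM hn hA hG hB f hf (cs s) fun j => by
        by_cases hj : j ∈ s
        · exact Or.inl (Finset.piecewise_eq_of_mem _ _ _ hj)
        · exact Or.inr (Finset.piecewise_eq_of_notMem _ _ _ hj)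
      have h2 : (rk E : ℤ) * dg k H (r + 1) G (cs s) ≤ (rk E : ℤ) * dg k H (r + 1) B (cs s) :=
        mul_le_mul_of_nonneg_left h1 (by positivity)
      have h3 : (t : ℤ) ^ s.card ≤ (t : ℤ) ^ (r - 1) := pow_le_pow_right₀ ht1 hcard
      calc (rk E : ℤ) * ((t : ℤ) ^ s.card * dg k H (r + 1) G (cs s)) - (t : ℤ) ^ s.card * dg k H (r + 1) E (cs s)
          = (t : ℤ) ^ s.card * ((rk E : ℤ) * dg k H (r + 1) G (cs s) - dg k H (r + 1) E (cs s)) := by ring
        _ ≤ (t : ℤ) ^ s.card * |(rk E : ℤ) * dg k H (r + 1) B (cs s) - dg k H (r + 1) E (cs s)| := by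
            refine mul_le_mul_of_nonneg_left (le_trans ?_ (le_abs_self _)) (by positivity)
            linarith
        _ ≤ _ := mul_le_mul_of_nonneg_right h3 (abs_nonneg _)
  refine lt_of_le_of_lt (Finset.sum_le_sum key) ?_
  rw [Finset.sum_add_distrib, Finset.sum_ite_eq' Finset.univ, if_pos (Finset.mem_univ _), ← Finset.mul_sum]
  have h6 : (t : ℤ) ^ r = (t : ℤ) ^ (r - 1) * t := by
    rw [← pow_succ, Nat.sub_add_cancel hr]
  rw [h6]
  have h7 : (0 : ℤ) < (t : ℤ) ^ (r - 1) := by positivity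
  have h8 : (∑ s : Finset (Fin r), |(rk E : ℤ) * dg k H (r + 1) B (cs s) - dg k H (r + 1) E (cs s)|) = K := rfl
  rw [h8]
  nlinarith

include hρ hn in
theorem isMuSt_of_lt {D : H.Modules} (hD : PicF.IsInvertible D) (hr : 1 ≤ r) (E : H.Modules)
    (hE : FlatMod.IsFinLocFree E)
    (hlt : ∀ (G : H.Modules) (_ : PicF.IsInvertible G) (φ : G ⟶ E), φ ≠ 0 →
      (rk E : ℤ) * dg k H (r + 1) G (fun _ : Fin r => pull ρ (mk M hM.1)) <
        dg k H (r + 1) E (fun _ : Fin r => pull ρ (mk M hM.1))) :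
    ∃ N0 : ℕ, ∀ N : ℕ, N0 ≤ N →
      CohB1.IsAmple (CohB1.tensorMod (CohB1.tensorPow ((Scheme.Modules.pullback ρ).obj M) N) D) →
      StabCat.IsMuSt (fun G : H.Modules => PicF.IsInvertible G)
        (ShStab.IsHilbPoly k H (CohB1.tensorMod (CohB1.tensorPow ((Scheme.Modules.pullback ρ).obj M) N) D)) (r + 1) E := by
  obtain ⟨N0, hN0⟩ := exists_N0 k gY ρ hρ M hM hn hD hr E hE hlt
  refine ⟨N0, fun N hN hA G ι hι hG pF pE hpF hpE h0 h1 => ?_⟩
  have hA' := hA.1
  have hd : topologicalKrullDim H ≤ (r + 1 : ℕ) := hn.le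
  have hEc : Coh.IsCoh E := PerfA.CohSerre.isCoh_of_isFinLocFree hE
  have hGc := isCoh_of_isInvertible hG
  have hrG : rk G = 1 := rk_structureModule_of_isInvertible hG
  have eF := eq_hp k hpF
  have eE := eq_hp k hpE
  subst eF
  subst eE
  have hι0 : ι ≠ 0 := by
    intro h
    have hz : IsZero G := by
      rw [IsZero.iff_id_eq_zero, ← cancel_mono ι, h, Limits.comp_zero, Limits.comp_zero]
    have h2 : rk G = 0 := by
      rw [rk_eq_zero_iff hGc, CohqB.DevSupport.support_eq_empty_of_isZero hz]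
      exact Set.notMem_empty _
    omega
  have hlt' := hN0 N hN hA G hG ι hι0
  have aG := alpha_rk k hA' hn hGc
  have aE := alpha_rk k hA' hn hEc
  have bG := alpha_sub_eq_dg k H (r + 1) hd hn G hGc hA'
  have bE := alpha_sub_eq_dg k H (r + 1) hd hn E hEc hA'
  have hV := alpha_O_pos k hA hn
  have hlt'' : ((rk E : ℤ) * dg k H (r + 1) G (fun _ : Fin r => mk _ hA') : ℚ) <
      dg k H (r + 1) E (fun _ : Fin r => mk _ hA') := by exact_mod_cast hlt'
  have hRpos : (0 : ℚ) < rk E := by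
    by_contra hcon
    have h3 : (rk E : ℚ) = 0 := le_antisymm (not_lt.mp hcon) (by positivity)
    rw [aE, h3, zero_mul] at h1
    linarith
  unfold hatSlope
  simp only [Nat.add_sub_cancel]
  rw [aG, aE, hrG, Nat.cast_one, one_mul, div_lt_div_iff₀ hV (by positivity)]
  rw [hrG] at bG
  push_cast at bG hlt''
  nlinarith

end main

end K994.Unif
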