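import Groth.Agent.TautSh.K994.Ineq
import Groth.Agent.TautSh.K994.Unif
import Groth.Agent.TautSh.K888.HilbReg

/-!
# Assembly of the slope inequality for invertible submodules of tautological bundles
-/

set_option autoImplicit false
universe u
open CategoryTheory CategoryTheory.Limits AlgebraicGeometry TopologicalSpace

namespace K994.Fin25

open Groth.Agent Groth.Agent.Grpsch.PicGrp K992.FibPow K992.BigDiag K848.Hull

theorem main (k : Type u) [Field k] [IsAlgClosed k] [CharZero k] (X : Scheme.{u}) [X.Over (Spec (CommRingCat.of k))]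
    [AlgebraicGeometry.IsIntegral X] [Smooth (X ↘ Spec (CommRingCat.of k))] [IsProper (X ↘ Spec (CommRingCat.of k))]
    (hdim : topologicalKrullDim X = 2) (Hl : X.Modules) (hHl : CohB1.IsAmple Hl) (F : X.Modules)
    (r : ℕ) (hr : FlatMod.IsFinLocFreeOfRank r F)
    (hFO : IsEmpty (F ≅ Coh.structureModule X)) (hFst : ShStab.IsMuStable k X Hl F 2) (Hs : Scheme.{u})
    [Hs.Over (Spec (CommRingCat.of k))] [IsProper (Hs ↘ Spec (CommRingCat.of k))]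
    (Z : HilbD.Obj (X ↘ Spec (CommRingCat.of k)) 2 (CategoryTheory.Over.mk (Hs ↘ Spec (CommRingCat.of k))))
    (hU : HilbD.IsUniversal (X ↘ Spec (CommRingCat.of k)) 2 (CategoryTheory.Over.mk (Hs ↘ Spec (CommRingCat.of k))) Z)
    {Y : Scheme.{u}} (q : SymProd.fibPow (X ↘ Spec (CommRingCat.of k)) 2 ⟶ Y) (gY : Y ⟶ Spec (CommRingCat.of k))
    (hY : SymProd.IsSymProd (X ↘ Spec (CommRingCat.of k)) 2 q gY) (ρ : Hs ⟶ Y)
    (hρ : TautSh.IsHilbChow (X ↘ Spec (CommRingCat.of k)) 2 (CategoryTheory.Over.mk (Hs ↘ Spec (CommRingCat.of k))) Z.1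
      q gY ρ) (M : Y.Modules) (hM : TautSh.IsSymPowLB (X ↘ Spec (CommRingCat.of k)) 2 q Hl M) (D D' : Hs.Modules)
    (hD : PicF.IsInvertible D) (hD' : ClSub.IsInverseOf D' D)
    (hcls : ∀ (W : Y.Opens) (_ : (W : Set Y) = (q '' bigDiag (X ↘ Spec (CommRingCat.of k)) 1)ᶜ),
      ∃ θ : ((q ⁻¹ᵁ W : (SymProd.fibPow (X ↘ Spec (CommRingCat.of k)) 2).Opens) : Scheme.{u}) ⟶
          (((TautSh.famToH (X ↘ Spec (CommRingCat.of k)) (CategoryTheory.Over.mk (Hs ↘ Spec (CommRingCat.of k))) Z.1 ≫ ρ) ⁻¹ᵁ W :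
            (TautSh.fam (X ↘ Spec (CommRingCat.of k)) (CategoryTheory.Over.mk (Hs ↘ Spec (CommRingCat.of k))) Z.1).Opens) :
              Scheme.{u}),
        IsIso θ ∧
        θ ≫ ((TautSh.famToH (X ↘ Spec (CommRingCat.of k)) (CategoryTheory.Over.mk (Hs ↘ Spec (CommRingCat.of k))) Z.1 ≫ ρ) ⁻¹ᵁ W).ι ≫
            TautSh.famToX (X ↘ Spec (CommRingCat.of k)) (CategoryTheory.Over.mk (Hs ↘ Spec (CommRingCat.of k))) Z.1 =
          (q ⁻¹ᵁ W).ι ≫ pr (X ↘ Spec (CommRingCat.of k)) (0 : Fin 2) ∧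
        θ ≫ ((TautSh.famToH (X ↘ Spec (CommRingCat.of k)) (CategoryTheory.Over.mk (Hs ↘ Spec (CommRingCat.of k))) Z.1 ≫ ρ) ⁻¹ᵁ W).ι ≫
            TautSh.famToH (X ↘ Spec (CommRingCat.of k)) (CategoryTheory.Over.mk (Hs ↘ Spec (CommRingCat.of k))) Z.1 ≫ ρ =
          (q ⁻¹ᵁ W).ι ≫ q ∧
        (∃ σ : ((q ⁻¹ᵁ W : (SymProd.fibPow (X ↘ Spec (CommRingCat.of k)) 2).Opens) : Scheme.{u}) ⟶
            ((q ⁻¹ᵁ W : (SymProd.fibPow (X ↘ Spec (CommRingCat.of k)) 2).Opens) : Scheme.{u}),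
          σ ≫ (q ⁻¹ᵁ W).ι = (q ⁻¹ᵁ W).ι ≫ SymProd.permHom (X ↘ Spec (CommRingCat.of k)) 2 (Equiv.swap 0 1) ∧
          σ ≫ θ ≫ ((TautSh.famToH (X ↘ Spec (CommRingCat.of k)) (CategoryTheory.Over.mk (Hs ↘ Spec (CommRingCat.of k))) Z.1 ≫ ρ) ⁻¹ᵁ W).ι ≫
            TautSh.famToH (X ↘ Spec (CommRingCat.of k)) (CategoryTheory.Over.mk (Hs ↘ Spec (CommRingCat.of k))) Z.1 =
          θ ≫ ((TautSh.famToH (X ↘ Spec (CommRingCat.of k)) (CategoryTheory.Over.mk (Hs ↘ Spec (CommRingCat.of k))) Z.1 ≫ ρ) ⁻¹ᵁ W).ι ≫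
            TautSh.famToH (X ↘ Spec (CommRingCat.of k)) (CategoryTheory.Over.mk (Hs ↘ Spec (CommRingCat.of k))) Z.1) ∧
        IsFinite (ρ ∣_ W)) :
    ∃ N0 : ℕ, ∀ N : ℕ, N0 ≤ N →
      CohB1.IsAmple (CohB1.tensorMod (CohB1.tensorPow ((Scheme.Modules.pullback ρ).obj M) N) D') →
      StabCat.IsMuSt (fun G : Hs.Modules => PicF.IsInvertible G)
        (ShStab.IsHilbPoly k Hs (CohB1.tensorMod (CohB1.tensorPow ((Scheme.Modules.pullback ρ).obj M) N) D')) 4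
        (TautSh.taut (X ↘ Spec (CommRingCat.of k)) (CategoryTheory.Over.mk (Hs ↘ Spec (CommRingCat.of k))) Z.1 F) := by
  obtain ⟨hHi, hdH, -⟩ := K888.HilbReg.regular k X hdim Hl hHl Hs Z hU
  obtain ⟨hgY, hqfin, hqs, hsat⟩ := K639.SymFacts.quot_facts k X q gY hY
  have hMa : CohB1.IsAmple M := K639.SymFacts.ample_M k X Hl hHl q gY hY M hM
  have hD'i : PicF.IsInvertible D' := K685.ResolAmple.isInvertible_of_isInverseOf hD hD'
  let p : TautSh.fam (X ↘ Spec (CommRingCat.of k)) (CategoryTheory.Over.mk (Hs ↘ Spec (CommRingCat.of k))) Z.1 ⟶ Hs :=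
    TautSh.famToH (X ↘ Spec (CommRingCat.of k)) (CategoryTheory.Over.mk (Hs ↘ Spec (CommRingCat.of k))) Z.1
  have hp : Mor2.IsFinLocFreeOfDeg 2 p := Z.2
  obtain ⟨⟨hp1, hp2, hp3⟩, hrk⟩ := hp
  let qq : TautSh.fam (X ↘ Spec (CommRingCat.of k)) (CategoryTheory.Over.mk (Hs ↘ Spec (CommRingCat.of k))) Z.1 ⟶ X :=
    TautSh.famToX (X ↘ Spec (CommRingCat.of k)) (CategoryTheory.Over.mk (Hs ↘ Spec (CommRingCat.of k))) Z.1
  have hcl : IsClosed (q '' bigDiag (X ↘ Spec (CommRingCat.of k)) 1) := q.isClosedMap _ (isClosed_bigDiag _ 1)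
  let W : Y.Opens := ⟨(q '' bigDiag (X ↘ Spec (CommRingCat.of k)) 1)ᶜ, hcl.isOpen_compl⟩
  obtain ⟨θ, hθ, hθX, hθY, ⟨σ, hσ, hσu⟩, hfin⟩ := hcls W rfl
  have hFl : FlatMod.IsFinLocFree F := fun x => by
    obtain ⟨V, hxV, e⟩ := hr x
    exact ⟨V, r, hxV, e⟩
  have hEl : FlatMod.IsFinLocFree ((Scheme.Modules.pushforward p).obj ((Scheme.Modules.pullback qq).obj F)) :=
    PerfB.PushFLF.isFinLocFree_pushforward p (PerfB.FlatPull.isFinLocFree_pullback qq hFl)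
  refine Unif.isMuSt_of_lt k gY ρ hρ.1 M hMa (r := 3) hdH hD'i (by norm_num)
    ((Scheme.Modules.pushforward p).obj ((Scheme.Modules.pullback qq).obj F)) hEl fun G hG φ hφ => ?_
  exact (Ineq.ineq k X hdim Hl hHl F r hr hFO hFst hdH p hrk qq q gY hY ρ hρ.1 M hM W rfl hfin θ hθX hθY σ hσ hσu
    G hG φ hφ).2

end K994.Fin25
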