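import Groth.Agent.TautSh.K994.DblAlg
import Groth.Agent.CohqB.HomPost
import Groth.Agent.CohqB.HomSheafMap
import Groth.Agent.PerfB.PushFLF
import Groth.Agent.Sga67.LocBasis
import Groth.Agent.Sga67.ExtSheaf

/-!
# Double covers: `p_* Hom(G, O) ≅ Hom(p_* G, Λ² p_* O)`
-/

set_option autoImplicit false

universe u v w

open CategoryTheory CategoryTheory.Limits AlgebraicGeometry Opposite TopologicalSpace Module

namespace K994.DblMap

open Groth.Agent Groth.Agent.CohqB.HomSheaf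
open Groth.Agent.Ega1.QCohLoc (res resO)
open Groth.Agent.PerfB.PushFLF (algPre pushO pushOEquiv)

section Alg

variable {A : Type u} {B P L : Type v} [CommRing A] [CommRing B] [Algebra A B]
  [AddCommGroup P] [Module A P] [AddCommGroup L] [Module A L]

omit [AddCommGroup P] in
theorem upd (e z y : P) : Function.update ![e, z] 1 y = ![e, y] := by
  ext i; fin_cases i <;> simp

/-- The map `x ↦ φ⁻¹(e ∧ x)`. -/
noncomputable def tauP (φ : L ≃ₗ[A] ⋀[A]^2 P) (e : P) : P →ₗ[A] L :=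
  φ.symm.toLinearMap ∘ₗ
    { toFun := fun x => exteriorPower.ιMulti A 2 ![e, x]
      map_add' := fun x y => by
        have h := (exteriorPower.ιMulti A 2 (M := P)).map_update_add ![e, 0] 1 x y
        rwa [upd, upd, upd] at h
      map_smul' := fun c x => by
        have h := (exteriorPower.ιMulti A 2 (M := P)).map_update_smul ![e, 0] 1 c x
        rwa [upd, upd] at h }

theorem tauP_apply (φ : L ≃ₗ[A] ⋀[A]^2 P) (e x : P) :
    tauP φ e x = φ.symm (exteriorPower.ιMulti A 2 ![e, x]) := rfl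

theorem exists_tau (ε : B ≃ₗ[A] P) (φ : L ≃ₗ[A] ⋀[A]^2 P) :
    ∃ φ' : L ≃ₗ[A] ⋀[A]^2 B, ∀ x, DblAlg.tau φ' x = tauP φ (ε 1) (ε x) := by
  let E : (⋀[A]^2 B) ≃ₗ[A] (⋀[A]^2 P) :=
    LinearEquiv.ofLinearMap (exteriorPower.map 2 ε.toLinearMap) (exteriorPower.map 2 ε.symm.toLinearMap)
      (by rw [← exteriorPower.map_comp]; simp) (by rw [← exteriorPower.map_comp]; simp)
  refine ⟨φ.trans E.symm, fun x => ?_⟩
  rw [DblAlg.tau_apply, tauP_apply]
  show φ.symm (exteriorPower.map 2 ε.toLinearMap _) = _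
  rw [exteriorPower.map_apply_ιMulti]
  have h : (⇑ε.toLinearMap ∘ ![(1 : B), x] : Fin 2 → P) = ![ε 1, ε x] := by
    ext i; fin_cases i <;> rfl
  rw [h]

end Alg

variable {Z H : Scheme.{u}} (p : Z ⟶ H)

section W

variable {p} {Λ : H.Modules}

/-- The map `w : p_* O ⟶ Λ`, `x ↦ 1 ∧ x`. -/
theorem exists_w [QuasiCompact p] [QuasiSeparated p]
    (φ : Sga67.ExtSheaf.Phi 2 (pushO p) Λ) (hφ : Sga67.ExtSheaf.PhiComp φ) :
    ∃ w : pushO p ⟶ Λ, ∀ (U : H.affineOpens) (x : Γ(pushO p, U.1)),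
      w.app U.1 x = tauP (φ U) (pushOEquiv p U.1 1) x := by
  obtain ⟨w, hw⟩ := PerfB.AffHom.exists_hom_of_affine (N := Λ)
    (PerfB.PushFLF.isQCoh_pushO p)
    (fun U hU => tauP (φ ⟨U, hU⟩) (pushOEquiv p U 1)) (by
      intro U V hU hV h m
      refine Eq.trans ?_ (hφ ⟨U, hU⟩ ⟨V, hV⟩ h ![pushOEquiv p U 1, m]).symm
      refine congrArg (fun e => (φ ⟨V, hV⟩).symm (exteriorPower.ιMulti _ 2 e)) ?_
      funext i
      fin_cases i
      · show (1 : Γ(Z, p ⁻¹ᵁ V)) =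
          Z.presheaf.map (homOfLE (p.preimage_mono h)).op (1 : Γ(Z, p ⁻¹ᵁ U))
        rw [map_one]
      · rfl)
  exact ⟨w, fun U x => hw U.1 U.2 x⟩

end W

section Psi

variable {p} {Λ : H.Modules} {G : Z.Modules}

/-- The component of a section of `Hom(G, O)` over `p⁻¹ U` at `V ≤ U`, followed by `w`. -/
noncomputable def psiComp (w : pushO p ⟶ Λ) {U : H.Opens}
    (s : Γ(homSheaf G (Coh.structureModule Z), p ⁻¹ᵁ U)) (V : H.Opens) (hV : V ≤ U) :
    Γ((Scheme.Modules.pushforward p).obj G, V) →ₗ[Γ(H, V)] Γ(Λ, V) where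
  toFun m := w.app V (comp s (p ⁻¹ᵁ V) (p.preimage_mono hV) m)
  map_add' m m' := by
    have h : comp s (p ⁻¹ᵁ V) (p.preimage_mono hV)
        ((show Γ(G, p ⁻¹ᵁ V) from m) + (show Γ(G, p ⁻¹ᵁ V) from m')) =
      comp s (p ⁻¹ᵁ V) (p.preimage_mono hV) m + comp s (p ⁻¹ᵁ V) (p.preimage_mono hV) m' :=
      map_add _ _ _
    exact (congrArg (w.app V) h).trans (map_add (w.app V).hom _ _)
  map_smul' r m := by
    have h : comp s (p ⁻¹ᵁ V) (p.preimage_mono hV) (p.app V r • (show Γ(G, p ⁻¹ᵁ V) from m)) =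
      p.app V r • comp s (p ⁻¹ᵁ V) (p.preimage_mono hV) m := map_smul _ _ _
    exact (congrArg (w.app V) h).trans (w.app_smul r _)

theorem psiComp_apply (w : pushO p ⟶ Λ) {U : H.Opens}
    (s : Γ(homSheaf G (Coh.structureModule Z), p ⁻¹ᵁ U)) (V : H.Opens) (hV : V ≤ U)
    (m : Γ(G, p ⁻¹ᵁ V)) :
    psiComp w s V hV m = w.app V (comp s (p ⁻¹ᵁ V) (p.preimage_mono hV) m) := rfl

theorem comp_app_smul {U : H.Opens} (r : Γ(H, U))
    (s : Γ(homSheaf G (Coh.structureModule Z), p ⁻¹ᵁ U)) (V : H.Opens) (hV : V ≤ U)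
    (m : Γ(G, p ⁻¹ᵁ V)) :
    comp (p.app U r • s) (p ⁻¹ᵁ V) (p.preimage_mono hV) m =
      p.app V (H.presheaf.map (homOfLE hV).op r) •
        comp s (p ⁻¹ᵁ V) (p.preimage_mono hV) m := by
  rw [comp_smul, LinearMap.smul_apply]
  congr 1
  exact (congr($(p.naturality (homOfLE hV).op) r)).symm

/-- Sections of `G` over `p⁻¹ U` as a module over `Γ(H, U)`. -/
noncomputable abbrev modPre (p : Z ⟶ H) (G : Z.Modules) (U : H.Opens) :
    Module Γ(H, U) Γ(G, p ⁻¹ᵁ U) :=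
  inferInstanceAs (Module Γ(H, U) Γ((Scheme.Modules.pushforward p).obj G, U))

variable (G) in
/-- The map `p_* Hom(G, O) ⟶ Hom(p_* G, Λ)`. -/
noncomputable def psi (w : pushO p ⟶ Λ) :
    (Scheme.Modules.pushforward p).obj (homSheaf G (Coh.structureModule Z)) ⟶
      homSheaf ((Scheme.Modules.pushforward p).obj G) Λ :=
  homMkSec _ _ (fun U =>
    { toFun := fun s => mkSec (fun V hV => psiComp w s V hV)
        (fun V W hV h m => by
          have h1 : comp (show Γ(homSheaf G (Coh.structureModule Z), p ⁻¹ᵁ U) from s) (p ⁻¹ᵁ W)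
              (p.preimage_mono (h.trans hV)) (G.presheaf.map (homOfLE (p.preimage_mono h)).op m) =
            (Coh.structureModule Z).presheaf.map (homOfLE (p.preimage_mono h)).op
              (comp (show Γ(homSheaf G (Coh.structureModule Z), p ⁻¹ᵁ U) from s) (p ⁻¹ᵁ V)
                (p.preimage_mono hV) m) := comp_map _ (p.preimage_mono hV) (p.preimage_mono h) m
          exact (congrArg (w.app W) h1).trans (app_map w h _))
      map_zero' := sec_ext fun V hV m => map_zero (w.app V).hom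
      map_add' := fun s t => sec_ext fun V hV m => map_add (w.app V).hom _ _ })
    (fun U r s => sec_ext fun V hV m => by
      exact (congrArg (w.app V) (comp_app_smul r s V hV m)).trans (w.app_smul _ _))
    (fun U V h s => rfl)

theorem comp_psi (w : pushO p ⟶ Λ) {U : H.Opens}
    (s : Γ(homSheaf G (Coh.structureModule Z), p ⁻¹ᵁ U)) (V : H.Opens) (hV : V ≤ U)
    (m : Γ(G, p ⁻¹ᵁ V)) :
    comp ((psi G w).app U s) V hV m = w.app V (comp s (p ⁻¹ᵁ V) (p.preimage_mono hV) m) := rfl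

theorem psi_bijective [IsAffineHom p] (hG : Coh.IsQCoh G) (w : pushO p ⟶ Λ) {U : H.Opens}
    (hU : IsAffineOpen U) (β : Basis (Fin 2) Γ(H, U) Γ(pushO p, U))
    (φ : Γ(Λ, U) ≃ₗ[Γ(H, U)] ⋀[Γ(H, U)]^2 Γ(pushO p, U))
    (hw : ∀ x, w.app U x = tauP φ (pushOEquiv p U 1) x) :
    Function.Bijective ((psi G w).app U) := by
  let : Algebra Γ(H, U) Γ(Z, p ⁻¹ᵁ U) := algPre p U
  have hG' : Coh.IsQCoh ((Scheme.Modules.pushforward p).obj G) :=
    Groth.Agent.Ega1.QcqsPush.isQCoh_pushforward p G hG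
  obtain ⟨φ', hφ'⟩ := exists_tau (pushOEquiv p U) φ
  let : Module Γ(H, U) Γ(G, p ⁻¹ᵁ U) := modPre p G U
  have : IsScalarTower Γ(H, U) Γ(Z, p ⁻¹ᵁ U) Γ(G, p ⁻¹ᵁ U) :=
    ⟨fun a b c => mul_smul (p.app U a) b c⟩
  have hw' : ∀ x : Γ(Z, p ⁻¹ᵁ U), w.app U (show Γ(pushO p, U) from x) = DblAlg.tau φ' x :=
    fun x => (hw x).trans (hφ' x).symm
  constructor
  · intro s t hst
    refine comp_injective hG (hU.preimage p) fun m => ?_
    have h1 := DblAlg.tau_comp_injective (β.map (pushOEquiv p U).symm) φ'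
      (comp (show Γ(homSheaf G (Coh.structureModule Z), p ⁻¹ᵁ U) from s) (p ⁻¹ᵁ U) le_rfl)
      (comp (show Γ(homSheaf G (Coh.structureModule Z), p ⁻¹ᵁ U) from t) (p ⁻¹ᵁ U) le_rfl)
      (fun n => by
        have h2 : comp ((psi G w).app U s) U le_rfl n = comp ((psi G w).app U t) U le_rfl n := by
          rw [hst]
        rw [← hw', ← hw']
        exact h2)
    exact LinearMap.congr_fun h1 m
  · intro t
    let f : Γ(G, p ⁻¹ᵁ U) →ₗ[Γ(H, U)] Γ(Λ, U) := comp t U le_rfl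
    obtain ⟨ψ, hψ⟩ := DblAlg.exists_tau_comp (β.map (pushOEquiv p U).symm) φ' f
    obtain ⟨s, hs⟩ := exists_comp_eq (N := Coh.structureModule Z) hG (hU.preimage p) ψ
    refine ⟨s, comp_injective hG' hU fun m => ?_⟩
    have h1 : comp ((psi G w).app U s) U le_rfl m = w.app U (comp s (p ⁻¹ᵁ U) le_rfl m) := rfl
    rw [h1, hs]
    exact (hw' _).trans (hψ m)

/-- **Duality for double covers**: `p_* Hom(G, O) ≅ Hom(p_* G, Λ² p_* O)`. -/
theorem nonempty_iso [IsAffineHom p] (hG : Coh.IsQCoh G)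
    (hp : FlatMod.IsFinLocFreeOfRank 2 (pushO p)) (hΛ : ExtPow.IsExtPow 2 (pushO p) Λ) :
    Nonempty ((Scheme.Modules.pushforward p).obj (homSheaf G (Coh.structureModule Z)) ≅
      homSheaf ((Scheme.Modules.pushforward p).obj G) Λ) := by
  obtain ⟨φ, hφ⟩ := Sga67.ExtSheaf.exists_phi hΛ
  obtain ⟨w, hw⟩ := exists_w φ hφ
  have : IsIso (psi G w) := by
    refine Sga67.LocBasis.isIso_of_bijective _ fun x V hx => ?_
    obtain ⟨U, hxU, ⟨e⟩⟩ := hp x
    obtain ⟨b, hb⟩ := Sga67.LocBasis.nonempty_restrict_iso_iff.1 ⟨e⟩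
    obtain ⟨W, hW, hxW, hWle⟩ := PerfB.AffHom.exists_affine_le (U ⊓ V) (x := x) ⟨hxU, hx⟩
    refine ⟨W, hWle.trans inf_le_right, hxW, ?_⟩
    exact psi_bijective hG w hW (hb.basis (hWle.trans inf_le_left)) (φ ⟨W, hW⟩)
      (hw ⟨W, hW⟩)
  exact ⟨asIso (psi G w)⟩

end Psi

end K994.DblMap
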