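import Groth.Agent.CohqA.AffineBaseChange
import Groth.Agent.Picfga.HilbPull
import Groth.Agent.Fdesc.LocGenPullback
import Groth.Prelude.Def_TautSec

/-!
# Adjoint forms of quotients `g^* V ⟶ L` and of `TautSh.IsMapOfQuot`

* `tr g s : V ⟶ g_* L` is the transpose of `s : g^* V ⟶ L`.
* `AEpi g a`: the transpose of `a : V ⟶ g_* L` is an epimorphism.
* `isMapOfQuot_iff`: the adjoint form of `TautSh.IsMapOfQuot`.
* `tr_secantQuot`, `tr_linSysQuot`.
-/

set_option autoImplicit false
universe u

open CategoryTheory CategoryTheory.Limits AlgebraicGeometry Opposite TopologicalSpace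
open AlgebraicGeometry.Scheme.Modules

namespace K994.Adj

open Groth.Agent.CohqA.PullbackUniv Groth.Agent.CohqA.PullbackSections
  Groth.Agent.CohqA.AffineBaseChange

variable {X Y Z : Scheme.{u}}

/-- The transpose of `s : g^* V ⟶ L`. -/
noncomputable def tr (g : Y ⟶ X) {V : X.Modules} {L : Y.Modules}
    (s : (Scheme.Modules.pullback g).obj V ⟶ L) : V ⟶ (pushforward g).obj L :=
  (pullbackPushforwardAdjunction g).homEquiv V L s

lemma tr_eq (g : Y ⟶ X) {V : X.Modules} {L : Y.Modules}
    (s : (Scheme.Modules.pullback g).obj V ⟶ L) :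
    tr g s = pbUnit g V ≫ (pushforward g).map s :=
  Adjunction.homEquiv_unit ..

lemma tr_injective (g : Y ⟶ X) {V : X.Modules} {L : Y.Modules}
    {s t : (Scheme.Modules.pullback g).obj V ⟶ L} (h : tr g s = tr g t) : s = t :=
  ((pullbackPushforwardAdjunction g).homEquiv V L).injective h

lemma tr_symm (g : Y ⟶ X) {V : X.Modules} {L : Y.Modules} (a : V ⟶ (pushforward g).obj L) :
    tr g (((pullbackPushforwardAdjunction g).homEquiv V L).symm a) = a :=
  ((pullbackPushforwardAdjunction g).homEquiv V L).apply_symm_apply a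

lemma exists_tr_eq (g : Y ⟶ X) {V : X.Modules} {L : Y.Modules} (a : V ⟶ (pushforward g).obj L) :
    ∃ s, tr g s = a := ⟨_, tr_symm g a⟩

lemma tr_comp (g : Y ⟶ X) {V : X.Modules} {L L' : Y.Modules}
    (s : (Scheme.Modules.pullback g).obj V ⟶ L) (φ : L ⟶ L') :
    tr g (s ≫ φ) = tr g s ≫ (pushforward g).map φ := by
  rw [tr_eq, tr_eq, Functor.map_comp, Category.assoc]

/-- Transposes of composites of pullbacks. -/
theorem tr_pullbackComp (f : X ⟶ Y) (g : Y ⟶ Z) {K : X.Modules} {L : Y.Modules} {M : Z.Modules}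
    (x : (Scheme.Modules.pullback f).obj L ⟶ K) (y : (Scheme.Modules.pullback g).obj M ⟶ L) :
    tr (f ≫ g) ((Scheme.Modules.pullbackComp f g).inv.app M ≫
      (Scheme.Modules.pullback f).map y ≫ x) = compMap (tr g y) (tr f x) := by
  let adj₁ := (pullbackPushforwardAdjunction g).comp (pullbackPushforwardAdjunction f)
  let adj₂ := pullbackPushforwardAdjunction (f ≫ g)
  have h1 := unit_conjugateEquiv adj₁ adj₂ (Scheme.Modules.pullbackComp f g).inv M
  rw [Scheme.Modules.conjugateEquiv_pullbackComp_inv] at h1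
  unfold tr compMap
  rw [Adjunction.homEquiv_unit, Functor.map_comp]
  refine (reassoc_of% h1.symm) _ |>.trans ?_
  have h2 := (Scheme.Modules.pushforwardComp f g).hom.naturality
    ((Scheme.Modules.pullback f).map y ≫ x)
  refine (congrArg (fun t => adj₁.unit.app M ≫ t) h2.symm).trans ?_
  rw [← Category.assoc, ← Category.assoc]
  refine congrArg (fun t => t ≫ _) ?_
  rw [Adjunction.homEquiv_unit, Adjunction.homEquiv_unit]
  have h3 := (pullbackPushforwardAdjunction f).unit.naturality y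
  have h4 : adj₁.unit.app M = (pullbackPushforwardAdjunction g).unit.app M ≫
      (Scheme.Modules.pushforward g).map
        ((pullbackPushforwardAdjunction f).unit.app ((Scheme.Modules.pullback g).obj M)) := by
    simp only [adj₁, Adjunction.comp_unit_app]
  rw [h4, Category.assoc, Category.assoc, Functor.comp_map, ← Functor.map_comp, ← Functor.map_comp,
    Functor.map_comp (Scheme.Modules.pushforward f)]
  refine congrArg (fun t => (pullbackPushforwardAdjunction g).unit.app M ≫
    (Scheme.Modules.pushforward g).map t) ?_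
  simp only [Functor.id_map, Functor.comp_map] at h3
  exact (reassoc_of% h3.symm) _

lemma pushforwardCongr_rfl (f : X ⟶ Y) (M : X.Modules) :
    (pushforwardCongr (rfl : f = f)).hom.app M = 𝟙 _ := by
  ext U x
  simp

lemma pullbackCongr_rfl (f : X ⟶ Y) (M : Y.Modules) :
    (Scheme.Modules.pullbackCongr (rfl : f = f)).inv.app M = 𝟙 _ := by
  simp [Scheme.Modules.pullbackCongr]

lemma tr_congr {f g : X ⟶ Y} (h : f = g) {M : Y.Modules} {K : X.Modules}
    (x : (Scheme.Modules.pullback f).obj M ⟶ K) :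
    tr g ((Scheme.Modules.pullbackCongr h).inv.app M ≫ x) =
      tr f x ≫ (pushforwardCongr h).hom.app K := by
  subst h
  rw [pushforwardCongr_rfl, pullbackCongr_rfl, Category.id_comp, Category.comp_id]

/-- The adjoint form of `TautSh.IsMapOfQuot`. -/
theorem isMapOfQuot_iff {B P T : Scheme.{u}} (π : P ⟶ B) (V : B.Modules) (O1 : P.Modules)
    (q : (Scheme.Modules.pullback π).obj V ⟶ O1) (g : T ⟶ B) (L : T.Modules)
    (s : (Scheme.Modules.pullback g).obj V ⟶ L) (h : T ⟶ P) :
    TautSh.IsMapOfQuot π V O1 q g L s h ↔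
      ∃ (hg : h ≫ π = g) (u : O1 ⟶ (pushforward h).obj L), IsUniv h u ∧
        compMap (tr π q) u ≫ (pushforwardCongr hg).hom.app L = tr g s := by
  constructor
  · rintro ⟨hg, e, he⟩
    refine ⟨hg, tr h e.hom, ?_, ?_⟩
    · rw [tr_eq]
      exact (isUniv_pbUnit h O1).comp_iso e
    · rw [← he, tr_congr, tr_pullbackComp]
  · rintro ⟨hg, u, hu, he⟩
    obtain ⟨e, he1, -⟩ := (isUniv_pbUnit h O1).exists_iso hu
    refine ⟨hg, e, ?_⟩
    apply tr_injective
    rw [tr_congr, tr_pullbackComp, tr_eq h, he1, he]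

/-- `a : V ⟶ g_* L` is the transpose of an epimorphism. -/
def AEpi (g : Y ⟶ X) {V : X.Modules} {L : Y.Modules} (a : V ⟶ (pushforward g).obj L) : Prop :=
  ∀ (Q : Y.Modules) (φ ψ : L ⟶ Q),
    a ≫ (pushforward g).map φ = a ≫ (pushforward g).map ψ → φ = ψ

lemma aepi_tr_iff (g : Y ⟶ X) {V : X.Modules} {L : Y.Modules}
    (s : (Scheme.Modules.pullback g).obj V ⟶ L) : AEpi g (tr g s) ↔ Epi s := by
  constructor
  · intro h
    refine ⟨fun φ ψ e => h _ φ ψ ?_⟩
    rw [← tr_comp, ← tr_comp, e]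
  · intro h Q φ ψ e
    rw [← tr_comp, ← tr_comp] at e
    exact (cancel_epi s).1 (tr_injective g e)

lemma _root_.Groth.Agent.CohqA.PullbackUniv.IsUniv.aepi {g : Y ⟶ X} {V : X.Modules} {L : Y.Modules}
    {a : V ⟶ (pushforward g).obj L} (h : IsUniv g a) : AEpi g a :=
  fun Q _ _ e => (h Q).1 e

lemma AEpi.comp {g : Y ⟶ X} {h : Z ⟶ Y} {M : X.Modules} {N : Y.Modules} {P : Z.Modules}
    {a : M ⟶ (pushforward g).obj N} (ha : AEpi g a) {b : N ⟶ (pushforward h).obj P}
    (hb : AEpi h b) : AEpi (h ≫ g) (compMap a b) := by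
  intro Q φ ψ e
  rw [compMap_comp, compMap_comp] at e
  apply hb
  apply ha
  unfold compMap at e
  rw [← Category.assoc, ← Category.assoc] at e
  exact (cancel_mono _).1 e

lemma aepi_congr {g g' : Y ⟶ X} (e : g = g') {M : X.Modules} {N : Y.Modules}
    (a : M ⟶ (pushforward g).obj N) :
    AEpi g' (a ≫ (pushforwardCongr e).hom.app N) ↔ AEpi g a := by
  subst e
  rw [pushforwardCongr_rfl, Category.comp_id]

/-- If `t : V ⟶ g_* N` is universal then `t ≫ g_* s` is the transpose of an epimorphism iff `s` is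
an epimorphism. -/
lemma aepi_comp_iff {g : Y ⟶ X} {V : X.Modules} {N L : Y.Modules}
    {t : V ⟶ (pushforward g).obj N} (ht : IsUniv g t) (s : N ⟶ L) :
    AEpi g (t ≫ (pushforward g).map s) ↔ Epi s := by
  constructor
  · intro h
    refine ⟨fun φ ψ e => h _ φ ψ ?_⟩
    rw [Category.assoc, Category.assoc, ← Functor.map_comp, ← Functor.map_comp, e]
  · intro h Q φ ψ e
    rw [Category.assoc, Category.assoc, ← Functor.map_comp, ← Functor.map_comp] at e
    exact (cancel_epi s).1 ((ht Q).1 e)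

/-- The adjoint form of the universal property of a projective bundle. -/
theorem existsUnique_of_isProjBundle {B P T : Scheme.{u}} {π : P ⟶ B} {V : B.Modules}
    {O1 : P.Modules} {q : (Scheme.Modules.pullback π).obj V ⟶ O1}
    (hP : KRR.IsProjBundle π V O1 q) (g : T ⟶ B) (L : T.Modules)
    (hL : FlatMod.IsFinLocFreeOfRank 1 L) (a : V ⟶ (pushforward g).obj L) (ha : AEpi g a) :
    ∃! h : T ⟶ P, ∃ (hg : h ≫ π = g) (u : O1 ⟶ (pushforward h).obj L), IsUniv h u ∧
        compMap (tr π q) u ≫ (pushforwardCongr hg).hom.app L = a := by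
  obtain ⟨s, rfl⟩ := exists_tr_eq g a
  have := hP.univ T g L hL s ((aepi_tr_iff g s).1 ha)
  obtain ⟨h, h1, h2⟩ := this
  refine ⟨h, (isMapOfQuot_iff π V O1 q g L s h).1 h1, fun h' hh' => h2 h' ?_⟩
  exact (isMapOfQuot_iff π V O1 q g L s h').2 hh'

end K994.Adj
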