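import Mathlib.RingTheory.SimpleModule.Basic
import Mathlib.FieldTheory.IsAlgClosed.Basic
import Mathlib.RingTheory.Artinian.Algebra
import Mathlib.LinearAlgebra.FiniteDimensional.Basic

set_option autoImplicit false
universe u

/-! Intermediate ideals in finite algebras over an algebraically closed field. -/

namespace K994.Alg

variable {k : Type u} [Field k] [IsAlgClosed k] {B : Type u} [CommRing B] [Algebra k B]
  [Module.Finite k B]

theorem finrank_quot_maximal (m : Ideal B) [hm : m.IsMaximal] : Module.finrank k (B ⧸ m) = 1 := by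
  let := Ideal.Quotient.field m
  have : Algebra.IsIntegral k (B ⧸ m) := inferInstance
  have hb : Function.Bijective (algebraMap k (B ⧸ m)) :=
    IsAlgClosed.algebraMap_bijective_of_isIntegral
  have h := LinearEquiv.finrank_eq (LinearEquiv.ofBijective (Algebra.linearMap k (B ⧸ m)) hb)
  rw [Module.finrank_self] at h
  exact h.symm

theorem exists_intermediate (J₁ J₂ : Ideal B) (hne : ¬ J₂ ≤ J₁) :
    ∃ J₃ : Ideal B, J₁ ≤ J₃ ∧ J₃ ≤ J₁ ⊔ J₂ ∧
      Module.finrank k (B ⧸ J₁) = Module.finrank k (B ⧸ J₃) + 1 := by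
  have hlt : J₁ < J₁ ⊔ J₂ := lt_of_le_not_ge le_sup_left fun h => hne (le_sup_right.trans h)
  have : IsArtinianRing B := IsArtinianRing.of_finite k B
  obtain ⟨J₃, h1, h2⟩ := exists_covBy_le_of_lt hlt
  refine ⟨J₃, h1.le, h2, ?_⟩
  have hs := (covBy_iff_quot_is_simple h1.le).1 h1
  obtain ⟨m, hm, ⟨e⟩⟩ := isSimpleModule_iff_quot_maximal.1 hs
  have e1 : Module.finrank k (↥J₃ ⧸ Submodule.comap J₃.subtype J₁) = 1 := by
    rw [← finrank_quot_maximal (k := k) m]
    exact LinearEquiv.finrank_eq (e.restrictScalars k)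
  have e2 := Submodule.finrank_quotient_add_finrank (J₁.restrictScalars k)
  have e3 := Submodule.finrank_quotient_add_finrank (J₃.restrictScalars k)
  have e4 := Submodule.finrank_quotient_add_finrank
    ((Submodule.comap J₃.subtype J₁).restrictScalars k)
  have e5 : Module.finrank k ((Submodule.comap J₃.subtype J₁).restrictScalars k) =
      Module.finrank k (J₁.restrictScalars k) :=
    LinearEquiv.finrank_eq ((Submodule.comapSubtypeEquivOfLe h1.le).restrictScalars k)
  have e6 : Module.finrank k (↥J₃ ⧸ (Submodule.comap J₃.subtype J₁).restrictScalars k) = 1 := e1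
  have e7 : Module.finrank k (B ⧸ J₁.restrictScalars k) = Module.finrank k (B ⧸ J₁) := rfl
  have e8 : Module.finrank k (B ⧸ J₃.restrictScalars k) = Module.finrank k (B ⧸ J₃) := rfl
  have e9 : Module.finrank k ↥(J₃.restrictScalars k) = Module.finrank k ↥J₃ := rfl
  omega

end K994.Alg
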