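import Mathlib.LinearAlgebra.ExteriorPower.Basis
import Mathlib.LinearAlgebra.Determinant
import Mathlib.RingTheory.Ideal.Quotient.Basic
import Mathlib.LinearAlgebra.Matrix.Basis
import Mathlib.Tactic.Module
import Mathlib.Tactic.LinearCombination

/-!
# Algebras free of rank two: `B ≃ Hom_A(B, Λ² B)`

For an `A`-algebra `B` that is free of rank two as an `A`-module and an identification `φ` of an
`A`-module `L` with `Λ² B`, the map `τ : B → L`, `τ x = φ⁻¹ (1 ∧ x)`, generates
`Hom_A(B, L)` freely over `B`.
-/

set_option autoImplicit false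

open Module

namespace K994.DblAlg

universe u v w

section

variable {A : Type u} {B : Type v} [CommRing A] [CommRing B] [Algebra A B]

/-- The unit can be completed to a basis. -/
theorem exists_basis_one (β : Basis (Fin 2) A B) : ∃ β' : Basis (Fin 2) A B, β' 0 = 1 := by
  let a := β.repr 1 0
  let b := β.repr 1 1
  have h1 : (1 : B) = a • β 0 + b • β 1 := by
    have := β.sum_repr 1
    rw [Fin.sum_univ_two] at this
    exact this.symm
  have h2 : Ideal.span {a, b} = (⊤ : Ideal A) := by
    by_contra hne
    obtain ⟨m, hm, hle⟩ := Ideal.exists_le_maximal _ hne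
    have ha : a ∈ m := hle (Ideal.subset_span (by simp))
    have hb : b ∈ m := hle (Ideal.subset_span (by simp))
    have h3 : ∀ x : B, ∀ i, β.repr x i ∈ m := by
      intro x i
      have h4 : x = a • (x * β 0) + b • (x * β 1) := by
        conv_lhs => rw [← mul_one x, h1, mul_add, mul_smul_comm, mul_smul_comm]
      rw [h4, map_add, map_smul, map_smul]
      simp only [Finsupp.coe_add, Finsupp.coe_smul, Pi.add_apply, Pi.smul_apply, smul_eq_mul]
      exact m.add_mem (m.mul_mem_right _ ha) (m.mul_mem_right _ hb)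
    have h5 := h3 (β 0) 0
    rw [β.repr_self, Finsupp.single_eq_same] at h5
    exact hm.ne_top ((Ideal.eq_top_iff_one _).2 h5)
  obtain ⟨p, q, hpq⟩ : ∃ p q : A, p * a + q * b = 1 := by
    have h3 : (1 : A) ∈ Ideal.span {a, b} := by rw [h2]; trivial
    exact Ideal.mem_span_pair.1 h3
  -- the vectors `1` and `t`
  obtain ⟨t, ht⟩ : ∃ t : B, t = -q • β 0 + p • β 1 := ⟨_, rfl⟩
  have hli : LinearIndependent A ![(1 : B), t] := by
    rw [LinearIndependent.pair_iff]
    intro x y hxy
    have h6 : (x * a - y * q) • β 0 + (x * b + y * p) • β 1 = 0 := by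
      rw [← hxy, h1, ht]
      module
    have h7 := LinearIndependent.pair_iff.1
      (by
        have := β.linearIndependent
        have hβ : (β : Fin 2 → B) = ![β 0, β 1] := by
          ext i; fin_cases i <;> rfl
        rwa [hβ] at this : LinearIndependent A ![β 0, β 1]) _ _ h6
    constructor
    · linear_combination x * (-hpq) + p * h7.1 + q * h7.2
    · linear_combination y * (-hpq) - b * h7.1 + a * h7.2
  have hsp : ⊤ ≤ Submodule.span A (Set.range ![(1 : B), t]) := by
    have hb0 : β 0 = p • (1 : B) - b • t := by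
      have : β 0 = (p * a + q * b) • β 0 := by rw [hpq, one_smul]
      rw [h1, ht]
      conv_lhs => rw [this]
      module
    have hb1 : β 1 = q • (1 : B) + a • t := by
      have : β 1 = (p * a + q * b) • β 1 := by rw [hpq, one_smul]
      rw [h1, ht]
      conv_lhs => rw [this]
      module
    have m1 : (1 : B) ∈ Submodule.span A (Set.range ![(1 : B), t]) :=
      Submodule.subset_span ⟨0, rfl⟩
    have m2 : t ∈ Submodule.span A (Set.range ![(1 : B), t]) :=
      Submodule.subset_span ⟨1, rfl⟩
    rw [← β.span_eq, Submodule.span_le]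
    rintro _ ⟨i, rfl⟩
    fin_cases i
    · show β 0 ∈ _
      rw [hb0]
      exact Submodule.sub_mem _ (Submodule.smul_mem _ _ m1) (Submodule.smul_mem _ _ m2)
    · show β 1 ∈ _
      rw [hb1]
      exact Submodule.add_mem _ (Submodule.smul_mem _ _ m1) (Submodule.smul_mem _ _ m2)
  exact ⟨Basis.mk hli hsp, by simp [Basis.mk_apply]⟩

variable {L : Type w} [AddCommGroup L] [Module A L]

theorem upd (x y : B) : Function.update ![x, 0] 1 y = ![x, y] := by
  ext i; fin_cases i <;> simp

/-- The map `x ↦ φ⁻¹(1 ∧ x)`. -/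
noncomputable def tau (φ : L ≃ₗ[A] ⋀[A]^2 B) : B →ₗ[A] L :=
  φ.symm.toLinearMap ∘ₗ
    { toFun := fun x => exteriorPower.ιMulti A 2 ![(1 : B), x]
      map_add' := fun x y => by
        have h := (exteriorPower.ιMulti A 2 (M := B)).map_update_add ![(1 : B), 0] 1 x y
        rwa [upd, upd, upd] at h
      map_smul' := fun c x => by
        have h := (exteriorPower.ιMulti A 2 (M := B)).map_update_smul ![(1 : B), 0] 1 c x
        rwa [upd, upd] at h }

theorem tau_apply (φ : L ≃ₗ[A] ⋀[A]^2 B) (x : B) :
    tau φ x = φ.symm (exteriorPower.ιMulti A 2 ![(1 : B), x]) := rfl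

/-- The determinant as a linear isomorphism `Λ² B ≃ A`. -/
theorem exists_detEquiv (β : Basis (Fin 2) A B) :
    ∃ D : (⋀[A]^2 B) ≃ₗ[A] A, ∀ v, D (exteriorPower.ιMulti A 2 v) = β.det v := by
  let D := exteriorPower.alternatingMapLinearEquiv β.det
  have hD : ∀ v, D (exteriorPower.ιMulti A 2 v) = β.det v := fun v => by
    simp [D]
  have hsurj : Function.Surjective D := fun c => by
    refine ⟨c • exteriorPower.ιMulti A 2 β, ?_⟩
    rw [map_smul, hD, Basis.det_self, smul_eq_mul, mul_one]
  have hinj : Function.Injective D := by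
    -- the composite `c ↦ c • (β0 ∧ β1)` is inverse
    have key : (LinearMap.toSpanSingleton A _ (exteriorPower.ιMulti A 2 β)) ∘ₗ D =
        LinearMap.id := by
      apply exteriorPower.linearMap_ext
      refine Basis.ext_alternating β fun v hv => ?_
      simp only [LinearMap.compAlternatingMap_apply, LinearMap.comp_apply, LinearMap.id_apply, hD,
        LinearMap.toSpanSingleton_apply]
      have hv' : Function.Bijective v := Finite.injective_iff_bijective.1 hv
      have := AlternatingMap.map_perm (exteriorPower.ιMulti A 2 (M := B)) β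
        (Equiv.ofBijective v hv')
      have e1 : (fun i => β (v i)) = β ∘ (Equiv.ofBijective v hv') := rfl
      rw [e1, this, AlternatingMap.map_perm β.det β (Equiv.ofBijective v hv'), Basis.det_self]
      rcases Int.units_eq_one_or (Equiv.Perm.sign (Equiv.ofBijective v hv')) with h | h <;>
        rw [h] <;> simp
    intro x y hxy
    have := congrArg (LinearMap.toSpanSingleton A _ (exteriorPower.ιMulti A 2 β)) hxy
    rwa [← LinearMap.comp_apply, ← LinearMap.comp_apply, key] at this
  exact ⟨LinearEquiv.ofBijective D ⟨hinj, hsurj⟩, hD⟩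

/-- `τ` generates `Hom_A(B, L)` freely over `B`. -/
theorem existsUnique_mul (β : Basis (Fin 2) A B) (φ : L ≃ₗ[A] ⋀[A]^2 B) (f : B →ₗ[A] L) :
    ∃! b : B, ∀ x, f x = tau φ (b * x) := by
  obtain ⟨β', hβ'⟩ := exists_basis_one β
  obtain ⟨D, hD⟩ := exists_detEquiv β'
  -- identify
  have hE : ∀ x, D (φ (tau φ x)) = β'.repr x 1 := by
    intro x
    rw [tau_apply, LinearEquiv.apply_symm_apply, hD, Basis.det_apply, Matrix.det_fin_two]
    simp only [Basis.toMatrix_apply, Matrix.cons_val_zero, Matrix.cons_val_one]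
    rw [← hβ', β'.repr_self]
    simp
  have hφ : Function.Injective fun l : L => D (φ l) := fun x y h => φ.injective (D.injective h)
  -- multiplication table
  let t := β' 1
  have hx : ∀ x : B, x = (β'.repr x 0) • (1 : B) + (β'.repr x 1) • t := by
    intro x
    have := β'.sum_repr x
    rw [Fin.sum_univ_two, hβ'] at this
    exact this.symm
  have h10 : β'.repr (1 : B) 0 = 1 := by rw [← hβ', β'.repr_self]; simp
  have h11 : β'.repr (1 : B) 1 = 0 := by rw [← hβ', β'.repr_self]; simp
  have ht0 : β'.repr t 0 = 0 := by simp only [t]; rw [β'.repr_self]; simp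
  have ht1 : β'.repr t 1 = 1 := by simp only [t]; rw [β'.repr_self]; simp
  -- `g x = D (φ (f x))` is a functional
  let g : B →ₗ[A] A := D.toLinearMap ∘ₗ φ.toLinearMap ∘ₗ f
  -- `b = u + v t`, coordinate of `b` at `1` is `v`, coordinate of `b t` is `u + v s`
  let s := β'.repr (t * t) 1
  let b : B := (g t - g 1 * s) • (1 : B) + g 1 • t
  have hco : ∀ u v : A, β'.repr ((u • (1 : B) + v • t)) 1 = v := by
    intro u v
    rw [map_add, map_smul, map_smul]
    simp [h11, ht1]
  have hco' : ∀ u v : A, β'.repr ((u • (1 : B) + v • t) * t) 1 = u + v * s := by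
    intro u v
    rw [add_mul, smul_mul_assoc, smul_mul_assoc, one_mul, map_add, map_smul, map_smul]
    simp [ht1, s]
  refine ⟨b, fun x => ?_, fun b' hb' => ?_⟩
  · apply hφ
    show D (φ (f x)) = D (φ (tau φ (b * x)))
    rw [hE]
    have e1 : D (φ (f x)) = g x := rfl
    rw [e1]
    have key : ∀ c d : A, g (c • (1 : B) + d • t) =
        β'.repr (b * (c • (1 : B) + d • t)) 1 := by
      intro c d
      rw [map_add, map_smul, map_smul, mul_add, mul_smul_comm, mul_smul_comm, mul_one, map_add,
        map_smul, map_smul]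
      simp only [Finsupp.coe_add, Finsupp.coe_smul, Pi.add_apply, Pi.smul_apply, smul_eq_mul]
      simp only [b]
      rw [hco, hco']
      ring
    have := key (β'.repr x 0) (β'.repr x 1)
    rwa [← hx x] at this
  · have e1 : β'.repr b' 1 = g 1 := by
      have := hb' 1
      have h2 : D (φ (f 1)) = D (φ (tau φ (b' * 1))) := by rw [this]
      rw [hE, mul_one] at h2
      exact h2.symm
    have e2 : β'.repr (b' * t) 1 = g t := by
      have := hb' t
      have h2 : D (φ (f t)) = D (φ (tau φ (b' * t))) := by rw [this]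
      rw [hE] at h2
      exact h2.symm
    have e3 := hx b'
    rw [e3] at e2
    rw [hco', e1] at e2
    rw [e3, e1]
    simp only [b]
    rw [← e2]
    congr 2
    ring

variable {N : Type w} [AddCommGroup N] [Module A N] [Module B N] [IsScalarTower A B N]

omit [Module A N] [IsScalarTower A B N] in
/-- `Hom_B(N, B) → Hom_A(N, L)`, `ψ ↦ τ ∘ ψ`, is injective. -/
theorem tau_comp_injective (β : Basis (Fin 2) A B) (φ : L ≃ₗ[A] ⋀[A]^2 B)
    (ψ ψ' : N →ₗ[B] B) (h : ∀ n, tau φ (ψ n) = tau φ (ψ' n)) : ψ = ψ' := by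
  ext n
  obtain ⟨b, hb, hu⟩ := existsUnique_mul β φ
    ((tau φ) ∘ₗ (LinearMap.mul A B (ψ n)))
  have e1 : ψ n = b := hu _ fun x => rfl
  have e2 : ψ' n = b := hu _ fun x => by
    show tau φ (ψ n * x) = _
    have := h (x • n)
    rw [ψ.map_smul, ψ'.map_smul, smul_eq_mul, smul_eq_mul, mul_comm, mul_comm x] at this
    exact this
  rw [e1, e2]

/-- `Hom_B(N, B) → Hom_A(N, L)`, `ψ ↦ τ ∘ ψ`, is surjective. -/
theorem exists_tau_comp (β : Basis (Fin 2) A B) (φ : L ≃ₗ[A] ⋀[A]^2 B)
    (f : N →ₗ[A] L) : ∃ ψ : N →ₗ[B] B, ∀ n, tau φ (ψ n) = f n := by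
  -- for `n`, the functional `x ↦ f (x • n)`
  let F : N → (B →ₗ[A] L) := fun n =>
    f ∘ₗ { toFun := fun x => x • n
           map_add' := fun x y => add_smul x y n
           map_smul' := fun c x => smul_assoc c x n }
  have hF : ∀ n x, F n x = f (x • n) := fun _ _ => rfl
  choose ψ hψ hψu using fun n => existsUnique_mul β φ (F n)
  refine ⟨{ toFun := ψ
            map_add' := fun n n' => ?_
            map_smul' := fun c n => ?_ }, fun n => ?_⟩
  · refine (hψu (n + n') _ fun x => ?_).symm
    show F (n + n') x = tau φ ((ψ n + ψ n') * x)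
    rw [add_mul, map_add, ← hψ n x, ← hψ n' x, hF, hF, hF, smul_add, map_add]
  · refine (hψu (c • n) _ fun x => ?_).symm
    show F (c • n) x = tau φ ((c * ψ n) * x)
    have := hψ n (x * c)
    rw [hF, mul_smul] at this
    rw [hF, this]
    congr 1
    ring
  · have := hψ n 1
    rw [mul_one, hF, one_smul] at this
    exact this.symm

end

end K994.DblAlg
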