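import Groth.Agent.TautSh.K396.AlphaBd
import Groth.Agent.ShStab.K848.Stab

/-!
# The multilinear degree symbol on an integral scheme

`dml k d hn F : (c_1, …, c_r) ↦ (c_1 ⋯ c_r · F) - rk F (c_1 ⋯ c_r · O)` for `dim X = r + 1`.
-/

set_option autoImplicit false
universe u
open CategoryTheory CategoryTheory.Limits AlgebraicGeometry Polynomial

namespace K994.DegMl

open Groth.Agent Groth.Agent.Fga.PicMon Groth.Agent.Fga.AltSum Groth.Agent.Grpsch.PicGrp
  Groth.Agent.Pic13.H970.IntForm Groth.Agent.Fga.SnapperTwist
open K909.InterML K848.Hull K848.Rank K848.Stab K848.HB K848.Poly StabCat K396.Taut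

section general

variable (k : Type u) [Field k] (X : Scheme.{u}) [X.Over (Spec (CommRingCat.of k))] (d : ℕ) (F : X.Modules)

theorem inter_cons_mul' {r : ℕ} (a b : Pic X) (c : Fin r → Pic X) :
    inter k X d F (Fin.cons (a * b) c : Fin (r + 1) → Pic X) =
      inter k X d F (Fin.cons a c : Fin (r + 1) → Pic X) + inter k X d F (Fin.cons b c : Fin (r + 1) → Pic X) -
        inter k X d F (Fin.cons a (Fin.cons b c : Fin (r + 1) → Pic X) : Fin (r + 2) → Pic X) := by
  rw [inter_cons, inter_cons, inter_cons, inter_cons, inv_cons, mul_inv]
  unfold I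
  rw [toMC_cons, toMC_cons, toMC_cons, toMC_cons, toMC_cons, map_mul]
  exact dSum_cons_mul _ _ _ _

end general

section integral

variable (k : Type u) [Field k] (X : Scheme.{u}) [X.Over (Spec (CommRingCat.of k))]
  [IsProper (X ↘ Spec (CommRingCat.of k))] [IsIntegral X] (d : ℕ) (hd : topologicalKrullDim X ≤ d)
  {n : ℕ} (hn : topologicalKrullDim X = n)

include hd hn

/-- Top intersection numbers are proportional to the rank. -/
theorem inter_rank (c : Fin n → Pic X) (F : X.Modules) (hF : Coh.IsCoh F) :
    inter k X d F c = (rk F : ℤ) * inter k X d (Coh.structureModule X) c := by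
  have := isNoetherian_of_proper k X
  have h := rank_formula (X := X) (fun G => (inter k X d G c : ℚ)) (fun S hS h1 h2 h3 => by
    have := isAdd_inter k X d hd c S hS h1 h2 h3
    dsimp only at this ⊢
    exact_mod_cast this) (fun G hG h => by
    have h1 : topologicalKrullDim (CohB1.support G) < n := lt_of_add_one_le (dim_support_le_pred hn hG h)
    rw [inter_eq_zero k X d hd G hG c h1, Int.cast_zero]) F hF
  exact_mod_cast h

end integral

section integral

variable (k : Type u) [Field k] (X : Scheme.{u}) [X.Over (Spec (CommRingCat.of k))]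
  [IsProper (X ↘ Spec (CommRingCat.of k))] [IsIntegral X] (d : ℕ) (hd : topologicalKrullDim X ≤ d)
  {r : ℕ} (hn : topologicalKrullDim X = (r + 1 : ℕ)) (F : X.Modules) (hF : Coh.IsCoh F)

/-- The degree symbol. -/
noncomputable def dg (X : Scheme.{u}) [X.Over (Spec (CommRingCat.of k))] [IsIntegral X] (d : ℕ) (F : X.Modules)
    {r : ℕ} (c : Fin r → Pic X) : ℤ :=
  inter k X d F c - (rk F : ℤ) * inter k X d (Coh.structureModule X) c

/-- The degree symbol as a multilinear map. -/
noncomputable def dml : MultilinearMap ℤ (fun _ : Fin r => Additive (Pic X)) ℤ :=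
  have hadd : ∀ (v : Fin r → Additive (Pic X)) (i : Fin r) (x y : Additive (Pic X)),
      dg k X d F (fun j => (Function.update v i (x + y) j).toMul) =
        dg k X d F (fun j => (Function.update v i x j).toMul) +
        dg k X d F (fun j => (Function.update v i y j).toMul) := by
    intro v i x y
    have hup : ∀ z : Additive (Pic X), (fun j => (Function.update v i z j).toMul) =
        Function.update (fun j => (v j).toMul) i z.toMul := by
      intro z
      funext j
      by_cases hj : j = i
      · subst hj; simp
      · rw [Function.update_of_ne hj, Function.update_of_ne hj]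
    rw [hup, hup, hup]
    cases r with
    | zero => exact i.elim0
    | succ r =>
      obtain ⟨c', h⟩ : ∃ c' : Fin r → Pic X, ∀ (G : X.Modules) (x : Pic X),
          inter k X d G (Function.update (fun j => (v j).toMul) i x) =
            inter k X d G (Fin.cons x c' : Fin (r + 1) → Pic X) := by
        refine ⟨fun j => (v (Equiv.swap 0 i j.succ)).toMul, fun G x => ?_⟩
        rw [← inter_perm k X d G (Function.update (fun j => (v j).toMul) i x) (Equiv.swap 0 i)]
        congr 1
        funext j
        cases j using Fin.cases with
        | zero => rw [Equiv.swap_apply_left, Function.update_self, Fin.cons_zero]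
        | succ j =>
          rw [Function.update_of_ne, Fin.cons_succ]
          intro h
          have h2 : Equiv.swap 0 i j.succ = Equiv.swap 0 i 0 := by rw [h, Equiv.swap_apply_left]
          exact Fin.succ_ne_zero j ((Equiv.swap 0 i).injective h2)
      unfold dg
      rw [h, h, h, h, h, h, toMul_add, inter_cons_mul', inter_cons_mul',
        inter_rank k X d hd hn (Fin.cons x.toMul (Fin.cons y.toMul c' : Fin (r + 1) → Pic X) : Fin (r + 2) → Pic X) F hF]
      ring
  { toFun := fun v => dg k X d F (fun i => (v i).toMul)
    map_update_add' := by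
      intro hdec v i x y
      have hdd : hdec = instDecidableEqFin r := Subsingleton.elim _ _
      subst hdd
      exact hadd v i x y
    map_update_smul' := by
      intro hdec v i m x
      have hdd : hdec = instDecidableEqFin r := Subsingleton.elim _ _
      subst hdd
      let f : Additive (Pic X) →+ ℤ := AddMonoidHom.mk' (fun x => dg k X d F (fun j => (Function.update v i x j).toMul))
        (fun x y => hadd v i x y)
      exact f.map_zsmul m x }

theorem dml_apply (v : Fin r → Additive (Pic X)) :
    dml k X d hd hn F hF v = dg k X d F (fun i => (v i).toMul) := rfl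

include hd hn hF in
/-- Expansion of the degree with respect to `a^t b`. -/
theorem dg_expand (a b : Pic X) (t : ℕ) :
    dg k X d F (fun _ : Fin r => a ^ t * b) =
      ∑ s : Finset (Fin r), (t : ℤ) ^ s.card * dg k X d F (s.piecewise (fun _ => a) (fun _ => b)) := by
  classical
  have h1 := dml_apply k X d hd hn F hF (fun _ : Fin r => ((t : ℤ) • Additive.ofMul a + Additive.ofMul b))
  have e1 : (fun i : Fin r => ((fun _ : Fin r => ((t : ℤ) • Additive.ofMul a + Additive.ofMul b)) i).toMul) =
      fun _ : Fin r => a ^ t * b := by
    funext i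
    simp
  rw [e1] at h1
  rw [← h1]
  have h2 := (dml k X d hd hn F hF).map_add_univ (fun _ : Fin r => ((t : ℤ) • Additive.ofMul a)) (fun _ => Additive.ofMul b)
  have e2 : ((fun _ : Fin r => ((t : ℤ) • Additive.ofMul a)) + (fun _ : Fin r => Additive.ofMul b)) =
      fun _ : Fin r => ((t : ℤ) • Additive.ofMul a + Additive.ofMul b) := rfl
  rw [e2] at h2
  rw [h2]
  refine Finset.sum_congr rfl fun s _ => ?_
  have h3 := (dml k X d hd hn F hF).map_piecewise_smul (fun _ => (t : ℤ))
    (s.piecewise (fun _ : Fin r => Additive.ofMul a) (fun _ => Additive.ofMul b)) s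
  have e3 : s.piecewise (fun i : Fin r => (t : ℤ) • (s.piecewise (fun _ : Fin r => Additive.ofMul a) (fun _ => Additive.ofMul b)) i)
      (s.piecewise (fun _ : Fin r => Additive.ofMul a) (fun _ => Additive.ofMul b)) =
      s.piecewise (fun _ : Fin r => (t : ℤ) • Additive.ofMul a) (fun _ => Additive.ofMul b) := by
    funext i
    by_cases hi : i ∈ s
    · simp [hi]
    · simp [hi]
  rw [e3] at h3
  rw [h3, Finset.prod_const, smul_eq_mul, dml_apply]
  congr 2

include hd hn hF in
/-- The second coefficient of the Hilbert polynomial through the degree. -/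
theorem alpha_sub_eq_dg {A : X.Modules} (hA : PicF.IsInvertible A) :
    alpha r (hp k A F) - rk F * alpha r (hp k A (Coh.structureModule X)) =
      (dg k X d F (fun _ : Fin r => mk A hA) : ℚ) := by
  have hO : Coh.IsCoh (Coh.structureModule X) := isCoh_structureModule
  have h1 : alpha (r + 1) (hp k A F - (rk F : ℚ) • hp k A (Coh.structureModule X)) = 0 := by
    rw [alpha_sub, alpha_smul, alpha_rk k hA hn hF, sub_self]
  have h2 : (hp k A F - (rk F : ℚ) • hp k A (Coh.structureModule X)).natDegree ≤ r :=
    natDegree_le_of_alpha ((natDegree_sub_le _ _).trans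
      (max_le (natDegree_le k hA hn hF) ((natDegree_smul_le _ _).trans (natDegree_le k hA hn hO)))) h1
  have h3 : ∀ (n : ℕ) (a : ℚ) (P : ℚ[X]), nabla^[n] (a • P) = a • nabla^[n] P := by
    intro n
    induction n with
    | zero => intro a P; rfl
    | succ n ih =>
      intro a P
      rw [Function.iterate_succ_apply, Function.iterate_succ_apply]
      have : nabla (a • P) = a • nabla P := by
        unfold nabla
        rw [smul_sub]
        congr 1
        unfold shift
        exact Polynomial.smul_comp _ _ _
      rw [this, ih]
  rw [← alpha_smul, ← alpha_sub, ← eval_nabla_iter h2 0, nabla_iter_sub, h3, eval_sub, eval_smul,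
    nabla_eq_inter k d hd hA r hF, nabla_eq_inter k d hd hA r hO]
  unfold dg
  push_cast
  rfl

end integral

end K994.DegMl
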