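import Groth.Agent.TautSh.K994.Rk

/-!
# Degrees along a double cover `p : Z ⟶ H` whose source is another finite cover of the base off a small set
-/

set_option autoImplicit false
universe u
open CategoryTheory CategoryTheory.Limits AlgebraicGeometry TopologicalSpace

namespace K994.DegZ

open Groth.Agent Groth.Agent.Ega2 Groth.Agent.Fga.PicMon Groth.Agent.Grpsch.PicGrp Groth.Agent.Fga.SnapperTwist
open K909.InterML K396.Taut K396.Push K994.DegMl K848.Hull K848.Rank K848.Stab K994.Num2 K994.Rk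

section tensor

variable (k : Type u) [Field k] {X : Scheme.{u}} [X.Over (Spec (CommRingCat.of k))]
  [IsProper (X ↘ Spec (CommRingCat.of k))] [IsIntegral X] (d : ℕ) (hd : topologicalKrullDim X ≤ d)

theorem dg_eq {L : X.Modules} (hL : PicF.IsInvertible L) {r : ℕ} (c : Fin r → Pic X) :
    dg k X d L c = - inter k X d (Coh.structureModule X) (Fin.cons (mk L hL)⁻¹ c : Fin (r + 1) → Pic X) := by
  have h1 : rk L = 1 := rk_structureModule_of_isInvertible hL
  rw [inter_cons_inv_mk, inter_iso k X d _ (Ega2.Tens.runit L)]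
  unfold dg
  rw [h1]
  push_cast
  ring

include hd in
theorem dg_tensor {r : ℕ} (hn : topologicalKrullDim X = (r + 1 : ℕ)) {G L : X.Modules} (hG : PicF.IsInvertible G)
    (hL : PicF.IsInvertible L) (c : Fin r → Pic X) :
    dg k X d (CohB1.tensorMod G L) c = dg k X d G c + dg k X d L c := by
  rw [dg_eq k d (Fdesc.LocGen.isInvertible_tensorMod hG hL), dg_eq k d hG, dg_eq k d hL, ← mk_mul_mk hG hL, mul_inv,
    inter_cons_mul k X d hd _ isCoh_structureModule _ _ _ ((topologicalKrullDim_subspace_le _ _).trans hn.le)]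
  ring

end tensor

section zero

variable (k : Type u) [Field k] {Y H : Scheme.{u}} [Y.Over (Spec (CommRingCat.of k))] [H.Over (Spec (CommRingCat.of k))]
  [IsProper (Y ↘ (Spec (CommRingCat.of k)))] [IsProper (H ↘ (Spec (CommRingCat.of k)))] [IsIntegral H]
  (ρ : H ⟶ Y) (hρ : ρ ≫ (Y ↘ (Spec (CommRingCat.of k))) = H ↘ (Spec (CommRingCat.of k)))

include hρ in
theorem dg_eq_zero (W : Y.Opens) (hW : IsFinite (ρ ∣_ W)) {r : ℕ}
    (hdim : topologicalKrullDim ((W : Set Y)ᶜ : Set Y) < r) (d : ℕ) (hd : topologicalKrullDim H ≤ d)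
    (hn : topologicalKrullDim H = (r + 1 : ℕ)) (c : Fin r → Pic Y) {L : H.Modules} (hL : PicF.IsInvertible L)
    (m : CohB1.tensorMod L L ⟶ Coh.structureModule H) (hne : ∃ x, ρ x ∈ W)
    (hoff : ∀ x ∈ CohB1.support (cokernel m), ρ x ∉ W) :
    dg k H d L (fun i => pull ρ (c i)) = 0 := by
  have nH : IsNoetherian H := isNoetherian_of_proper k H
  have hLL := Fdesc.LocGen.isInvertible_tensorMod hL hL
  have hO1 : PicF.IsInvertible (Coh.structureModule H) := Groth.Agent.Fdesc.LocGen.isInvertible_structureModule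
  have hOc : Coh.IsCoh (Coh.structureModule H) := isCoh_structureModule
  have hLLc := isCoh_of_isInvertible hLL
  have hC : Coh.IsCoh (cokernel m) := Sga67.CohBasic.isCoh_cokernel _ hLLc.1 hOc
  obtain ⟨x, hx⟩ := hne
  have hgen : genericPoint H ∉ CohB1.support (cokernel m) := fun h =>
    hoff _ h (((genericPoint_specializes x).map ρ.continuous).mem_open W.isOpen hx)
  have hm : m ≠ 0 := by
    rintro rfl
    have h1 := (rk_eq_zero_iff hC).2 hgen
    rw [rk_iso cokernelZeroIsoTarget, rk_structureModule] at h1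
    exact one_ne_zero h1
  have hmono : Mono m := K704.InvHom.mono_of_ne_zero hLL hO1 m hm
  have hS : (ShortComplex.mk m (cokernel.π m) (cokernel.condition _)).ShortExact :=
    { exact := ShortComplex.exact_cokernel _
      mono_f := hmono
      epi_g := inferInstanceAs (Epi (cokernel.π m)) }
  have h1 := isAdd_inter k H d hd (fun i => pull ρ (c i)) _ hS hLLc hOc hC
  dsimp only at h1
  rw [inter_eq_zero_of_off k ρ hρ W hW hdim d hd c hC hoff, add_zero] at h1
  have h2 := dg_tensor k d hd hn hL hL (fun i => pull ρ (c i))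
  have h3 : rk (CohB1.tensorMod L L) = 1 := rk_structureModule_of_isInvertible hLL
  have h4 : dg k H d (CohB1.tensorMod L L) (fun i => pull ρ (c i)) = 0 := by
    unfold dg
    rw [h3, h1]
    push_cast
    ring
  omega

end zero

section main

variable (k : Type u) [Field k] {Y H Z P : Scheme.{u}} [Y.Over (Spec (CommRingCat.of k))]
  [H.Over (Spec (CommRingCat.of k))] [Z.Over (Spec (CommRingCat.of k))] [P.Over (Spec (CommRingCat.of k))]
  [IsProper (Y ↘ (Spec (CommRingCat.of k)))] [IsProper (H ↘ (Spec (CommRingCat.of k)))]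
  [IsProper (Z ↘ (Spec (CommRingCat.of k)))] [IsProper (P ↘ (Spec (CommRingCat.of k)))] [IsIntegral H] [IsIntegral Z]
  (ρ : H ⟶ Y) (hρ : ρ ≫ (Y ↘ (Spec (CommRingCat.of k))) = H ↘ (Spec (CommRingCat.of k)))
  (p : Z ⟶ H) [IsFinite p] [Surjective p] (hp : p ≫ (H ↘ (Spec (CommRingCat.of k))) = Z ↘ (Spec (CommRingCat.of k)))
  (q : P ⟶ Y) [IsFinite q] (hq : q ≫ (Y ↘ (Spec (CommRingCat.of k))) = P ↘ (Spec (CommRingCat.of k)))

include hρ hp hq in
/-- The inequality on `P` gives the inequality on `H`. -/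
theorem dg_lt (W : Y.Opens) (hW : IsFinite (ρ ∣_ W)) {s : ℕ}
    (hdim : topologicalKrullDim ((W : Set Y)ᶜ : Set Y) < s) (d : ℕ)
    (hn : topologicalKrullDim H = (s + 1 : ℕ)) (hdH : topologicalKrullDim H ≤ d) (hdZ : topologicalKrullDim Z ≤ d)
    (hdP : topologicalKrullDim P ≤ d) (c : Fin s → Pic Y) {L : H.Modules} (hL : PicF.IsInvertible L)
    (m : CohB1.tensorMod L L ⟶ Coh.structureModule H) (hne : ∃ x, ρ x ∈ W)
    (hoff : ∀ x ∈ CohB1.support (cokernel m), ρ x ∉ W)
    (eL : (Scheme.Modules.pushforward p).obj (Coh.structureModule Z) ≅ Coh.structureModule H ⊞ L)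
    (θ : ((q ⁻¹ᵁ W : P.Opens) : Scheme.{u}) ⟶ (((p ≫ ρ) ⁻¹ᵁ W : Z.Opens) : Scheme.{u})) [IsIso θ]
    (hθ : θ ≫ ((p ≫ ρ) ⁻¹ᵁ W).ι ≫ (p ≫ ρ) = (q ⁻¹ᵁ W).ι ≫ q)
    {G : H.Modules} (hG : PicF.IsInvertible G) {𝒢 : P.Modules} (h𝒢 : Coh.IsCoh 𝒢)
    (e𝒢 : (Scheme.Modules.pullback (q ⁻¹ᵁ W).ι).obj 𝒢 ≅
      (Scheme.Modules.pullback (θ ≫ ((p ≫ ρ) ⁻¹ᵁ W).ι)).obj ((Scheme.Modules.pullback p).obj G))
    {E : Z.Modules} (hE : Coh.IsCoh E) {A : P.Modules} (hA : Coh.IsCoh A)
    (eA : (Scheme.Modules.pullback (q ⁻¹ᵁ W).ι).obj A ≅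
      (Scheme.Modules.pullback (θ ≫ ((p ≫ ρ) ⁻¹ᵁ W).ι)).obj E) {r : ℕ} (hr : rk E = r)
    (hlt : (r : ℤ) * (inter k P d 𝒢 (fun i => pull q (c i)) -
        inter k P d (Coh.structureModule P) (fun i => pull q (c i))) <
      inter k P d A (fun i => pull q (c i)) - r * inter k P d (Coh.structureModule P) (fun i => pull q (c i))) :
    rk ((Scheme.Modules.pushforward p).obj E) = 2 * r ∧
    (rk ((Scheme.Modules.pushforward p).obj E) : ℤ) * dg k H d G (fun i => pull ρ (c i)) <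
      dg k H d ((Scheme.Modules.pushforward p).obj E) (fun i => pull ρ (c i)) := by
  have nH : IsNoetherian H := isNoetherian_of_proper k H
  have nZ : IsNoetherian Z := isNoetherian_of_proper k Z
  have nP : IsNoetherian P := isNoetherian_of_proper k P
  have nY : IsNoetherian Y := isNoetherian_of_proper k Y
  have hOZ : Coh.IsCoh (Coh.structureModule Z) := isCoh_structureModule
  have hOP : Coh.IsCoh (Coh.structureModule P) := isCoh_structureModule
  have hpρ : (p ≫ ρ) ≫ (Y ↘ (Spec (CommRingCat.of k))) = Z ↘ (Spec (CommRingCat.of k)) := by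
    rw [Category.assoc, hρ, hp]
  have hWq : IsFinite (q ∣_ W) := inferInstance
  have hWp : IsFinite ((p ≫ ρ) ∣_ W) := by
    have h1 : IsFinite (p ∣_ (ρ ⁻¹ᵁ W)) := by infer_instance
    rw [morphismRestrict_comp]
    exact MorphismProperty.comp_mem @IsFinite _ _ h1 hW
  have hrk : rk ((Scheme.Modules.pushforward p).obj E) = 2 * r := by
    rw [rk_push_dbl p hL eL E hE, hr]
  refine ⟨hrk, ?_⟩
  -- transport to `Z`
  have key : ∀ (A₁ : P.Modules) (A₂ : Z.Modules) (_ : Coh.IsCoh A₁) (_ : Coh.IsCoh A₂)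
      (_ : (Scheme.Modules.pullback (q ⁻¹ᵁ W).ι).obj A₁ ≅
        (Scheme.Modules.pullback (θ ≫ ((p ≫ ρ) ⁻¹ᵁ W).ι)).obj A₂),
      inter k P d A₁ (fun i => pull q (c i)) =
        inter k H d ((Scheme.Modules.pushforward p).obj A₂) (fun i => pull ρ (c i)) := by
    intro A₁ A₂ h1 h2 e
    rw [inter_eq_of_iso_over k q (p ≫ ρ) hq hpρ W hWq hWp s d hdP hdZ hdim c A₁ A₂ h1 h2 θ hθ e]
    have e1 : (fun i => pull (p ≫ ρ) (c i)) = fun i => pull p (pull ρ (c i)) := by
      funext i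
      rw [pull_comp]
    rw [e1, inter_push_finite k p hp d d hdH hdZ (fun i => pull ρ (c i)) h2]
  obtain ⟨u1⟩ := Ega3B.PullTensor.nonempty_pullUnitIso (q ⁻¹ᵁ W).ι
  obtain ⟨u2⟩ := Ega3B.PullTensor.nonempty_pullUnitIso (θ ≫ ((p ≫ ρ) ⁻¹ᵁ W).ι)
  have k1 := key 𝒢 _ h𝒢 (isCoh_of_isInvertible (Fdesc.LocGen.isInvertible_pullback p hG)) e𝒢
  have k2 := key _ _ hOP hOZ (u1 ≪≫ u2.symm)
  have k3 := key A E hA hE eA
  rw [inter_iso k H d _ (VarietyB.ProjForm.projIsoUnit p (Fga.HodgePush.hasBases_of_isInvertible hG)).symm,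
    inter_tensor_biprod k d hdH hG hL eL] at k1
  rw [inter_iso k H d _ eL, inter_biprod k d hdH isCoh_structureModule (isCoh_of_isInvertible hL)] at k2
  rw [k1, k2, k3] at hlt
  have d1 := dg_tensor k d hdH hn hG hL (fun i => pull ρ (c i))
  have d2 := dg_eq_zero k ρ hρ W hW hdim d hdH hn c hL m hne hoff
  have r1 : rk G = 1 := rk_structureModule_of_isInvertible hG
  have r2 : rk L = 1 := rk_structureModule_of_isInvertible hL
  have r3 : rk (CohB1.tensorMod G L) = 1 :=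
    rk_structureModule_of_isInvertible (Fdesc.LocGen.isInvertible_tensorMod hG hL)
  unfold dg at d1 d2 ⊢
  rw [r1, r2, r3] at d1
  rw [r2] at d2
  rw [hrk, r1]
  push_cast at d1 d2 ⊢
  nlinarith

end main

end K994.DegZ
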