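import Groth.Agent.TautSh.K994.Core
import Mathlib.AlgebraicGeometry.AlgClosed.Basic

/-!
# Generation of quasi-coherent modules of finite type checked at `k`-points
-/

set_option autoImplicit false
universe u

open CategoryTheory CategoryTheory.Limits AlgebraicGeometry Opposite TopologicalSpace
open AlgebraicGeometry.Scheme.Modules

namespace K994.EpiPt

open Groth.Agent.CohqA.PullbackUniv Groth.Agent.CohqA.PullbackSections
  Groth.Agent.CohqA.AffineBaseChange Groth.Agent.CohqA.PullbackAffine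
  Groth.Agent.CohqA.BaseChangeMod K994.Sec

section Alg

variable {A M : Type*} [CommRing A] [AddCommGroup M] [Module A M]

theorem eq_top_of_maximal [Module.Finite A M] (R : Submodule A M)
    (h : ∀ P : Ideal A, P.IsMaximal → R ⊔ P • (⊤ : Submodule A M) = ⊤) : R = ⊤ := by
  by_contra hne
  have hnt : Nontrivial (M ⧸ R) := Submodule.Quotient.nontrivial_iff.2 hne
  have h1 : Module.annihilator A (M ⧸ R) ≠ ⊤ := by
    intro h2
    rw [Module.annihilator_eq_top_iff] at h2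
    exact not_subsingleton _ h2
  obtain ⟨P, hP, hle⟩ := Ideal.exists_le_maximal _ h1
  have h3 : (⊤ : Submodule A (M ⧸ R)) ≤ P • (⊤ : Submodule A (M ⧸ R)) := by
    have h4 := congrArg (Submodule.map R.mkQ) (h P hP)
    rw [Submodule.map_sup, Submodule.map_smul'', Submodule.map_top, Submodule.range_mkQ] at h4
    have h5 : Submodule.map R.mkQ R = ⊥ := by
      rw [← le_bot_iff, Submodule.map_le_iff_le_comap, ← LinearMap.ker, Submodule.ker_mkQ]
    rw [h5, bot_sup_eq] at h4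
    exact h4.ge
  obtain ⟨r, hr, hr2⟩ := Submodule.exists_sub_one_mem_and_smul_eq_zero_of_fg_of_le_smul P
    (⊤ : Submodule A (M ⧸ R)) Module.Finite.fg_top h3
  have h5 : r ∈ P := hle (Module.mem_annihilator.2 fun m => hr2 m trivial)
  exact hP.ne_top ((Ideal.eq_top_iff_one _).2 (by simpa using sub_mem h5 hr))

end Alg

variable {k : Type u} [Field k] [IsAlgClosed k] {W : Scheme.{u}}
  (w : W ⟶ Spec (CommRingCat.of k)) [LocallyOfFiniteType w]

/-- The `k`-point attached to a maximal ideal of the sections over an affine open. -/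
theorem exists_point {U : W.Opens} (hU : IsAffineOpen U) (P : Ideal Γ(W, U)) (hP : P.IsMaximal) :
    ∃ (x : Spec (CommRingCat.of k) ⟶ W) (e : ⊤ ≤ x ⁻¹ᵁ U), x ≫ w = 𝟙 _ ∧
      Function.Surjective (x.appLE U ⊤ e).hom ∧ RingHom.ker (x.appLE U ⊤ e).hom = P := by
  have : P.IsPrime := hP.isPrime
  let pt : Spec Γ(W, U) := (⟨P, inferInstance⟩ : PrimeSpectrum Γ(W, U))
  have hpt : IsClosed ({pt} : Set (Spec Γ(W, U))) :=
    (PrimeSpectrum.isClosed_singleton_iff_isMaximal _).2 hP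
  let y : Spec (CommRingCat.of k) ⟶ Spec Γ(W, U) := pointOfClosedPoint (hU.fromSpec ≫ w) pt hpt
  have hy : y ≫ hU.fromSpec ≫ w = 𝟙 _ := pointOfClosedPoint_comp _ _ _
  have hy2 : ∀ a, y a = pt := pointOfClosedPoint_apply _ _ _
  obtain ⟨φ, hφ⟩ := Spec.map_surjective y
  have e : (⊤ : (Spec (CommRingCat.of k)).Opens) ≤ (y ≫ hU.fromSpec) ⁻¹ᵁ U := by
    rw [Scheme.Hom.comp_preimage, hU.fromSpec_preimage_self]
    exact le_rfl
  have e1 : (⊤ : (Spec Γ(W, U)).Opens) ≤ hU.fromSpec ⁻¹ᵁ U := by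
    rw [hU.fromSpec_preimage_self]
  have h1 : (y ≫ hU.fromSpec).appLE U ⊤ e = hU.fromSpec.appLE U ⊤ e1 ≫ y.appTop := by
    rw [← Scheme.Hom.appLE_comp_appLE (y) (hU.fromSpec) U ⊤ ⊤ e1 le_rfl]
    exact congrArg (fun z => hU.fromSpec.appLE U ⊤ e1 ≫ z)
      (Scheme.Hom.appLE_eq_app (f := y) (U := ⊤))
  have h2 : hU.fromSpec.appLE U ⊤ e1 = (Scheme.ΓSpecIso _).inv := by
    rw [Scheme.Hom.appLE, hU.fromSpec_app_self]
    rw [Category.assoc, ← Functor.map_comp]
    erw [CategoryTheory.Functor.map_id]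
    simp
  have hker : RingHom.ker φ.hom = P := by
    have h3 := hy2 (IsLocalRing.closedPoint k)
    rw [← hφ] at h3
    have h4 : (PrimeSpectrum.comap φ.hom (IsLocalRing.closedPoint k)).asIdeal = P :=
      congrArg PrimeSpectrum.asIdeal h3
    rw [← h4]
    ext a
    change _ ↔ φ.hom a ∈ IsLocalRing.maximalIdeal k
    rw [IsLocalRing.maximalIdeal_eq_bot, RingHom.mem_ker, Ideal.mem_bot]
  have h5 : (y ≫ hU.fromSpec).appLE U ⊤ e = φ ≫ (Scheme.ΓSpecIso (CommRingCat.of k)).inv := by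
    rw [h1, h2, ← hφ, Scheme.ΓSpecIso_inv_naturality]
  refine ⟨y ≫ hU.fromSpec, e, by simpa using hy, ?_, ?_⟩
  · have e2 : U ≤ w ⁻¹ᵁ ⊤ := le_top
    have h6 : w.appLE ⊤ U e2 ≫ (y ≫ hU.fromSpec).appLE U ⊤ e = 𝟙 _ := by
      rw [Scheme.Hom.appLE_comp_appLE]
      have h7 : (y ≫ hU.fromSpec) ≫ w = 𝟙 _ := by simpa using hy
      have h8 : ∀ {q : Spec (CommRingCat.of k) ⟶ Spec (CommRingCat.of k)} (hq : q = 𝟙 _)
          (e : (⊤ : (Spec (CommRingCat.of k)).Opens) ≤ q ⁻¹ᵁ ⊤), q.appLE ⊤ ⊤ e = 𝟙 _ := by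
        rintro _ rfl e
        exact Scheme.Hom.appLE_eq_app .. |>.trans (Scheme.Hom.id_app ..)
      exact h8 h7 _
    intro c
    exact ⟨(w.appLE ⊤ U e2).hom c, congr($(h6).hom c)⟩
  · rw [h5]
    ext a
    rw [RingHom.mem_ker, ← hker, RingHom.mem_ker]
    change (Scheme.ΓSpecIso (CommRingCat.of k)).inv.hom (φ.hom a) = 0 ↔ _
    exact map_eq_zero_iff _ (ConcreteCategory.bijective_of_isIso
      (Scheme.ΓSpecIso (CommRingCat.of k)).inv).1

variable {M : W.Modules} (hM : Coh.IsQCoh M)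

include hM in
/-- **Generation at `k`-points.** -/
theorem span_eq_top {U : W.Opens} (hU : IsAffineOpen U) (hfin : Module.Finite Γ(W, U) Γ(M, U))
    (E : Set Γ(M, ⊤))
    (h : ∀ x : Spec (CommRingCat.of k) ⟶ W, x ≫ w = 𝟙 _ →
      ∃ (N : (Spec (CommRingCat.of k)).Modules) (t : M ⟶ (pushforward x).obj N), IsUniv x t ∧
        ∀ y : Γ(N, ⊤), ∃ e ∈ E, t.app ⊤ e = y) :
    Submodule.span Γ(W, U) ((fun e => M.presheaf.map (homOfLE (le_top : U ≤ ⊤)).op e) '' E) = ⊤ := by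
  have : M.IsQuasicoherent := hM
  refine eq_top_of_maximal _ fun P hP => ?_
  obtain ⟨x, e, hx, hsurj, hker⟩ := exists_point w hU P hP
  obtain ⟨N, t, ht, hgen⟩ := h x hx
  have hbc := isBC_secMap x t ht hU (isAffineOpen_top _) e
  rw [eq_top_iff]
  intro m _
  have h1 : ⊤ ≤ x ⁻¹ᵁ (⊤ : W.Opens) := le_top
  obtain ⟨m', hm', hm''⟩ := hgen ((secMap x t U ⊤ e).hom m)
  have h2 : (secMap x t U ⊤ e).hom (M.presheaf.map (homOfLE (le_top : U ≤ ⊤)).op m') =
      (secMap x t U ⊤ e).hom m := by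
    rw [← hm'']
    have h3 := app_map t (le_top : U ≤ ⊤) m'
    have h6 : (secMap x t U ⊤ e).hom (M.presheaf.map (homOfLE (le_top : U ≤ ⊤)).op m') =
        N.presheaf.map (homOfLE e).op (N.presheaf.map (homOfLE (le_top : x ⁻¹ᵁ U ≤ ⊤)).op
          (show Γ(N, ⊤) from t.app ⊤ m')) := congrArg (N.presheaf.map (homOfLE e).op) h3
    rw [h6, map_map']
    exact map_self' N _ _
  have h4 : (secMap x t U ⊤ e).hom (m - M.presheaf.map (homOfLE (le_top : U ≤ ⊤)).op m') = 0 := by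
    rw [map_sub, h2, sub_self]
  rw [eq_zero_iff_of_isBC hsurj hbc, hker] at h4
  have h5 : m = M.presheaf.map (homOfLE (le_top : U ≤ ⊤)).op m' +
      (m - M.presheaf.map (homOfLE (le_top : U ≤ ⊤)).op m') := by abel
  rw [h5]
  exact Submodule.add_mem_sup (Submodule.subset_span ⟨m', hm', rfl⟩) h4

end K994.EpiPt
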