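import Groth.Agent.TautSh.K166.Hart
import Groth.Agent.TautSh.K254.NonZero
import Groth.Agent.ShStab.K848.Hull
import Groth.Agent.S0234

/-!
# Extension of invertible modules and of maps over a subset of codimension two
-/

set_option autoImplicit false
universe u
open CategoryTheory CategoryTheory.Limits AlgebraicGeometry TopologicalSpace

namespace K994.ExtP

open Groth.Agent K848.Hartogs K848.Hull K848.Rank K848.Stab

variable {P : Scheme.{u}} [IsIntegral P] [IsLocallyNoetherian P]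
  (hreg : ∀ x : P, IsRegularLocalRing (P.presheaf.stalk x))

omit [IsIntegral P] in
include hreg in
theorem exists_inv_ext (U : P.Opens) (N : (U : Scheme.{u}).Modules) (hN : PicF.IsInvertible N) :
    ∃ (𝒢 : P.Modules) (_ : PicF.IsInvertible 𝒢), Nonempty ((Scheme.Modules.pullback U.ι).obj 𝒢 ≅ N) := by
  obtain ⟨𝒢, h𝒢, ⟨e⟩⟩ := Groth.Agent.S0234.result P U N hN (fun x _ => ufd_of_regular hreg x)
  exact ⟨𝒢, h𝒢, ⟨(Scheme.Modules.restrictFunctorIsoPullback U.ι).symm.app 𝒢 ≪≫ e⟩⟩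

include hreg in
theorem exists_hom_ext {U : P.Opens} (hU : Big U) {G A : P.Modules} (hA : FlatMod.IsFinLocFree A)
    {N N' : (U : Scheme.{u}).Modules} (e : (Scheme.Modules.pullback U.ι).obj G ≅ N)
    (e' : (Scheme.Modules.pullback U.ι).obj A ≅ N') (ψ : N ⟶ N') (hψ : ψ ≠ 0) : ∃ φ : G ⟶ A, φ ≠ 0 := by
  let c := Scheme.Modules.restrictFunctorIsoPullback U.ι
  let ψ' : (Scheme.Modules.restrictFunctor U.ι).obj G ⟶ (Scheme.Modules.restrictFunctor U.ι).obj A :=
    (c.app G).hom ≫ e.hom ≫ ψ ≫ e'.inv ≫ (c.app A).inv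
  have hn := isIntegrallyClosed_of_regular hreg
  obtain ⟨φ, hφ⟩ := exists_extend hn hU (PerfA.CohSerre.isCoh_of_isFinLocFree hA) hA ψ'
  refine ⟨φ, ?_⟩
  rintro rfl
  apply hψ
  rw [Functor.map_zero] at hφ
  have h1 : (c.app G).hom ≫ e.hom ≫ ψ ≫ e'.inv ≫ (c.app A).inv = 0 := hφ.symm
  rw [← cancel_mono e'.inv, ← cancel_mono (c.app A).inv, ← cancel_epi e.hom, ← cancel_epi (c.app G).hom]
  simp only [Category.assoc, Limits.zero_comp, Limits.comp_zero]
  exact h1

include hreg in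
/-- Invariance of the extension under an automorphism. -/
theorem swap_iso {U : P.Opens} (hU : Big U) (s : P ⟶ P) (σ : (U : Scheme.{u}) ⟶ (U : Scheme.{u}))
    (hs : σ ≫ U.ι = U.ι ≫ s) {G : P.Modules} (hG : PicF.IsInvertible G) {Q : Scheme.{u}} (w : (U : Scheme.{u}) ⟶ Q)
    (hw : σ ≫ w = w) (N : Q.Modules) (e : (Scheme.Modules.pullback U.ι).obj G ≅ (Scheme.Modules.pullback w).obj N) :
    Nonempty ((Scheme.Modules.pullback s).obj G ≅ G) := by
  refine K166.Hart.nonempty_iso_of_big hreg _ _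
    (isFinLocFree_of_isInvertible (CycB.C1Pull.isInvertible_pullback s hG)) (isFinLocFree_of_isInvertible hG) U hU
    ?_
  exact (Scheme.Modules.pullbackComp U.ι s).app G ≪≫ (Scheme.Modules.pullbackCongr hs.symm).app G ≪≫
    ((Scheme.Modules.pullbackComp σ U.ι).app G).symm ≪≫ (Scheme.Modules.pullback σ).mapIso e ≪≫
    (Scheme.Modules.pullbackComp σ w).app N ≪≫ (Scheme.Modules.pullbackCongr hw).app N ≪≫ e.symm

end K994.ExtP
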