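import Groth.Agent.TautSh.K994.Fin
import Mathlib.AlgebraicGeometry.AlgClosed.Basic
import Mathlib.RingTheory.Ideal.Quotient.Operations

/-!
# Unions of finite closed subschemes of a scheme over a field
-/

set_option autoImplicit false
universe u

open CategoryTheory CategoryTheory.Limits AlgebraicGeometry Opposite TopologicalSpace

namespace K994.Fin2

open K994.Fin Groth.Agent.Picfga.ClosedMap

variable {k : Type u} [Field k]

section Affine

variable {V V₁ V₂ W : Scheme.{u}} (w : W ⟶ Spec (CommRingCat.of k))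

lemma str_comp (j : V ⟶ W) (x : k) : str (j ≫ w) x = j.appTop.hom (str w x) := rfl

/-- The `k`-linear map on functions induced by a morphism. -/
noncomputable def lin (j : V ⟶ W) : letI := (str w).toAlgebra; letI := (str (j ≫ w)).toAlgebra
    Γ(W, ⊤) →ₗ[k] Γ(V, ⊤) :=
  letI := (str w).toAlgebra
  letI := (str (j ≫ w)).toAlgebra
  { toFun := j.appTop.hom
    map_add' := map_add j.appTop.hom
    map_smul' := fun c x => by
      rw [Algebra.smul_def, Algebra.smul_def, RingHom.id_apply, map_mul]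
      rfl }

lemma appTop_surjective [IsAffine W] (j : V ⟶ W) [IsClosedImmersion j] :
    Function.Surjective j.appTop :=
  j.app_surjective ⊤ (isAffineOpen_top W)

lemma dm_of_iso (j : V ⟶ W) [IsIso j] : dm (j ≫ w) = dm w := by
  let := (str w).toAlgebra
  let := (str (j ≫ w)).toAlgebra
  have hi : IsIso j.appTop := inferInstanceAs (IsIso (j.app ⊤))
  have hb : Function.Bijective (lin w j) :=
    ConcreteCategory.bijective_of_isIso j.appTop
  exact (LinearEquiv.finrank_eq (LinearEquiv.ofBijective (lin w j) hb)).symm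

lemma dm_le [IsAffine W] [IsFinite w] (j : V ⟶ W) [IsClosedImmersion j] : dm (j ≫ w) ≤ dm w := by
  let := (str w).toAlgebra
  let := (str (j ≫ w)).toAlgebra
  have hf : Module.Finite k Γ(W, ⊤) := finite_str w
  exact LinearMap.finrank_le_finrank_of_surjective (f := lin w j) (appTop_surjective j)

lemma isIso_of_dm_le [IsAffine W] [IsFinite w] (j : V ⟶ W) [IsClosedImmersion j]
    (h : dm w ≤ dm (j ≫ w)) : IsIso j := by
  let := (str w).toAlgebra
  let := (str (j ≫ w)).toAlgebra
  have hf : Module.Finite k Γ(W, ⊤) := finite_str w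
  have hf' : IsFinite (j ≫ w) := inferInstance
  have hf2 : Module.Finite k Γ(V, ⊤) := finite_str (j ≫ w)
  have h1 : Function.Surjective (lin w j) := appTop_surjective j
  have h2 : Function.Injective (lin w j) :=
    (LinearMap.injective_iff_surjective_of_finrank_eq_finrank
      (le_antisymm h (dm_le w j))).2 h1
  exact IsClosedImmersion.isIso_of_injective_of_isAffine (f := j) h2

lemma dm_le_add [IsAffine W] [IsFinite w] (j₁ : V₁ ⟶ W)
    (j₂ : V₂ ⟶ W) [IsClosedImmersion j₁]
    [IsClosedImmersion j₂] (h : RingHom.ker j₁.appTop.hom ⊓ RingHom.ker j₂.appTop.hom = ⊥) :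
    dm w ≤ dm (j₁ ≫ w) + dm (j₂ ≫ w) := by
  let := (str w).toAlgebra
  let := (str (j₁ ≫ w)).toAlgebra
  let := (str (j₂ ≫ w)).toAlgebra
  have hf1 : Module.Finite k Γ(V₁, ⊤) := finite_str (j₁ ≫ w)
  have hf2 : Module.Finite k Γ(V₂, ⊤) := finite_str (j₂ ≫ w)
  have hinj : Function.Injective ((lin w j₁).prod (lin w j₂)) := by
    rw [injective_iff_map_eq_zero]
    intro x hx
    have h1 : x ∈ RingHom.ker j₁.appTop.hom ⊓ RingHom.ker j₂.appTop.hom :=
      ⟨congrArg Prod.fst hx, congrArg Prod.snd hx⟩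
    rwa [h] at h1
  have := LinearMap.finrank_le_finrank_of_injective hinj
  rwa [Module.finrank_prod] at this

lemma dm_eq_add [IsAffine W] [IsFinite w] (j₁ : V₁ ⟶ W)
    (j₂ : V₂ ⟶ W) [IsClosedImmersion j₁]
    [IsClosedImmersion j₂] (h : RingHom.ker j₁.appTop.hom ⊓ RingHom.ker j₂.appTop.hom = ⊥)
    (h' : RingHom.ker j₁.appTop.hom ⊔ RingHom.ker j₂.appTop.hom = ⊤) :
    dm w = dm (j₁ ≫ w) + dm (j₂ ≫ w) := by
  let := (str w).toAlgebra
  let := (str (j₁ ≫ w)).toAlgebra
  let := (str (j₂ ≫ w)).toAlgebra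
  have hf1 : Module.Finite k Γ(V₁, ⊤) := finite_str (j₁ ≫ w)
  have hf2 : Module.Finite k Γ(V₂, ⊤) := finite_str (j₂ ≫ w)
  have hinj : Function.Injective ((lin w j₁).prod (lin w j₂)) := by
    rw [injective_iff_map_eq_zero]
    intro x hx
    have h1 : x ∈ RingHom.ker j₁.appTop.hom ⊓ RingHom.ker j₂.appTop.hom :=
      ⟨congrArg Prod.fst hx, congrArg Prod.snd hx⟩
    rwa [h] at h1
  have hsurj : Function.Surjective ((lin w j₁).prod (lin w j₂)) := by
    rintro ⟨a, b⟩
    obtain ⟨x, rfl⟩ := appTop_surjective j₁ a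
    obtain ⟨y, rfl⟩ := appTop_surjective j₂ b
    obtain ⟨e₁, he₁, e₂, he₂, he⟩ := Submodule.mem_sup.1 ((Ideal.eq_top_iff_one _).1 h')
    rw [RingHom.mem_ker] at he₁ he₂
    refine ⟨e₂ * x + e₁ * y, ?_⟩
    have h1 : j₁.appTop.hom e₂ = 1 := by
      rw [← eq_sub_iff_add_eq'] at he
      rw [he, map_sub, he₁, map_one, sub_zero]
    have h2 : j₂.appTop.hom e₁ = 1 := by
      rw [← eq_sub_iff_add_eq] at he
      rw [he, map_sub, he₂, map_one, sub_zero]
    apply Prod.ext
    · change j₁.appTop.hom (e₂ * x + e₁ * y) = _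
      rw [map_add, map_mul, map_mul, h1, he₁, one_mul, zero_mul, add_zero]
    · change j₂.appTop.hom (e₂ * x + e₁ * y) = _
      rw [map_add, map_mul, map_mul, h2, he₂, one_mul, zero_mul, zero_add]
  have := LinearEquiv.finrank_eq (LinearEquiv.ofBijective _ ⟨hinj, hsurj⟩)
  rwa [Module.finrank_prod] at this

end Affine

section Ideals

variable {X W : Scheme.{u}} (f : X ⟶ Spec (CommRingCat.of k))

/-- The inclusion of closed subschemes. -/
noncomputable abbrev inc {I J : X.IdealSheafData} (h : I ≤ J) : J.subscheme ⟶ I.subscheme :=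
  Scheme.IdealSheafData.inclusion h

lemma inc_ker {I J : X.IdealSheafData} (h : I ≤ J) : (inc h).ker.map I.subschemeι = J := by
  rw [Scheme.IdealSheafData.map_ker, inc, Scheme.IdealSheafData.inclusion_subschemeι,
    Scheme.IdealSheafData.ker_subschemeι]

lemma ofIdealTop_injective [IsAffine W] {I J : Ideal Γ(W, ⊤)}
    (h : Scheme.IdealSheafData.ofIdealTop I = Scheme.IdealSheafData.ofIdealTop J) : I = J :=
  Scheme.IdealSheafData.equivOfIsAffine.symm.injective h

lemma ker_eq [IsAffine W] {V : Scheme.{u}} (j : V ⟶ W) :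
    Scheme.IdealSheafData.equivOfIsAffine j.ker = RingHom.ker j.appTop.hom := by
  rw [Scheme.ker_of_isAffine]
  exact Scheme.IdealSheafData.equivOfIsAffine.apply_symm_apply _

lemma ker_inf {I₀ I₁ I₂ : X.IdealSheafData} [IsAffine I₀.subscheme] (h : I₀ = I₁ ⊓ I₂)
    (h₁ : I₀ ≤ I₁) (h₂ : I₀ ≤ I₂) :
    RingHom.ker (inc h₁).appTop.hom ⊓ RingHom.ker (inc h₂).appTop.hom = ⊥ := by
  rw [← ker_eq, ← ker_eq, ← map_inf,
    ← map_bot (Scheme.IdealSheafData.equivOfIsAffine (X := I₀.subscheme))]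
  congr 1
  apply map_injective I₀.subschemeι
  dsimp only
  rw [Scheme.IdealSheafData.map_inf, inc_ker, inc_ker, Scheme.IdealSheafData.map_bot,
    Scheme.IdealSheafData.ker_subschemeι, h]

lemma ker_sup {I₀ I₁ I₂ : X.IdealSheafData} [IsAffine I₀.subscheme]
    (h₁ : I₀ ≤ I₁) (h₂ : I₀ ≤ I₂) (h : I₁ ⊔ I₂ = ⊤) :
    RingHom.ker (inc h₁).appTop.hom ⊔ RingHom.ker (inc h₂).appTop.hom = ⊤ := by
  rw [← ker_eq, ← ker_eq, ← map_sup,
    ← map_top (Scheme.IdealSheafData.equivOfIsAffine (X := I₀.subscheme))]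
  congr 1
  have e : ∀ {J : X.IdealSheafData} (hJ : I₀ ≤ J), (inc hJ).ker = J.comap I₀.subschemeι := by
    intro J hJ
    have h3 := comap_map I₀.subschemeι (inc hJ).ker
    rw [inc_ker] at h3
    exact h3.symm
  rw [e h₁, e h₂, ← Scheme.IdealSheafData.comap_sup, h, Scheme.IdealSheafData.comap_top]

end Ideals

end K994.Fin2
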