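import Groth.Agent.TautSh.K994.Fin2

/-!
# Unions and extensions of finite closed subschemes of a scheme over an algebraically closed field
-/

set_option autoImplicit false
universe u

open CategoryTheory CategoryTheory.Limits AlgebraicGeometry Opposite TopologicalSpace

namespace K994.Fin3

open K994.Fin K994.Fin2 Groth.Agent.Picfga.ClosedMap

variable {k : Type u} [Field k] {X : Scheme.{u}} (f : X ⟶ Spec (CommRingCat.of k))

lemma finite_support (I : X.IdealSheafData) [IsFinite (I.subschemeι ≫ f)] :
    (I.support : Set X).Finite := by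
  rw [← Scheme.IdealSheafData.range_subschemeι]
  have h : (Set.univ : Set I.subscheme).Finite := by
    have := (I.subschemeι ≫ f).finite_preimage (Set.toFinite (Set.univ : Set (Spec (.of k))))
    simpa using this
  have : Finite I.subscheme := Set.finite_univ_iff.1 h
  exact Set.finite_range _

lemma isClosed_of_mem_support (I : X.IdealSheafData) [IsFinite (I.subschemeι ≫ f)] {x : X}
    (hx : x ∈ I.support) : IsClosed ({x} : Set X) := by
  have hx' : x ∈ Set.range I.subschemeι := by
    rw [Scheme.IdealSheafData.range_subschemeι]; exact hx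
  obtain ⟨y, rfl⟩ := hx'
  have h : (Set.univ : Set I.subscheme).Finite := by
    have := (I.subschemeι ≫ f).finite_preimage (Set.toFinite (Set.univ : Set (Spec (.of k))))
    simpa using this
  have : Finite I.subscheme := Set.finite_univ_iff.1 h
  have : JacobsonSpace I.subscheme := LocallyOfFiniteType.jacobsonSpace (I.subschemeι ≫ f)
  have h2 := I.subschemeι.isClosedEmbedding.isClosedMap {y} (isClosed_discrete _)
  rwa [Set.image_singleton] at h2

variable [LocallyOfFiniteType f]

lemma isFinite_of_finite_support (I : X.IdealSheafData) (h : (I.support : Set X).Finite) :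
    IsFinite (I.subschemeι ≫ f) := by
  rw [← Scheme.IdealSheafData.range_subschemeι] at h
  have h1 : Finite I.subscheme := by
    rw [← Set.finite_univ_iff]
    rw [← Set.image_univ] at h
    exact h.of_finite_image (I.subschemeι.isClosedEmbedding.injective.injOn)
  have h2 : QuasiCompact (I.subschemeι ≫ f) := by
    rw [quasiCompact_iff_compactSpace]
    infer_instance
  have h3 : LocallyQuasiFinite (I.subschemeι ≫ f) :=
    LocallyQuasiFinite.of_finite_preimage_singleton _ fun x => Set.toFinite _
  exact IsFinite.of_locallyQuasiFinite _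

lemma support_inf (I J : X.IdealSheafData) : (I ⊓ J).support = I.support ⊔ J.support := by
  apply le_antisymm
  · rw [← Scheme.IdealSheafData.support_mul]
    exact Scheme.IdealSheafData.support_antitone fun U => Ideal.mul_le_inf
  · exact sup_le (Scheme.IdealSheafData.support_antitone inf_le_left)
      (Scheme.IdealSheafData.support_antitone inf_le_right)

lemma isFinite_inf (I J : X.IdealSheafData) [IsFinite (I.subschemeι ≫ f)]
    [IsFinite (J.subschemeι ≫ f)] : IsFinite ((I ⊓ J).subschemeι ≫ f) := by
  apply isFinite_of_finite_support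
  rw [support_inf, Closeds.coe_sup]
  exact (finite_support f I).union (finite_support f J)

omit [LocallyOfFiniteType f] in
lemma inc_comp {I J : X.IdealSheafData} (h : I ≤ J) :
    inc h ≫ I.subschemeι ≫ f = J.subschemeι ≫ f := by
  rw [← Category.assoc, Scheme.IdealSheafData.inclusion_subschemeι]

instance {I J : X.IdealSheafData} (h : I ≤ J) : IsClosedImmersion (inc h) := by
  have : IsClosedImmersion (inc h ≫ I.subschemeι) := by
    rw [Scheme.IdealSheafData.inclusion_subschemeι]
    infer_instance
  exact .of_comp (inc h) I.subschemeι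

/-- The degree of a union is at most the sum of the degrees. -/
lemma dm_inf_le (I J : X.IdealSheafData) [IsFinite (I.subschemeι ≫ f)]
    [IsFinite (J.subschemeι ≫ f)] :
    dm ((I ⊓ J).subschemeι ≫ f) ≤ dm (I.subschemeι ≫ f) + dm (J.subschemeι ≫ f) := by
  have h0 := isFinite_inf f I J
  have := isAffine_of_isFinite ((I ⊓ J).subschemeι ≫ f)
  have h := dm_le_add ((I ⊓ J).subschemeι ≫ f) (inc (inf_le_left (a := I) (b := J)))
    (inc (inf_le_right (a := I) (b := J))) (ker_inf rfl _ _)
  rwa [inc_comp, inc_comp] at h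

lemma dm_inf_eq (I J : X.IdealSheafData) [IsFinite (I.subschemeι ≫ f)]
    [IsFinite (J.subschemeι ≫ f)] (hIJ : I ⊔ J = ⊤) :
    dm ((I ⊓ J).subschemeι ≫ f) = dm (I.subschemeι ≫ f) + dm (J.subschemeι ≫ f) := by
  have h0 := isFinite_inf f I J
  have := isAffine_of_isFinite ((I ⊓ J).subschemeι ≫ f)
  have h := dm_eq_add ((I ⊓ J).subschemeι ≫ f) (inc (inf_le_left (a := I) (b := J)))
    (inc (inf_le_right (a := I) (b := J))) (ker_inf rfl _ _) (ker_sup _ _ hIJ)
  rwa [inc_comp, inc_comp] at h

section Point

variable [IsAlgClosed k] [IrreducibleSpace X] [Nontrivial X]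

include f in
omit [IsAlgClosed k] in
lemma exists_closed_point (F : Set X) (hF : F.Finite) : ∃ x : X, IsClosed ({x} : Set X) ∧ x ∉ F := by
  by_contra hcon
  push Not at hcon
  have hJ : JacobsonSpace X := LocallyOfFiniteType.jacobsonSpace f
  have : DiscreteTopology X := JacobsonSpace.discreteTopology (hF.subset hcon)
  obtain ⟨x, y, hxy⟩ := exists_pair_ne X
  have h := (IrreducibleSpace.isIrreducible_univ X).2 {x} {y} (isOpen_discrete _)
    (isOpen_discrete _) ⟨x, by simp⟩ ⟨y, by simp⟩
  obtain ⟨z, -, hz1, hz2⟩ := h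
  exact hxy (by rw [← Set.mem_singleton_iff.1 hz1, Set.mem_singleton_iff.1 hz2])

omit [IsAlgClosed k] in
lemma dm_id : dm (𝟙 (Spec (CommRingCat.of k))) = 1 := by
  let := (str (𝟙 (Spec (CommRingCat.of k)))).toAlgebra
  have hb : Function.Bijective (algebraMap k Γ(Spec (CommRingCat.of k), ⊤)) := by
    have : str (𝟙 (Spec (CommRingCat.of k))) = (Scheme.ΓSpecIso (CommRingCat.of k)).inv.hom := by
      unfold str
      ext x
      simp
    change Function.Bijective (str (𝟙 (Spec (CommRingCat.of k))))
    rw [this]
    exact ConcreteCategory.bijective_of_isIso (Scheme.ΓSpecIso (CommRingCat.of k)).inv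
  have h := LinearEquiv.finrank_eq (LinearEquiv.ofBijective (Algebra.linearMap k
    Γ(Spec (CommRingCat.of k), ⊤)) hb)
  rw [Module.finrank_self] at h
  exact h.symm

/-- A finite closed subscheme can be enlarged by a point. -/
theorem exists_add_point (I : X.IdealSheafData) [IsFinite (I.subschemeι ≫ f)] :
    ∃ J : X.IdealSheafData, J ≤ I ∧ IsFinite (J.subschemeι ≫ f) ∧
      dm (J.subschemeι ≫ f) = dm (I.subschemeι ≫ f) + 1 := by
  obtain ⟨x, hx, hxI⟩ := exists_closed_point f (I.support : Set X) (finite_support f I)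
  let p := pointOfClosedPoint f x hx
  have hp : p ≫ f = 𝟙 _ := pointOfClosedPoint_comp f x hx
  have hci : IsClosedImmersion p := isClosedImmersion_of_comp_eq_id _ _ hp
  have e : (p.toImage) ≫ (p.ker.subschemeι ≫ f) = 𝟙 _ := by
    rw [← hp, ← Category.assoc]
    congr 1
    exact p.toImage_imageι
  have hiso : IsIso (p.ker.subschemeι ≫ f) := by
    have h1 : IsIso ((p.toImage) ≫ (p.ker.subschemeι ≫ f)) := by rw [e]; infer_instance
    exact IsIso.of_isIso_comp_left p.toImage _
  have hfin : IsFinite (p.ker.subschemeι ≫ f) := inferInstance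
  have hdm : dm (p.ker.subschemeι ≫ f) = 1 := by
    rw [← dm_of_iso (p.ker.subschemeι ≫ f) p.toImage, e, dm_id]
  have hsup : I ⊔ p.ker = ⊤ := by
    rw [← Scheme.IdealSheafData.support_eq_bot_iff, Scheme.IdealSheafData.support_sup]
    ext y
    simp only [Closeds.coe_inf, Closeds.coe_bot, Set.mem_inter_iff, Set.mem_empty_iff_false,
      iff_false, not_and]
    intro hy hy'
    rw [Scheme.Hom.support_ker, IsClosed.closure_eq p.isClosedEmbedding.isClosed_range] at hy'
    obtain ⟨z, rfl⟩ := hy'
    apply hxI
    rwa [← pointOfClosedPoint_apply f x hx z]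
  exact ⟨I ⊓ p.ker, inf_le_left, isFinite_inf f I p.ker, by rw [dm_inf_eq f I p.ker hsup, hdm]⟩

/-- A finite closed subscheme can be enlarged to one of any larger degree. -/
theorem exists_enlarge (I : X.IdealSheafData) [IsFinite (I.subschemeι ≫ f)] (N : ℕ)
    (hN : dm (I.subschemeι ≫ f) ≤ N) :
    ∃ J : X.IdealSheafData, J ≤ I ∧ IsFinite (J.subschemeι ≫ f) ∧
      dm (J.subschemeι ≫ f) = N := by
  obtain ⟨m, rfl⟩ := Nat.exists_eq_add_of_le hN
  clear hN
  induction m with
  | zero => exact ⟨I, le_rfl, inferInstance, rfl⟩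
  | succ m ih =>
    obtain ⟨J, h1, h2, h3⟩ := ih
    obtain ⟨J', h1', h2', h3'⟩ := exists_add_point f J
    exact ⟨J', h1'.trans h1, h2', by rw [h3', h3]; rfl⟩

end Point

end K994.Fin3
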