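import Groth.Agent.TautSh.K994.Fin3
import Groth.Agent.TautSh.K994.Alg

/-!
# Intermediate closed subschemes of finite schemes over an algebraically closed field
-/

set_option autoImplicit false
universe u

open CategoryTheory CategoryTheory.Limits AlgebraicGeometry Opposite TopologicalSpace

namespace K994.Fin4

open K994.Fin K994.Fin2 K994.Fin3 Groth.Agent.Picfga.ClosedMap

variable {k : Type u} [Field k]

lemma dm_eq_quot {V W : Scheme.{u}} (w : W ⟶ Spec (CommRingCat.of k)) [IsAffine W] (j : V ⟶ W)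
    [IsClosedImmersion j] : letI := (str w).toAlgebra
    dm (j ≫ w) = Module.finrank k (Γ(W, ⊤) ⧸ RingHom.ker j.appTop.hom) := by
  let := (str w).toAlgebra
  let := (str (j ≫ w)).toAlgebra
  let φ : Γ(W, ⊤) →ₐ[k] Γ(V, ⊤) := { j.appTop.hom with commutes' := fun c => rfl }
  have hs : Function.Surjective φ := appTop_surjective j
  exact (LinearEquiv.finrank_eq (Ideal.quotientKerAlgEquivOfSurjective hs).toLinearEquiv).symm

variable {X : Scheme.{u}} (f : X ⟶ Spec (CommRingCat.of k))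

lemma inc_ker_eq_comap {I₀ J : X.IdealSheafData} (h : I₀ ≤ J) :
    (inc h).ker = J.comap I₀.subschemeι := by
  have h3 := comap_map I₀.subschemeι (inc h).ker
  rw [inc_ker] at h3
  exact h3.symm

lemma ker_mono_iff {I₀ I J : X.IdealSheafData} [IsAffine I₀.subscheme] (hI : I₀ ≤ I)
    (hJ : I₀ ≤ J) : RingHom.ker (inc hI).appTop.hom ≤ RingHom.ker (inc hJ).appTop.hom ↔ I ≤ J := by
  rw [← ker_eq, ← ker_eq, map_le_map_iff]
  constructor
  · intro h
    rw [← inc_ker hI, ← inc_ker hJ]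
    exact Scheme.IdealSheafData.map_mono _ h
  · intro h
    rw [inc_ker_eq_comap, inc_ker_eq_comap]
    exact Scheme.IdealSheafData.comap_mono _ h

lemma sup_ker_le {I₀ I J : X.IdealSheafData} [IsAffine I₀.subscheme] (hI : I₀ ≤ I)
    (hJ : I₀ ≤ J) : RingHom.ker (inc hI).appTop.hom ⊔ RingHom.ker (inc hJ).appTop.hom =
      Scheme.IdealSheafData.equivOfIsAffine ((I ⊔ J).comap I₀.subschemeι) := by
  rw [← ker_eq, ← ker_eq, ← map_sup, inc_ker_eq_comap, inc_ker_eq_comap,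
    ← Scheme.IdealSheafData.comap_sup]

/-- The ideal sheaf on `X` of the closed subscheme of `V(I₀)` defined by an ideal. -/
noncomputable def toIdl (I₀ : X.IdealSheafData) (J : Ideal Γ(I₀.subscheme, ⊤)) :
    X.IdealSheafData :=
  (Scheme.IdealSheafData.ofIdealTop J).map I₀.subschemeι

lemma le_toIdl (I₀ : X.IdealSheafData) (J : Ideal Γ(I₀.subscheme, ⊤)) : I₀ ≤ toIdl I₀ J := by
  have := ker_le_map I₀.subschemeι (Scheme.IdealSheafData.ofIdealTop J)
  rwa [Scheme.IdealSheafData.ker_subschemeι] at this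

lemma ker_toIdl (I₀ : X.IdealSheafData) [IsAffine I₀.subscheme]
    (J : Ideal Γ(I₀.subscheme, ⊤)) :
    RingHom.ker (inc (le_toIdl I₀ J)).appTop.hom = J := by
  rw [← ker_eq, inc_ker_eq_comap, toIdl, comap_map]
  exact Scheme.IdealSheafData.equivOfIsAffine.apply_symm_apply J

/-- Between a finite closed subscheme `V(I₁)` and its intersection with `V(I₂)` there is a closed
subscheme whose degree is one less than that of `V(I₁)`, unless `V(I₁) ⊆ V(I₂)`. -/
theorem exists_intermediate [IsAlgClosed k] {I₀ I₁ I₂ : X.IdealSheafData} (h₁ : I₀ ≤ I₁)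
    (h₂ : I₀ ≤ I₂) [IsFinite (I₀.subschemeι ≫ f)] (hne : ¬ I₂ ≤ I₁) :
    ∃ I₃ : X.IdealSheafData, I₁ ≤ I₃ ∧ I₃ ≤ I₁ ⊔ I₂ ∧
      dm (I₁.subschemeι ≫ f) = dm (I₃.subschemeι ≫ f) + 1 := by
  have := isAffine_of_isFinite (I₀.subschemeι ≫ f)
  let := (str (I₀.subschemeι ≫ f)).toAlgebra
  have hfin : Module.Finite k Γ(I₀.subscheme, ⊤) := finite_str (I₀.subschemeι ≫ f)
  rw [← ker_mono_iff h₂ h₁] at hne
  obtain ⟨J₃, ha, hb, hc⟩ := K994.Alg.exists_intermediate (k := k) _ _ hne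
  refine ⟨toIdl I₀ J₃, ?_, ?_, ?_⟩
  · rw [← ker_mono_iff h₁ (le_toIdl I₀ J₃), ker_toIdl]
    exact ha
  · rw [← ker_mono_iff (le_toIdl I₀ J₃) (h₁.trans le_sup_left), ker_toIdl]
    refine hb.trans (le_of_eq ?_)
    rw [sup_ker_le, ← ker_eq, inc_ker_eq_comap]
  · have e1 := dm_eq_quot (I₀.subschemeι ≫ f) (inc h₁)
    have e2 := dm_eq_quot (I₀.subschemeι ≫ f) (inc (le_toIdl I₀ J₃))
    rw [inc_comp] at e1 e2
    rw [e1, e2, hc]
    rw [ker_toIdl]

end K994.Fin4
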