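import Groth.Agent.TautSh.K994.PFacts
import Mathlib.AlgebraicGeometry.AlgClosed.Basic

/-!
# Points of the double cover over the locus of two distinct points
-/

set_option autoImplicit false
universe u
open CategoryTheory CategoryTheory.Limits AlgebraicGeometry TopologicalSpace

namespace K994.Pts

open Groth.Agent K992.FibPow K992.BigDiag K254.Fib2

section swap

variable (k : Type u) [Field k] [IsAlgClosed k] {X : Scheme.{u}} (f : X ⟶ Spec (CommRingCat.of k)) [LocallyOfFiniteType f]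

theorem swap_ne {U : (SymProd.fibPow f 2).Opens} (hU : ∀ x ∈ bigDiag f 1, x ∉ U)
    (hft : LocallyOfFiniteType (base f 2))
    (σ : (U : Scheme.{u}) ⟶ (U : Scheme.{u})) (hσ : σ ≫ U.ι = U.ι ≫ SymProd.permHom f 2 (Equiv.swap 0 1))
    (v : U) (hv : IsClosed {v}) : σ v ≠ v := by
  intro h
  let a : Spec (CommRingCat.of k) ⟶ (U : Scheme.{u}) := pointOfClosedPoint (U.ι ≫ base f 2) v hv
  have ha : a ≫ (U.ι ≫ base f 2) = 𝟙 _ := pointOfClosedPoint_comp _ _ _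
  have hav : a (IsLocalRing.closedPoint k) = v := pointOfClosedPoint_apply _ _ _ _
  have hσb : σ ≫ (U.ι ≫ base f 2) = U.ι ≫ base f 2 := by
    rw [← Category.assoc, hσ, Category.assoc]
    congr 1
    exact SymProd.permHom_base f 2 (Equiv.swap 0 1)
  have h1 : a ≫ σ = a := by
    refine ext_of_apply_closedPoint_eq (U.ι ≫ base f 2) ?_ ha ?_
    · rw [Category.assoc, hσb, ha]
    · have h6 : (a ≫ σ) (IsLocalRing.closedPoint k) = σ v := congrArg (fun w => σ w) hav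
      exact h6.trans (h.trans hav.symm)
  have h2 : (a ≫ U.ι) ≫ pr f (0 : Fin 2) = (a ≫ U.ι) ≫ pr f (1 : Fin 2) := by
    have h3 : (a ≫ U.ι) ≫ SymProd.permHom f 2 (Equiv.swap 0 1) = a ≫ U.ι := by
      rw [Category.assoc, ← hσ, ← Category.assoc, h1]
    conv_lhs => rw [← h3]
    rw [Category.assoc, permHom_swap_pr0]
  have h4 := mem_of_eq f (i := (0 : Fin 2)) (j := 1) (by decide) (a ≫ U.ι) h2 (IsLocalRing.closedPoint k)
  have h5 : (a ≫ U.ι) (IsLocalRing.closedPoint k) = v.1 := congrArg (fun w => U.ι w) hav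
  exact hU _ h4 (h5 ▸ v.2)

variable {Hs Z Y : Scheme.{u}} (p : Z ⟶ Hs) [Surjective p] (ρ : Hs ⟶ Y) (W : Y.Opens)
  {U : (SymProd.fibPow f 2).Opens} (j : (U : Scheme.{u}) ⟶ Z)

/-- Two different points over each closed point in the open set. -/
theorem exists_pair [CompactSpace U] (hU : ∀ x ∈ bigDiag f 1, x ∉ U) (hft : LocallyOfFiniteType (base f 2))
    (σ : (U : Scheme.{u}) ⟶ (U : Scheme.{u})) (hσ : σ ≫ U.ι = U.ι ≫ SymProd.permHom f 2 (Equiv.swap 0 1))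
    (hj : Function.Injective j) (hrange : ∀ z : Z, ρ (p z) ∈ W → z ∈ Set.range j) (hσj : σ ≫ j ≫ p = j ≫ p)
    (y : Hs) (hy : IsClosed {y}) (hyW : ρ y ∈ W) : ∃ z z' : Z, z ≠ z' ∧ p z = p z' ∧ p z = y := by
  obtain ⟨z, hz⟩ := p.surjective y
  obtain ⟨v0, hv0⟩ := hrange z (by rw [hz]; exact hyW)
  have hcl : IsClosed ((j ≫ p) ⁻¹' {y}) := hy.preimage (j ≫ p).continuous
  obtain ⟨v, hv, hvc⟩ := hcl.exists_closed_singleton ⟨v0, by
    change (j ≫ p) v0 = y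
    rw [Scheme.Hom.comp_apply, hv0, hz]⟩
  have hv' : p (j v) = y := hv
  have h1 : p (j (σ v)) = y := by
    have h2 : (σ ≫ j ≫ p) v = (j ≫ p) v := by rw [hσj]
    exact h2.trans hv
  refine ⟨j v, j (σ v), fun h => ?_, hv'.trans h1.symm, hv'⟩
  exact swap_ne k f hU hft σ hσ v hvc (hj h).symm

/-- A closed subset which contains no point with two different points over it avoids the open set. -/
theorem off_of_pair [JacobsonSpace Hs] [CompactSpace U] (hU : ∀ x ∈ bigDiag f 1, x ∉ U)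
    (hft : LocallyOfFiniteType (base f 2))
    (σ : (U : Scheme.{u}) ⟶ (U : Scheme.{u})) (hσ : σ ≫ U.ι = U.ι ≫ SymProd.permHom f 2 (Equiv.swap 0 1))
    (hj : Function.Injective j) (hrange : ∀ z : Z, ρ (p z) ∈ W → z ∈ Set.range j) (hσj : σ ≫ j ≫ p = j ≫ p)
    (T : Set Hs) (hT : IsClosed T) (h : ∀ z z' : Z, z ≠ z' → p z = p z' → p z ∉ T) (x : Hs) (hx : x ∈ T) :
    ρ x ∉ W := by
  intro hxW
  have hlc : IsLocallyClosed (T ∩ ρ ⁻¹' (W : Set Y)) :=
    hT.isLocallyClosed.inter (W.isOpen.preimage ρ.continuous).isLocallyClosed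
  obtain ⟨y, ⟨hyT, hyW⟩, hy⟩ := nonempty_inter_closedPoints (⟨x, hx, hxW⟩ : (T ∩ ρ ⁻¹' (W : Set Y)).Nonempty) hlc
  rw [mem_closedPoints_iff] at hy
  obtain ⟨z, z', hz, hp, rfl⟩ := exists_pair k f p ρ W j hU hft σ hσ hj hrange hσj y hy hyW
  exact h z z' hz hp hyT

theorem exists_mem [JacobsonSpace Hs] [CompactSpace U] (hU : ∀ x ∈ bigDiag f 1, x ∉ U)
    (hft : LocallyOfFiniteType (base f 2))
    (σ : (U : Scheme.{u}) ⟶ (U : Scheme.{u})) (hσ : σ ≫ U.ι = U.ι ≫ SymProd.permHom f 2 (Equiv.swap 0 1))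
    (hj : Function.Injective j) (hrange : ∀ z : Z, ρ (p z) ∈ W → z ∈ Set.range j) (hσj : σ ≫ j ≫ p = j ≫ p)
    (hne : ∃ x, ρ x ∈ W) : ∃ z z' : Z, z ≠ z' ∧ p z = p z' := by
  obtain ⟨x, hx⟩ := hne
  obtain ⟨y, hyW, hy⟩ := nonempty_inter_closedPoints (⟨x, hx⟩ : (ρ ⁻¹' (W : Set Y)).Nonempty)
    (W.isOpen.preimage ρ.continuous).isLocallyClosed
  rw [mem_closedPoints_iff] at hy
  obtain ⟨z, z', hz, hp, -⟩ := exists_pair k f p ρ W j hU hft σ hσ hj hrange hσj y hy hyW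
  exact ⟨z, z', hz, hp⟩

end swap

end K994.Pts
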