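import Groth.Agent.TautSh.K994.DegZ
import Groth.Agent.TautSh.K994.ExtP
import Groth.Agent.TautSh.K994.Pts
import Groth.Agent.TautSh.K254.DegLt

/-!
# The degree inequality on the Hilbert square, from the double cover `Z ⟶ H` and `X² ⟶ Y`
-/

set_option autoImplicit false
universe u
open CategoryTheory CategoryTheory.Limits AlgebraicGeometry TopologicalSpace

namespace K994.Ineq

open Groth.Agent Groth.Agent.Grpsch.PicGrp Groth.Agent.Fga.SnapperTwist K992.FibPow K992.BigDiag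
open K848.Hull K848.Rank K848.Stab K848.Hartogs K994.DegMl K994.Num2 K994.Rk

theorem isUnit_two (k : Type u) [Field k] [CharZero k] {H : Scheme.{u}} (h : H ⟶ Spec (CommRingCat.of k)) :
    IsUnit (2 : Γ(H, ⊤)) := by
  let φ : k →+* Γ(H, ⊤) := h.appTop.hom.comp (Scheme.ΓSpecIso (CommRingCat.of k)).inv.hom
  have h1 : IsUnit (2 : k) := IsUnit.mk0 2 two_ne_zero
  have h2 := h1.map φ
  rwa [map_ofNat] at h2

theorem map_ne_zero_of_hom {C D : Type*} [Category* C] [Category* D] [Preadditive C] [Preadditive D] {F : C ⥤ D} {G : D ⥤ C}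
    (adj : F ⊣ G) [F.PreservesZeroMorphisms] [G.PreservesZeroMorphisms] {A : C} {B : D} (φ : A ⟶ G.obj B) (hφ : φ ≠ 0) :
    (adj.homEquiv A B).symm φ ≠ 0 := by
  intro h
  apply hφ
  have h1 : adj.homEquiv A B ((adj.homEquiv A B).symm φ) = φ := Equiv.apply_symm_apply _ _
  rw [← h1, h, Adjunction.homEquiv_unit, G.map_zero, Limits.comp_zero]

section main

variable (k : Type u) [Field k] [IsAlgClosed k] [CharZero k] (X : Scheme.{u}) [X.Over (Spec (CommRingCat.of k))]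
  [AlgebraicGeometry.IsIntegral X] [Smooth (X ↘ Spec (CommRingCat.of k))] [IsProper (X ↘ Spec (CommRingCat.of k))]

local notation "fX" => (X ↘ Spec (CommRingCat.of k))

/-- The degree inequality for invertible modules with a nonzero map to `p_* qq^* F`. -/
theorem ineq (hdim : topologicalKrullDim X = 2) (Hl : X.Modules) (hHl : CohB1.IsAmple Hl) (F : X.Modules) (r : ℕ)
    (hr : FlatMod.IsFinLocFreeOfRank r F) (hFO : IsEmpty (F ≅ Coh.structureModule X))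
    (hFst : ShStab.IsMuStable k X Hl F 2)
    {Hs : Scheme.{u}} [Hs.Over (Spec (CommRingCat.of k))] [IsProper (Hs ↘ Spec (CommRingCat.of k))] [IsIntegral Hs]
    (hdH : topologicalKrullDim Hs = 4)
    {Z : Scheme.{u}} (p : Z ⟶ Hs) [IsFinite p] [Flat p] [LocallyOfFinitePresentation p] (hrk : ∀ y, p.finrank y = 2)
    (qq : Z ⟶ X) {Y : Scheme.{u}} (q : SymProd.fibPow fX 2 ⟶ Y) (gY : Y ⟶ Spec (CommRingCat.of k))
    (hY : SymProd.IsSymProd fX 2 q gY) (ρ : Hs ⟶ Y) (hρ : ρ ≫ gY = Hs ↘ Spec (CommRingCat.of k)) (M : Y.Modules)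
    (hM : TautSh.IsSymPowLB fX 2 q Hl M)
    (W : Y.Opens) (hW : (W : Set Y) = (q '' bigDiag fX 1)ᶜ) (hfin : IsFinite (ρ ∣_ W))
    (θ : ((q ⁻¹ᵁ W : (SymProd.fibPow fX 2).Opens) : Scheme.{u}) ⟶ (((p ≫ ρ) ⁻¹ᵁ W : Z.Opens) : Scheme.{u})) [IsIso θ]
    (hθX : θ ≫ ((p ≫ ρ) ⁻¹ᵁ W).ι ≫ qq = (q ⁻¹ᵁ W).ι ≫ pr fX (0 : Fin 2))
    (hθY : θ ≫ ((p ≫ ρ) ⁻¹ᵁ W).ι ≫ p ≫ ρ = (q ⁻¹ᵁ W).ι ≫ q)
    (σ : ((q ⁻¹ᵁ W : (SymProd.fibPow fX 2).Opens) : Scheme.{u}) ⟶ ((q ⁻¹ᵁ W : (SymProd.fibPow fX 2).Opens) : Scheme.{u}))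
    (hσ : σ ≫ (q ⁻¹ᵁ W).ι = (q ⁻¹ᵁ W).ι ≫ SymProd.permHom fX 2 (Equiv.swap 0 1))
    (hσu : σ ≫ θ ≫ ((p ≫ ρ) ⁻¹ᵁ W).ι ≫ p = θ ≫ ((p ≫ ρ) ⁻¹ᵁ W).ι ≫ p)
    (G : Hs.Modules) (hG : PicF.IsInvertible G)
    (φ : G ⟶ (Scheme.Modules.pushforward p).obj ((Scheme.Modules.pullback qq).obj F)) (hφ : φ ≠ 0) :
    rk ((Scheme.Modules.pushforward p).obj ((Scheme.Modules.pullback qq).obj F)) = 2 * r ∧
      (rk ((Scheme.Modules.pushforward p).obj ((Scheme.Modules.pullback qq).obj F)) : ℤ) *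
        dg k Hs 4 G (fun _ : Fin 3 => pull ρ (mk M hM.1)) <
      dg k Hs 4 ((Scheme.Modules.pushforward p).obj ((Scheme.Modules.pullback qq).obj F))
        (fun _ : Fin 3 => pull ρ (mk M hM.1)) := by
  obtain ⟨hgY, hqfin, hqs, hsat⟩ := K639.SymFacts.quot_facts k X q gY hY
  let : Y.Over (Spec (CommRingCat.of k)) := ⟨gY⟩
  have : IsProper (Y ↘ Spec (CommRingCat.of k)) := hgY
  let P := SymProd.fibPow fX 2
  let iP : P.Over (Spec (CommRingCat.of k)) := ⟨base fX 2⟩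
  have hPp : IsProper (P ↘ Spec (CommRingCat.of k)) := PFacts.proper_base k X
  have hPi : IsIntegral P := PFacts.isIntegral k X
  have hPd : topologicalKrullDim P = 4 := PFacts.dim k X hdim
  have hreg : ∀ x : P, IsRegularLocalRing (P.presheaf.stalk x) := PFacts.regular k X
  let iZ : Z.Over (Spec (CommRingCat.of k)) := ⟨p ≫ (Hs ↘ Spec (CommRingCat.of k))⟩
  have hZp : IsProper (Z ↘ Spec (CommRingCat.of k)) := inferInstanceAs (IsProper (p ≫ (Hs ↘ Spec (CommRingCat.of k))))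
  have nP : IsNoetherian P := isNoetherian_of_proper k P
  have nZ : IsNoetherian Z := isNoetherian_of_proper k Z
  have nH : IsNoetherian Hs := isNoetherian_of_proper k Hs
  have hft : LocallyOfFiniteType (base fX 2) := by
    have := PFacts.proper_base k X
    infer_instance
  have hJ : JacobsonSpace Hs := LocallyOfFiniteType.jacobsonSpace (Hs ↘ Spec (CommRingCat.of k))
  have h2 := isUnit_two k (Hs ↘ Spec (CommRingCat.of k))
  have hps : Surjective p := by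
    rw [← Scheme.Hom.one_le_finrank_iff_surjective]
    intro y
    rw [hrk y]
    exact one_le_two
  obtain ⟨L, hL, m, ⟨eL⟩, hpair⟩ := K554.DblSplit.exists_split p hrk h2
  let U : P.Opens := q ⁻¹ᵁ W
  have hUmem : ∀ x : P, x ∈ U ↔ x ∉ bigDiag fX 1 := by
    intro x
    have h1 : x ∈ U ↔ q x ∈ (W : Set Y) := Iff.rfl
    rw [h1, hW, Set.mem_compl_iff, not_iff_not]
    constructor
    · intro h
      rw [← hsat]
      exact h
    · intro h
      exact ⟨x, h, rfl⟩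
  have hUbig : Big U := PFacts.big k X hdim U fun x hx => (hUmem x).2 hx
  have hUdiag : ∀ x ∈ bigDiag fX 1, x ∉ U := fun x hx h => (hUmem x).1 h hx
  have hUc : CompactSpace U := by
    have : NoetherianSpace P := inferInstance
    exact isCompact_iff_compactSpace.1 (NoetherianSpace.isCompact _)
  let j : (U : Scheme.{u}) ⟶ Z := θ ≫ ((p ≫ ρ) ⁻¹ᵁ W).ι
  have hjo : IsOpenImmersion j := inferInstanceAs (IsOpenImmersion (θ ≫ ((p ≫ ρ) ⁻¹ᵁ W).ι))
  have hj : Function.Injective j := j.isOpenEmbedding.injective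
  have hrange : ∀ z : Z, ρ (p z) ∈ W → z ∈ Set.range j := by
    intro z hz
    obtain ⟨w, hw⟩ := θ.surjective (⟨z, hz⟩ : (((p ≫ ρ) ⁻¹ᵁ W : Z.Opens) : Scheme.{u}))
    refine ⟨w, ?_⟩
    exact congrArg (fun t => ((p ≫ ρ) ⁻¹ᵁ W).ι t) hw
  have hjX : j ≫ qq = U.ι ≫ pr fX (0 : Fin 2) := (Category.assoc _ _ _).trans hθX
  have hjY : j ≫ p ≫ ρ = U.ι ≫ q := (Category.assoc _ _ _).trans hθY
  have hσj : σ ≫ j ≫ p = j ≫ p := by
    have h1 : j ≫ p = θ ≫ ((p ≫ ρ) ⁻¹ᵁ W).ι ≫ p := Category.assoc _ _ _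
    rw [h1]
    exact hσu
  let η : U := ⟨genericPoint P, hUbig.genericPoint_mem⟩
  have hne : ∃ x, ρ x ∈ W := by
    refine ⟨p (j η), ?_⟩
    have h1 : (j ≫ p ≫ ρ) η = (U.ι ≫ q) η := by rw [hjY]
    have h3 : ρ (p (j η)) = q (genericPoint P) := h1
    rw [h3]
    exact hUbig.genericPoint_mem
  have hVirr : IrreducibleSpace U := by
    have : Nonempty (U : Scheme.{u}) := ⟨η⟩
    have : IsIntegral (U : Scheme.{u}) := inferInstance
    infer_instance
  obtain ⟨z0, z0', hz0, hpz0⟩ := Pts.exists_mem k fX p ρ W j hUdiag hft σ hσ hj hrange hσj hne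
  have hZint : IsIntegral Z := K554.DblSplit.isIntegral_dbl p hrk h2 j (ρ ⁻¹ᵁ W)
    (by obtain ⟨x, hx⟩ := hne; exact ⟨x, hx⟩) (fun z hz => hrange z hz) z0 z0' hz0 hpz0
  have hLL := Fdesc.LocGen.isInvertible_tensorMod hL hL
  have hcoker : Coh.IsCoh (cokernel m) :=
    Sga67.CohBasic.isCoh_cokernel _ (isCoh_of_isInvertible hLL).1 isCoh_structureModule
  have hoff := Pts.off_of_pair k fX p ρ W j hUdiag hft σ hσ hj hrange hσj (CohB1.support (cokernel m))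
    (Ega3B.Devissage.isClosed_support hcoker) hpair
  -- bundles
  have hFl : FlatMod.IsFinLocFree F := fun x => by
    obtain ⟨V, hxV, e⟩ := hr x
    exact ⟨V, r, hxV, e⟩
  have hEl := PerfB.FlatPull.isFinLocFree_pullback qq hFl
  have hAl := PerfB.FlatPull.isFinLocFree_pullback (pr fX (0 : Fin 2)) hFl
  have hEc := PerfA.CohSerre.isCoh_of_isFinLocFree hEl
  have hAc := PerfA.CohSerre.isCoh_of_isFinLocFree hAl
  have hpG := Fdesc.LocGen.isInvertible_pullback p hG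
  -- the adjoint map
  let φ' : (Scheme.Modules.pullback p).obj G ⟶ (Scheme.Modules.pullback qq).obj F :=
    ((Scheme.Modules.pullbackPushforwardAdjunction p).homEquiv _ _).symm φ
  have hφ' : φ' ≠ 0 := map_ne_zero_of_hom _ φ hφ
  obtain ⟨O, hO, hOφ⟩ := K254.NonZero.exists_open hpG hEl φ' hφ'
  have hjφ : (Scheme.Modules.pullback j).map φ' ≠ 0 := by
    obtain ⟨z, hzO, ⟨w, rfl⟩⟩ := nonempty_preirreducible_inter O.isOpen j.isOpenEmbedding.isOpen_range hO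
      ⟨j η, Set.mem_range_self _⟩
    exact hOφ j w hzO
  -- the extension
  obtain ⟨𝒢, h𝒢, ⟨e𝒢⟩⟩ := ExtP.exists_inv_ext hreg U ((Scheme.Modules.pullback j).obj ((Scheme.Modules.pullback p).obj G))
    (Fdesc.LocGen.isInvertible_pullback j hpG)
  let eA : (Scheme.Modules.pullback U.ι).obj ((Scheme.Modules.pullback (pr fX (0 : Fin 2))).obj F) ≅
      (Scheme.Modules.pullback j).obj ((Scheme.Modules.pullback qq).obj F) :=
    (Scheme.Modules.pullbackComp U.ι (pr fX (0 : Fin 2))).app F ≪≫ (Scheme.Modules.pullbackCongr hjX.symm).app F ≪≫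
      ((Scheme.Modules.pullbackComp j qq).app F).symm
  obtain ⟨ψ, hψ⟩ := ExtP.exists_hom_ext hreg hUbig hAl e𝒢 eA ((Scheme.Modules.pullback j).map φ') hjφ
  obtain ⟨esw⟩ := ExtP.swap_iso hreg hUbig (SymProd.permHom fX 2 (Equiv.swap 0 1)) σ hσ h𝒢 (j ≫ p) hσj G
    (e𝒢 ≪≫ (Scheme.Modules.pullbackComp j p).app G)
  -- the inverse of the polarisation
  have hM' := isInvertible_dual hM.1
  have hH'' : ClSub.IsInverseOf ((Scheme.Modules.pullback q).obj (dual M)) (TautSh.boxPow fX 2 Hl) := by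
    obtain ⟨e1⟩ := hM.2
    obtain ⟨u⟩ := Ega3B.PullTensor.nonempty_pullUnitIso q
    have hev := isIso_ev hM.1
    exact ⟨Ega2.Tens.mapTIso (Iso.refl _) e1.symm ≪≫ (Ega3B.PullTensor.pullTensorIso q hM' hM.1).symm ≪≫
      (Scheme.Modules.pullback q).mapIso ((Ega2.Tens.swap M (dual M)).symm ≪≫ @asIso _ _ _ _ (ev M) hev) ≪≫ u⟩
  have h10 := K254.DegLt.deg_lt k X hdim Hl hHl F r hr hFO hFst rfl 𝒢 h𝒢 esw ψ hψ _ hH''
  have hconv : ∀ V : P.Modules, FGA.intNum k P 4 (fun _ : Fin 3 => (Scheme.Modules.pullback q).obj (dual M)) V =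
      K909.InterML.inter k P 4 V (fun _ : Fin 3 => pull q (mk M hM.1)) := fun V =>
    (inter_pull_eq_intNum k q 4 (fun _ : Fin 3 => mk M hM.1) (fun _ => dual M) (fun _ => hM') rfl V).symm
  rw [hconv, hconv, hconv] at h10
  have hdW : topologicalKrullDim ((W : Set Y)ᶜ : Set Y) < (3 : ℕ) := by
    rw [hW, compl_compl]
    refine lt_of_le_of_lt (K639.SymFacts.dim_disc k X hdim q gY hY) ?_
    exact_mod_cast (by norm_num : 2 < 3)
  have hdZ : topologicalKrullDim Z ≤ (4 : ℕ) := by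
    refine le_trans (K618.TopDim.dim_le_of_fibres p p.continuous
      fun _ _ h he => K618.Sch.eq_of_specializes_of_eq p h he) hdH.le
  have hrkE : rk ((Scheme.Modules.pullback qq).obj F) = r := rk_pullback_of_rank qq hr
  exact DegZ.dg_lt k ρ hρ p rfl q hY.over W hfin (s := 3) hdW 4 hdH hdH.le hdZ hPd.le
    (fun _ => mk M hM.1) hL m hne hoff eL θ hθY hG (isCoh_of_isInvertible h𝒢) e𝒢 hEc hAc eA hrkE h10

end main

end K994.Ineq
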