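import Groth.Agent.TautSh.K994.DegMl
import Groth.Agent.TautSh.K219.IntOver
import Groth.Agent.TautSh.K554.DblSplit
import Groth.Agent.CohqB.R1Supp

/-!
# Intersection numbers of pulled back classes along a double cover
-/

set_option autoImplicit false
universe u
open CategoryTheory CategoryTheory.Limits AlgebraicGeometry TopologicalSpace

namespace K994.Num2

open Groth.Agent Groth.Agent.Ega2 Groth.Agent.Fga.PicMon Groth.Agent.Grpsch.PicGrp Groth.Agent.Fga.SnapperTwist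
open K909.InterML K396.Taut K396.Push K994.DegMl K848.Hull K848.Rank K848.Stab

section push

variable (k : Type u) [Field k] {X Z : Scheme.{u}} [X.Over (Spec (CommRingCat.of k))] [Z.Over (Spec (CommRingCat.of k))]
  (g : Z ⟶ X)

/-- Numbers of pulled back classes through modules representing the inverses. -/
theorem inter_pull_eq_intNum (d : ℕ) {r : ℕ} (c : Fin r → Pic X) (N : Fin r → X.Modules)
    (hN : ∀ i, PicF.IsInvertible (N i)) (h : (fun i => (c i)⁻¹) = fun i => mk (N i) (hN i)) (F : Z.Modules) :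
    inter k Z d F (fun i => pull g (c i)) =
      FGA.intNum k Z d (fun i => (Scheme.Modules.pullback g).obj (N i)) F := by
  unfold inter
  rw [Pic13.H970.IntForm.intNum_eq k Z d F _ (fun i => Fdesc.LocGen.isInvertible_pullback g (hN i))]
  congr 1
  funext i
  rw [← pull_mk g (hN i), ← map_inv]
  exact congrArg (pull g) (congrFun h i)

theorem inter_eq_intNum (d : ℕ) {r : ℕ} (c : Fin r → Pic X) (N : Fin r → X.Modules)
    (hN : ∀ i, PicF.IsInvertible (N i)) (h : (fun i => (c i)⁻¹) = fun i => mk (N i) (hN i)) (F : X.Modules) :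
    inter k X d F c = FGA.intNum k X d N F := by
  unfold inter
  rw [h, Pic13.H970.IntForm.intNum_eq k X d F N hN]

variable [IsProper (X ↘ (Spec (CommRingCat.of k)))] [IsProper (Z ↘ (Spec (CommRingCat.of k)))]
  (hg : g ≫ (X ↘ (Spec (CommRingCat.of k))) = Z ↘ (Spec (CommRingCat.of k)))

include hg

/-- The push formula for a finite morphism. -/
theorem inter_push_finite [IsFinite g] (d e : ℕ) (hd : topologicalKrullDim X ≤ d) (he : topologicalKrullDim Z ≤ e)
    {r : ℕ} (c : Fin r → Pic X) {F : Z.Modules} (hF : Coh.IsCoh F) :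
    inter k Z e F (fun i => pull g (c i)) = inter k X d ((Scheme.Modules.pushforward g).obj F) c := by
  have nX : IsNoetherian X := Fga.IntAdd.isNoetherian k X
  have nZ : IsNoetherian Z := Fga.IntAdd.isNoetherian k Z
  obtain ⟨N, hN, h⟩ := Pic13.H970.IntForm.exists_rep X (fun i => (c i)⁻¹)
  rw [inter_pull_eq_intNum k g e c N hN h, inter_eq_intNum k d c N hN h]
  refine Fga.HodgePush.intNum_push k X Z g hg d e hd he N hN F hF fun I => ?_
  refine Fga.HodgePush.acyc_of_isAffineHom g ?_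
  exact (isCoh_tens (Fdesc.LocGen.isInvertible_pullback g (Fga.HodgePush.isInvertible_word N hN I)) hF).1

/-- Vanishing for modules supported off `W`. -/
theorem inter_eq_zero_of_off (W : X.Opens) (hW : IsFinite (g ∣_ W)) {r : ℕ}
    (hdim : topologicalKrullDim ((W : Set X)ᶜ : Set X) < r) (d : ℕ) (hd : topologicalKrullDim Z ≤ d)
    (c : Fin r → Pic X) {F : Z.Modules} (hF : Coh.IsCoh F) (hoff : ∀ z ∈ CohB1.support F, g z ∉ W) :
    inter k Z d F (fun i => pull g (c i)) = 0 := by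
  have nX : IsNoetherian X := Fga.IntAdd.isNoetherian k X
  have nZ : IsNoetherian Z := Fga.IntAdd.isNoetherian k Z
  have hprop : IsProper (g ≫ (X ↘ (Spec (CommRingCat.of k)))) := by rw [hg]; infer_instance
  have hgp : IsProper g := IsProper.of_comp g (X ↘ (Spec (CommRingCat.of k)))
  obtain ⟨N, hN, h⟩ := Pic13.H970.IntForm.exists_rep X (fun i => (c i)⁻¹)
  obtain ⟨n, hn⟩ := K219.IntOver.exists_dim_le (X ↘ (Spec (CommRingCat.of k)))
  rw [inter_pull_eq_intNum k g d c N hN h, K219.PushSum.intNum_push k X Z g hg W hW hdim d n hd hn N hN F hF]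
  refine K219.PushSum.intNum_eq_zero_of_off k X n hn W hdim N hN _ (Fga.HodgePush.isCoh_push g hF) fun x hx hmem => ?_
  exact CohqB.R1Supp.support_push_subset g F ((W : Set X)ᶜ) W.isOpen.isClosed_compl hoff hmem hx

end push

section iso_over

variable (k : Type u) [Field k] {Z₁ Z₂ Y : Scheme.{u}}
    [Z₁.Over (Spec (CommRingCat.of k))] [Z₂.Over (Spec (CommRingCat.of k))] [Y.Over (Spec (CommRingCat.of k))]
    [IsProper (Z₁ ↘ Spec (CommRingCat.of k))] [IsProper (Z₂ ↘ Spec (CommRingCat.of k))]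
    [IsProper (Y ↘ Spec (CommRingCat.of k))]

theorem inter_eq_of_iso_over 
    (π₁ : Z₁ ⟶ Y) (π₂ : Z₂ ⟶ Y) (hπ₁ : π₁ ≫ (Y ↘ Spec (CommRingCat.of k)) = Z₁ ↘ Spec (CommRingCat.of k))
    (hπ₂ : π₂ ≫ (Y ↘ Spec (CommRingCat.of k)) = Z₂ ↘ Spec (CommRingCat.of k))
    (W : Y.Opens) (hW₁ : IsFinite (π₁ ∣_ W)) (hW₂ : IsFinite (π₂ ∣_ W)) (r d : ℕ)
    (hd₁ : topologicalKrullDim Z₁ ≤ d) (hd₂ : topologicalKrullDim Z₂ ≤ d)
    (hW : topologicalKrullDim ((W : Set Y)ᶜ : Set Y) < r) (c : Fin r → Pic Y)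
    (A₁ : Z₁.Modules) (A₂ : Z₂.Modules) (hA₁ : Coh.IsCoh A₁) (hA₂ : Coh.IsCoh A₂)
    (θ : ((π₁ ⁻¹ᵁ W : Z₁.Opens) : Scheme.{u}) ⟶ ((π₂ ⁻¹ᵁ W : Z₂.Opens) : Scheme.{u})) [IsIso θ]
    (hθ : θ ≫ (π₂ ⁻¹ᵁ W).ι ≫ π₂ = (π₁ ⁻¹ᵁ W).ι ≫ π₁)
    (e : (Scheme.Modules.pullback (π₁ ⁻¹ᵁ W).ι).obj A₁ ≅ (Scheme.Modules.pullback (θ ≫ (π₂ ⁻¹ᵁ W).ι)).obj A₂) :
    inter k Z₁ d A₁ (fun i => pull π₁ (c i)) = inter k Z₂ d A₂ (fun i => pull π₂ (c i)) := by
  obtain ⟨N, hN, h⟩ := Pic13.H970.IntForm.exists_rep Y (fun i => (c i)⁻¹)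
  rw [inter_pull_eq_intNum k π₁ d c N hN h, inter_pull_eq_intNum k π₂ d c N hN h]
  exact K219.IntOver.intNum_eq_of_iso_over k π₁ π₂ hπ₁ hπ₂ W hW₁ hW₂ r d hd₁ hd₂ hW N hN A₁ A₂ hA₁ hA₂ θ hθ e

end iso_over

section split

variable (k : Type u) [Field k] {X : Scheme.{u}} [X.Over (Spec (CommRingCat.of k))]
  [IsProper (X ↘ (Spec (CommRingCat.of k)))] (d : ℕ) (hd : topologicalKrullDim X ≤ d)

include hd

theorem inter_biprod {A B : X.Modules} (hA : Coh.IsCoh A) (hB : Coh.IsCoh B) {r : ℕ} (c : Fin r → Pic X) :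
    inter k X d (A ⊞ B) c = inter k X d A c + inter k X d B c := by
  have nX : IsNoetherian X := Fga.IntAdd.isNoetherian k X
  exact isAdd_inter k X d hd c (ShortComplex.mk (biprod.inl : A ⟶ A ⊞ B) (biprod.snd : A ⊞ B ⟶ B) (by simp))
    (ShortComplex.Splitting.ofHasBinaryBiproduct A B).shortExact hA (Sga67.CohBasic.isCoh_biprod hA hB) hB

theorem inter_tensor_biprod {G L : X.Modules} (hG : PicF.IsInvertible G) (hL : PicF.IsInvertible L)
    {V : X.Modules} (e : V ≅ Coh.structureModule X ⊞ L) {r : ℕ} (c : Fin r → Pic X) :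
    inter k X d (CohB1.tensorMod G V) c = inter k X d G c + inter k X d (CohB1.tensorMod G L) c := by
  have hadd : (DCoh.tensorBi.obj G).Additive := inferInstance
  have hpb : PreservesBinaryBiproduct (Coh.structureModule X) L (DCoh.tensorBi.obj G) :=
    preservesBinaryBiproduct_of_preservesBiproduct _ _ _
  have e1 : CohB1.tensorMod G V ≅ G ⊞ CohB1.tensorMod G L :=
    (DCoh.tensorBi.obj G).mapIso e ≪≫ (DCoh.tensorBi.obj G).mapBiprod _ _ ≪≫
      biprod.mapIso (Ega2.Tens.runit G) (Iso.refl _)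
  rw [inter_iso k X d _ e1, inter_biprod k d hd (isCoh_of_isInvertible hG)
    (isCoh_of_isInvertible (Fdesc.LocGen.isInvertible_tensorMod hG hL))]

end split

end K994.Num2
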