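import Groth.Agent.TautSh.K994.Pt
import Groth.Agent.Ega2.QCohLocal

/-!
# Points of projective bundles over the spectrum of a field: uniqueness and existence
-/

set_option autoImplicit false
universe u

open CategoryTheory CategoryTheory.Limits AlgebraicGeometry Opposite TopologicalSpace
open AlgebraicGeometry.Scheme.Modules

namespace K994.PB

open Groth.Agent.CohqA.PullbackUniv Groth.Agent.CohqA.PullbackSections
  Groth.Agent.CohqA.AffineBaseChange Groth.Agent.Fdesc.LocGen K994.Adj K994.Pt
  Groth.Agent.Ega2.QCohLocal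

variable {B P T : Scheme.{u}} {π : P ⟶ B} {V : B.Modules}
    {O1 : P.Modules} {q : (Scheme.Modules.pullback π).obj V ⟶ O1}

/-- `M ⟶ 𝟙_* M` is universal. -/
theorem isUniv_id (M : B.Modules) :
    IsUniv (𝟙 B) ((Scheme.Modules.pushforwardId B).inv.app M) := by
  intro N
  have h : (fun φ : M ⟶ N => (Scheme.Modules.pushforwardId B).inv.app M ≫
      (Scheme.Modules.pushforward (𝟙 B)).map φ) =
      fun φ : M ⟶ N => φ ≫ (Scheme.Modules.pushforwardId B).inv.app N :=
    funext fun φ => ((Scheme.Modules.pushforwardId B).inv.naturality φ).symm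
  rw [h]
  constructor
  · intro φ ψ hφ
    exact (cancel_mono ((Scheme.Modules.pushforwardId B).inv.app N)).1 hφ
  · intro ψ
    refine ⟨ψ ≫ (Scheme.Modules.pushforwardId B).hom.app N, ?_⟩
    change (ψ ≫ (Scheme.Modules.pushforwardId B).hom.app N) ≫
      (Scheme.Modules.pushforwardId B).inv.app N = ψ
    rw [Category.assoc, Iso.hom_inv_id_app]
    exact Category.comp_id _

variable {g : T ⟶ B} {N : T.Modules}

/-- The quotient `N ⟶ h^* O1` of a `T`-point `h` of a projective bundle, where `N` is the pullback of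
`V`. -/
theorem exists_quot (hP : KRR.IsProjBundle π V O1 q) {t : V ⟶ (pushforward g).obj N}
    (ht : IsUniv g t) (h : T ⟶ P) (hg : h ≫ π = g) :
    ∃ s : N ⟶ (Scheme.Modules.pullback h).obj O1, Epi s ∧
      t ≫ (pushforward g).map s =
        compMap (tr π q) (pbUnit h O1) ≫ (pushforwardCongr hg).hom.app _ := by
  obtain ⟨s, hs⟩ := (ht _).2 (compMap (tr π q) (pbUnit h O1) ≫ (pushforwardCongr hg).hom.app _)
  dsimp only at hs
  refine ⟨s, ?_, hs⟩
  rw [← aepi_comp_iff ht s, hs, aepi_congr]
  exact ((aepi_tr_iff π q).2 hP.epi).comp (isUniv_pbUnit h O1).aepi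

variable [IsAffine T] [Subsingleton T] [Nonempty T]

/-- Two points of a projective bundle are equal if the corresponding quotients of the fibre of `V`
have comparable kernels. -/
theorem eq_of_ker_le (hT : IsField Γ(T, ⊤)) (hP : KRR.IsProjBundle π V O1 q)
    (hN : Coh.IsQCoh N) {t : V ⟶ (pushforward g).obj N}
    (ht : IsUniv g t) {h h' : T ⟶ P} (hg : h ≫ π = g) (hg' : h' ≫ π = g)
    (s : N ⟶ (Scheme.Modules.pullback h).obj O1)
    (hs : t ≫ (pushforward g).map s =
        compMap (tr π q) (pbUnit h O1) ≫ (pushforwardCongr hg).hom.app _)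
    (s' : N ⟶ (Scheme.Modules.pullback h').obj O1)
    (hs' : t ≫ (pushforward g).map s' =
        compMap (tr π q) (pbUnit h' O1) ≫ (pushforwardCongr hg').hom.app _)
    (hk : ∀ x : Γ(N, ⊤), s.app ⊤ x = 0 → s'.app ⊤ x = 0) : h = h' := by
  have hO1 : PicF.IsInvertible O1 := isFinLocFreeOfRank_one_iff.1 hP.invertible
  have i1 := isInvertible_pullback h hO1
  have i2 := isInvertible_pullback h' hO1
  have he : AEpi π (tr π q) := (aepi_tr_iff π q).2 hP.epi
  have e1 : Epi s := by
    rw [← aepi_comp_iff ht s, hs, aepi_congr]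
    exact he.comp (isUniv_pbUnit h O1).aepi
  have a2 : AEpi g (t ≫ (pushforward g).map s') := by
    rw [hs', aepi_congr]
    exact he.comp (isUniv_pbUnit h' O1).aepi
  have e2 : Epi s' := (aepi_comp_iff ht s').1 a2
  obtain ⟨e, hse⟩ := exists_iso_of_ker_le hT hN i1 i2 (isQCoh_of_isInvertible i1)
    (isQCoh_of_isInvertible i2) s s' hk
  refine (existsUnique_of_isProjBundle hP g _ (isFinLocFreeOfRank_one_iff.2 i2) _ a2).unique
    ⟨hg, pbUnit h O1 ≫ (pushforward h).map e.hom, (isUniv_pbUnit h O1).comp_iso e, ?_⟩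
    ⟨hg', pbUnit h' O1, isUniv_pbUnit h' O1, hs'.symm⟩
  rw [← hse, Functor.map_comp, ← Category.assoc, hs, Category.assoc, ← compMap_comp, Category.assoc]
  congr 1
  exact (pushforwardCongr hg).hom.naturality e.hom

/-- Existence of a point of a projective bundle with given quotient. -/
theorem exists_point (hP : KRR.IsProjBundle π V O1 q)
    {t : V ⟶ (pushforward g).obj N} (ht : IsUniv g t) {L : T.Modules} (hL : PicF.IsInvertible L)
    (s : N ⟶ L) [Epi s] :
    ∃ (h : T ⟶ P) (hg : h ≫ π = g) (u : O1 ⟶ (pushforward h).obj L), IsUniv h u ∧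
      compMap (tr π q) u ≫ (pushforwardCongr hg).hom.app L = t ≫ (pushforward g).map s := by
  obtain ⟨h, hh, -⟩ := existsUnique_of_isProjBundle hP g L (isFinLocFreeOfRank_one_iff.2 hL)
    (t ≫ (pushforward g).map s) ((aepi_comp_iff ht s).2 inferInstance)
  exact ⟨h, hh⟩

end K994.PB
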