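import Groth.Agent.TautSh.K639.SymFacts
import Groth.Agent.TautSh.K254.Fib2
import Groth.Agent.SymProd.K992.DimPow
import Groth.Agent.FBase.K106.Dim
import Groth.Agent.Picfga.CurveRelDim
import Groth.Agent.ShStab.K848.Hartogs
import Groth.Agent.S1582
import Groth.Agent.S1535
import Groth.Agent.S1464

/-!
# The square of a smooth proper surface
-/

set_option autoImplicit false
universe u
open CategoryTheory CategoryTheory.Limits AlgebraicGeometry TopologicalSpace

namespace K994.PFacts

open Groth.Agent K992.FibPow K992.BigDiag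

variable (k : Type u) [Field k] [IsAlgClosed k] (X : Scheme.{u}) [X.Over (Spec (CommRingCat.of k))]
  [AlgebraicGeometry.IsIntegral X] [Smooth (X ↘ Spec (CommRingCat.of k))] [IsProper (X ↘ Spec (CommRingCat.of k))]

local notation "fX" => (X ↘ Spec (CommRingCat.of k))

omit [IsAlgClosed k] [AlgebraicGeometry.IsIntegral X] [IsProper (X ↘ Spec (CommRingCat.of k))] in
theorem smooth_base : Smooth (base fX 2) :=
  base_of fX @Smooth (fun _ _ => inferInstance) inferInstance 2

omit [IsAlgClosed k] [AlgebraicGeometry.IsIntegral X] [Smooth (X ↘ Spec (CommRingCat.of k))] in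
theorem proper_base : IsProper (base fX 2) :=
  base_of fX @IsProper (fun _ _ => inferInstance) inferInstance 2

omit [Smooth (X ↘ Spec (CommRingCat.of k))] in
theorem isIntegral : IsIntegral (SymProd.fibPow fX 2) := by
  let e := (K639.SymFacts.isPullback_two fX).isoPullback
  have hQint : IsIntegral (pullback fX fX) := S1582.result k X X fX fX
  exact IsIntegral.of_isIso e.inv

omit [IsAlgClosed k] [AlgebraicGeometry.IsIntegral X] [IsProper (X ↘ Spec (CommRingCat.of k))] in
theorem regular (x : SymProd.fibPow fX 2) : IsRegularLocalRing ((SymProd.fibPow fX 2).presheaf.stalk x) := by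
  let : (SymProd.fibPow fX 2).Over (Spec (CommRingCat.of k)) := ⟨base fX 2⟩
  have : Smooth ((SymProd.fibPow fX 2) ↘ Spec (CommRingCat.of k)) := smooth_base k X
  exact S1535.result k (SymProd.fibPow fX 2) x

omit [IsAlgClosed k] [Smooth (X ↘ Spec (CommRingCat.of k))] in
theorem dim (hdim : topologicalKrullDim X = 2) : topologicalKrullDim (SymProd.fibPow fX 2) = 4 := by
  let e := (K639.SymFacts.isPullback_two fX).isoPullback
  rw [S1464.topologicalKrullDim_eq_of_iso e, K106.Dim.topologicalKrullDim_pullback_eq_add, hdim]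
  norm_cast

theorem big (hdim : topologicalKrullDim X = 2) (U : (SymProd.fibPow fX 2).Opens)
    (hU : (bigDiag fX 1)ᶜ ⊆ (U : Set (SymProd.fibPow fX 2))) : K848.Hartogs.Big U := by
  intro x hx
  have hmem : x ∈ bigDiag fX 1 := by
    by_contra h
    exact hx (hU h)
  have hsm : SmoothOfRelativeDimension 2 fX :=
    Groth.Agent.Picfga.CurveRelDim.smoothOfRelativeDimension_of_topologicalKrullDim_eq k X _ 2
      (by exact_mod_cast hdim)
  exact_mod_cast K992.DimPow.le_ringKrullDim_of_mem_bigDiag fX 2 1 x hmem

end K994.PFacts
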