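import Groth.Agent.TautSh.K994.Adj
import Groth.Agent.PerfA.QCohEpi
import Groth.Agent.FormalB.ModPowAff2

/-!
# Points of projective bundles with values in the spectrum of a field
-/

set_option autoImplicit false
universe u

open CategoryTheory CategoryTheory.Limits AlgebraicGeometry Opposite TopologicalSpace
open AlgebraicGeometry.Scheme.Modules

namespace K994.Pt

open Groth.Agent.CohqA.PullbackUniv Groth.Agent.CohqA.PullbackSections
  Groth.Agent.CohqA.AffineBaseChange Groth.Agent.Fdesc.LocGen K994.Adj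

variable {X Y Z : Scheme.{u}}

/-- The kernel of `a : V ⟶ g_* L` on global sections. -/
noncomputable def kr {g : Y ⟶ X} {V : X.Modules} {L : Y.Modules}
    (a : V ⟶ (pushforward g).obj L) : AddSubgroup Γ(V, ⊤) := (a.app ⊤).hom.ker

lemma mem_kr {g : Y ⟶ X} {V : X.Modules} {L : Y.Modules}
    {a : V ⟶ (pushforward g).obj L} {x : Γ(V, ⊤)} : x ∈ kr a ↔ a.app ⊤ x = 0 := Iff.rfl

lemma kr_le_comp {g : Y ⟶ X} {V : X.Modules} {L L' : Y.Modules}
    (a : V ⟶ (pushforward g).obj L) (φ : L ⟶ L') : kr a ≤ kr (a ≫ (pushforward g).map φ) := by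
  intro x hx
  rw [mem_kr] at hx ⊢
  have : (a ≫ (pushforward g).map φ).app ⊤ x = ((pushforward g).map φ).app ⊤ (a.app ⊤ x) := rfl
  rw [this, hx, map_zero]

lemma kr_comp_iso {g : Y ⟶ X} {V : X.Modules} {L L' : Y.Modules}
    (a : V ⟶ (pushforward g).obj L) (φ : L ≅ L') : kr (a ≫ (pushforward g).map φ.hom) = kr a := by
  apply le_antisymm
  · have := kr_le_comp (a ≫ (pushforward g).map φ.hom) φ.inv
    rwa [Category.assoc, ← Functor.map_comp, φ.hom_inv_id, CategoryTheory.Functor.map_id,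
      Category.comp_id] at this
  · exact kr_le_comp a φ.hom

lemma kr_eq_of_isUniv {g : Y ⟶ X} {V : X.Modules} {L L' : Y.Modules}
    {a : V ⟶ (pushforward g).obj L} {a' : V ⟶ (pushforward g).obj L'} (h : IsUniv g a)
    (h' : IsUniv g a') : kr a = kr a' := by
  obtain ⟨e, he, -⟩ := h.exists_iso h'
  rw [← he, kr_comp_iso]

lemma mem_kr_compMap {g : Y ⟶ X} {h : Z ⟶ Y} {M : X.Modules} {N : Y.Modules} {P : Z.Modules}
    (a : M ⟶ (pushforward g).obj N) (b : N ⟶ (pushforward h).obj P) (x : Γ(M, ⊤)) :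
    x ∈ kr (compMap a b) ↔ (show Γ(N, ⊤) from a.app ⊤ x) ∈ kr b := Iff.rfl

lemma kr_compMap_eq {g : Y ⟶ X} {h : Z ⟶ Y} {M : X.Modules} {N : Y.Modules} {P P' : Z.Modules}
    (a : M ⟶ (pushforward g).obj N) {b : N ⟶ (pushforward h).obj P}
    {b' : N ⟶ (pushforward h).obj P'} (hb : IsUniv h b) (hb' : IsUniv h b') :
    kr (compMap a b) = kr (compMap a b') := by
  ext x
  rw [mem_kr_compMap, mem_kr_compMap, kr_eq_of_isUniv hb hb']

lemma kr_congr {g g' : Y ⟶ X} (e : g = g') {M : X.Modules} {N : Y.Modules}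
    (a : M ⟶ (pushforward g).obj N) : kr (a ≫ (pushforwardCongr e).hom.app N) = kr a := by
  subst e
  rw [pushforwardCongr_rfl, Category.comp_id]

section Field

variable {T : Scheme.{u}} [IsAffine T] [Subsingleton T] [Nonempty T]

lemma exists_gen_top {L : T.Modules} (hL : PicF.IsInvertible L) : ∃ e : Γ(L, ⊤), IsGen e := by
  obtain ⟨x⟩ := ‹Nonempty T›
  obtain ⟨U, e, hx, he⟩ := (isInvertible_iff L).1 hL x
  have hU : U = ⊤ := by
    ext y
    simp [Subsingleton.elim y x, hx]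
  subst hU
  exact ⟨e, he⟩

lemma hom_ext_top {N L : T.Modules} (hN : Coh.IsQCoh N) {φ ψ : N ⟶ L}
    (h : ∀ x : Γ(N, ⊤), φ.app ⊤ x = ψ.app ⊤ x) : φ = ψ := by
  have : N.IsQuasicoherent := hN
  exact (Groth.Agent.CohqA.PullbackAffine.existsUnique_hom N L
    { (ψ.app ⊤).hom with map_smul' := fun r x => Hom.app_smul ψ r x }).unique h (fun x => rfl)

/-- Two invertible quotients of `N` on the spectrum of a field are isomorphic as quotients as soon as
the kernel of the first is contained in the kernel of the second (on global sections). -/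
theorem exists_iso_of_ker_le (hT : IsField Γ(T, ⊤)) {N L L' : T.Modules} (hN : Coh.IsQCoh N)
    (hL : PicF.IsInvertible L) (hL' : PicF.IsInvertible L') (hLq : Coh.IsQCoh L)
    (hLq' : Coh.IsQCoh L') (s : N ⟶ L) [Epi s] (s' : N ⟶ L') [Epi s']
    (h : ∀ x : Γ(N, ⊤), s.app ⊤ x = 0 → s'.app ⊤ x = 0) : ∃ e : L ≅ L', s ≫ e.hom = s' := by
  obtain ⟨l, hl⟩ := exists_gen_top hL
  obtain ⟨l', hl'⟩ := exists_gen_top hL'
  have hs := Groth.Agent.PerfA.QCohEpi.app_surjective_of_epi s (isAffineOpen_top T)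
  have hs' := Groth.Agent.PerfA.QCohEpi.app_surjective_of_epi s' (isAffineOpen_top T)
  obtain ⟨n0, hn0⟩ := hs l
  obtain ⟨φ, hφ⟩ := (evalGen_bijective L' hl).2 (s'.app ⊤ n0)
  dsimp only at hφ
  have key : s ≫ φ = s' := by
    refine hom_ext_top hN fun n => ?_
    obtain ⟨a, ha⟩ := hl.exists_eq (s.app ⊤ n)
    have h1 : s.app ⊤ (n - a • n0) = 0 := by
      rw [map_sub, Hom.app_smul, hn0, ha, sub_self]
    have h2 := h _ h1
    rw [map_sub, Hom.app_smul, sub_eq_zero] at h2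
    change φ.app ⊤ (s.app ⊤ n) = _
    rw [ha, Hom.app_smul, hφ, h2]
  have hnt : Nontrivial Γ(T, ⊤) := hT.nontrivial
  obtain ⟨c, hc⟩ := hl'.exists_eq (φ.app ⊤ l)
  have hc0 : c ≠ 0 := by
    rintro rfl
    obtain ⟨n, hn⟩ := hs' l'
    obtain ⟨a, ha⟩ := hl.exists_eq (s.app ⊤ n)
    have h3 : φ.app ⊤ (s.app ⊤ n) = l' := by
      rw [← hn, ← key]; rfl
    rw [ha, Hom.app_smul, hc, zero_smul, smul_zero] at h3
    have : (1 : Γ(T, ⊤)) = 0 := hl'.ext (by rw [one_smul, zero_smul, h3])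
    exact one_ne_zero this
  have hcu : IsUnit c := by
    obtain ⟨d, hd⟩ := hT.mul_inv_cancel hc0
    exact IsUnit.of_mul_eq_one d hd
  have hgen : IsGen (φ.app ⊤ l) := by
    rw [hc]
    obtain ⟨c', rfl⟩ := hcu
    exact hl'.unit_smul c'.isUnit
  have h4 : homOf l ≫ φ = homOf (φ.app ⊤ l) := by
    apply hom_ext_sec
    rw [sec_comp, sec_homOf, sec_homOf]
    simp
  have h5 : IsIso (homOf l) := (isIso_iff_isGen _).mpr (by simpa using hl)
  have h6 : IsIso (homOf (φ.app ⊤ l)) := (isIso_iff_isGen _).mpr (by simpa using hgen)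
  have : IsIso φ := by
    rw [← h4] at h6
    exact IsIso.of_isIso_comp_left (homOf l) φ
  exact ⟨asIso φ, key⟩

end Field

end K994.Pt
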