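import Groth.Agent.TautSh.K994.Num2
import Groth.Agent.PerfB.PushFLF
import Groth.Agent.PerfB.FibreConc
import Groth.Agent.Sga67.HomInvB
import Groth.Agent.AlgSp.K618.Sch

/-!
# Ranks of direct images along finite morphisms of integral schemes
-/

set_option autoImplicit false
universe u
open CategoryTheory CategoryTheory.Limits AlgebraicGeometry TopologicalSpace

namespace K994.Rk

open Groth.Agent K848.Hull K848.Rank K848.Stab

variable {Z H : Scheme.{u}}

theorem map_genericPoint [IsIntegral Z] [IsIntegral H] (p : Z ⟶ H) [Surjective p] :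
    p (genericPoint Z) = genericPoint H := by
  obtain ⟨z, hz⟩ := p.surjective (genericPoint H)
  have h1 : genericPoint Z ⤳ z := genericPoint_specializes z
  have h2 : p (genericPoint Z) ⤳ genericPoint H := by
    rw [← hz]
    exact h1.map p.continuous
  exact (h2.antisymm (genericPoint_specializes _)).eq

theorem rk_biprod [IsIntegral H] [IsLocallyNoetherian H] {A B : H.Modules} (hA : Coh.IsCoh A) (hB : Coh.IsCoh B) :
    rk (A ⊞ B) = rk A + rk B :=
  rk_shortExact (S := ShortComplex.mk (biprod.inl : A ⟶ A ⊞ B) (biprod.snd : A ⊞ B ⟶ B) (by simp))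
    (ShortComplex.Splitting.ofHasBinaryBiproduct A B).shortExact (Sga67.CohBasic.isCoh_biprod hA hB)

theorem generic_notMem_support_push [IsIntegral Z] [IsIntegral H] (p : Z ⟶ H) [IsFinite p] [Surjective p]
    {V : Z.Modules} (hV : Coh.IsCoh V) (h : genericPoint Z ∉ CohB1.support V) :
    genericPoint H ∉ CohB1.support ((Scheme.Modules.pushforward p).obj V) := by
  intro hmem
  have hcl : IsClosed (CohB1.support V) := Ega3B.Devissage.isClosed_support hV
  have h1 := CohqB.R1Supp.support_push_subset p V (p '' CohB1.support V) (p.isClosedMap _ hcl)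
    (Set.subset_preimage_image _ _) hmem
  obtain ⟨z, hz, hpz⟩ := h1
  have h2 : genericPoint Z = z := K618.Sch.eq_of_specializes_of_eq p (genericPoint_specializes z)
    ((map_genericPoint p).trans hpz.symm)
  exact h (h2 ▸ hz)

/-- Rank of a direct image along a finite surjective morphism of integral schemes. -/
theorem rk_push [IsIntegral Z] [IsIntegral H] [IsNoetherian Z] [IsNoetherian H] (p : Z ⟶ H) [IsFinite p] [Surjective p]
    (V : Z.Modules) (hV : Coh.IsCoh V) :
    rk ((Scheme.Modules.pushforward p).obj V) =
      rk V * rk ((Scheme.Modules.pushforward p).obj (Coh.structureModule Z)) := by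
  have h := rank_formula (X := Z) (fun V => (rk ((Scheme.Modules.pushforward p).obj V) : ℚ))
    (fun S hS h1 h2 h3 => by
      have h4 := Sga67.HomInvB.shortExact_push p hS h2.1 h3.1
      have h5 := rk_shortExact h4 (Fga.HodgePush.isCoh_push p h2)
      exact_mod_cast h5)
    (fun G hG h => by
      have := (rk_eq_zero_iff (Fga.HodgePush.isCoh_push p hG)).2 (generic_notMem_support_push p hG h)
      exact_mod_cast this) V hV
  exact_mod_cast h

theorem rk_pullback_of_rank [IsIntegral Z] (f : Z ⟶ H) {V : H.Modules} {r : ℕ}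
    (hV : FlatMod.IsFinLocFreeOfRank r V) : rk ((Scheme.Modules.pullback f).obj V) = r := by
  obtain ⟨U, hU, ⟨e⟩⟩ := PerfB.FibreConc.isFinLocFreeOfRank_pullback f hV (genericPoint Z)
  exact (eq_rk_of_triv e hU).symm

/-- Rank of the direct image along a double cover. -/
theorem rk_push_dbl [IsIntegral Z] [IsIntegral H] [IsNoetherian Z] [IsNoetherian H] (p : Z ⟶ H) [IsFinite p] [Surjective p]
    {L : H.Modules} (hL : PicF.IsInvertible L)
    (e : (Scheme.Modules.pushforward p).obj (Coh.structureModule Z) ≅ Coh.structureModule H ⊞ L)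
    (V : Z.Modules) (hV : Coh.IsCoh V) :
    rk ((Scheme.Modules.pushforward p).obj V) = 2 * rk V := by
  have h1 : rk L = 1 := rk_structureModule_of_isInvertible hL
  rw [rk_push p V hV, rk_iso e, rk_biprod isCoh_structureModule (isCoh_of_isInvertible hL), rk_structureModule, h1,
    mul_comm]

end K994.Rk
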