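import Groth.Agent.TautSh.K994.Kpt

/-!
# `k`-points of projective bundles of tautological sheaves and the secant map
-/

set_option autoImplicit false
universe u

open CategoryTheory CategoryTheory.Limits AlgebraicGeometry Opposite TopologicalSpace
open AlgebraicGeometry.Scheme.Modules

namespace K994.Sct

open Groth.Agent.CohqA.PullbackUniv Groth.Agent.CohqA.PullbackSections
  Groth.Agent.CohqA.AffineBaseChange Groth.Agent.CohqA.PullbackAffine
  Groth.Agent.Fdesc.LocGen K994.Adj K994.Pt K994.PB K994.Sec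
  K994.Taut K994.Kpt Groth.Agent.Picfga.HilbPull

lemma app_top_congr {X Y : Scheme.{u}} {g g' : Y ⟶ X} (e : g = g') {M : X.Modules} {N : Y.Modules}
    (a : M ⟶ (pushforward g).obj N) (x : Γ(M, ⊤)) :
    (show Γ(N, ⊤) from (a ≫ (pushforwardCongr e).hom.app N).app ⊤ x) =
      (show Γ(N, ⊤) from a.app ⊤ x) := by
  subst e
  rw [pushforwardCongr_rfl, Category.comp_id]

variable {X S : Scheme.{u}} (f : X ⟶ S) {H : Over S} (I : (PicF.XT f H).IdealSheafData)
  (L : X.Modules)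

section Points

variable {PE : Scheme.{u}} (πE : PE ⟶ H.left) (OE : PE.Modules)
  (qE : (Scheme.Modules.pullback πE).obj (TautSh.taut f H I L) ⟶ OE)

/-- The sections of `L` in the kernel of the quotient attached to an `S`-point of `P(L^[Z])`. -/
noncomputable def K (a : S ⟶ PE) : AddSubgroup Γ((pushforward f).obj L, ⊤) :=
  kr (compMap (TautSh.pushEval f H I L) (compMap (tr πE qE) (pbUnit a OE)))

/-- The sections of `V` in the kernel of the quotient attached to an `S`-point of `P(V)`. -/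
noncomputable def K' {P : Scheme.{u}} {V : S.Modules} (π : P ⟶ S) (O1 : P.Modules)
    (q : (Scheme.Modules.pullback π).obj V ⟶ O1) (c : S ⟶ P) : AddSubgroup Γ(V, ⊤) :=
  kr (compMap (tr π q) (pbUnit c O1))

/-- Compatibility of the kernels with a classifying morphism. -/
theorem K'_comp {P T : Scheme.{u}} {V : S.Modules} {π : P ⟶ S} {O1 : P.Modules}
    {q : (Scheme.Modules.pullback π).obj V ⟶ O1} {g : T ⟶ S} {N : T.Modules}
    {s : (Scheme.Modules.pullback g).obj V ⟶ N} {h : T ⟶ P}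
    (hh : TautSh.IsMapOfQuot π V O1 q g N s h) (a : S ⟶ T) :
    K' π O1 q (a ≫ h) = kr (compMap (tr g s) (pbUnit a N)) := by
  obtain ⟨hg, u, hu, he⟩ := (isMapOfQuot_iff ..).1 hh
  ext x
  rw [K', mem_kr_compMap, mem_kr_compMap, ← he, app_top_congr]
  rw [kr_eq_of_isUniv (isUniv_pbUnit (a ≫ h) O1) (hu.comp (isUniv_pbUnit a N))]
  rfl

theorem K_eq {P : Scheme.{u}} {π : P ⟶ S} {O1 : P.Modules}
    {qP : (Scheme.Modules.pullback π).obj ((pushforward f).obj L) ⟶ O1} {h : PE ⟶ P}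
    (hh : TautSh.IsMapOfQuot π ((pushforward f).obj L) O1 qP (πE ≫ H.hom) OE
      (TautSh.secantQuot f H I L πE OE qE) h) (a : S ⟶ PE) :
    K' π O1 qP (a ≫ h) = K f I L πE OE qE a := by
  rw [K'_comp hh, tr_secantQuot]
  rfl

variable {I L πE OE qE}

/-- The quotient of `Γ(ξ, L)` attached to a point of `P(L^[Z])`. -/
theorem exists_s (hPE : KRR.IsProjBundle πE (TautSh.taut f H I L) OE qE) (g : T₀ S ⟶ H)
    {t : TautSh.taut f H I L ⟶
      (pushforward g.left).obj (TautSh.taut f (T₀ S) (HilbD.pull f g I) L)}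
    (ht : IsUniv g.left t)
    (hc : compMap (TautSh.pushEval f H I L) t ≫ (pushforwardCongr (Over.w g)).hom.app _ =
        TautSh.pushEval f (T₀ S) (HilbD.pull f g I) L) (a : S ⟶ PE) (hg : a ≫ πE = g.left) :
    ∃ s : TautSh.taut f (T₀ S) (HilbD.pull f g I) L ⟶ (Scheme.Modules.pullback a).obj OE,
      Epi s ∧ t ≫ (pushforward g.left).map s =
        compMap (tr πE qE) (pbUnit a OE) ≫ (pushforwardCongr hg).hom.app _ ∧
      ∀ x, x ∈ K f I L πE OE qE a ↔
        s.app ⊤ ((TautSh.pushEval f (T₀ S) (HilbD.pull f g I) L).app ⊤ x) = 0 := by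
  obtain ⟨s, h1, h2⟩ := exists_quot hPE ht a hg
  refine ⟨s, h1, h2, fun x => ?_⟩
  rw [K, mem_kr_compMap, ← kr_congr hg, ← h2, ← hc]
  have h3 := app_top_congr (Over.w g) (compMap (TautSh.pushEval f H I L) t) x
  exact Iff.of_eq (congrArg (fun z => s.app ⊤ z = 0) h3.symm)

variable [IsAffine S] [Subsingleton S] [Nonempty S] (hS : IsField Γ(S, ⊤))

omit [IsAffine S] [Subsingleton S] [Nonempty S] in
theorem pushEval_surj (g : T₀ S ⟶ H)
    (hsurj : Function.Surjective (rs (TautSh.famToX f (T₀ S) (HilbD.pull f g I)) L))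
    (y : Γ(TautSh.taut f (T₀ S) (HilbD.pull f g I) L, ⊤)) :
    ∃ x, (show Γ(TautSh.taut f (T₀ S) (HilbD.pull f g I) L, ⊤) from
      (TautSh.pushEval f (T₀ S) (HilbD.pull f g I) L).app ⊤ x) = y := by
  obtain ⟨x, hx⟩ := hsurj y
  exact ⟨x, (pushEval_app_top f (HilbD.pull f g I) L x).trans hx⟩

omit [IsAffine S] [Subsingleton S] [Nonempty S] in
theorem isAffineHom_pull (g : T₀ S ⟶ H) (hI : IsAffineHom (TautSh.famToH f H I)) :
    IsAffineHom (TautSh.famToH f (T₀ S) (HilbD.pull f g I)) := by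
  obtain ⟨m, hm, -⟩ := exists_famMap f g I
  exact MorphismProperty.of_isPullback (P := @IsAffineHom) hm hI

omit [IsAffine S] [Subsingleton S] [Nonempty S] in
theorem isQCoh_taut (hI : IsAffineHom (TautSh.famToH f H I))
    (hL : Coh.IsQCoh L) : Coh.IsQCoh (TautSh.taut f H I L) := by
  have hL' : L.IsQuasicoherent := hL
  have hN' : Coh.IsQCoh ((Scheme.Modules.pullback (TautSh.famToX f H I)).obj L) :=
    Groth.Agent.CohqA.PullbackQCoh.isQuasicoherent_of_isUniv _ _
      (isUniv_pbUnit (TautSh.famToX f H I) L)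
  exact Groth.Agent.Ega1.QcqsPush.isQCoh_pushforward (TautSh.famToH f H I)
    ((Scheme.Modules.pullback (TautSh.famToX f H I)).obj L) hN'

include hS in
theorem eq_of_K_le_aux {B P : Scheme.{u}} {π : P ⟶ B} {V : B.Modules}
    {O1 : P.Modules} {q : (Scheme.Modules.pullback π).obj V ⟶ O1}
    (hP : KRR.IsProjBundle π V O1 q) {g : S ⟶ B} {N : S.Modules}
    (hN : Coh.IsQCoh N) {t : V ⟶ (pushforward g).obj N}
    (ht : IsUniv g t) {h h' : S ⟶ P} (hg : h ≫ π = g) (hg' : h' ≫ π = g)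
    (s : N ⟶ (Scheme.Modules.pullback h).obj O1)
    (hs : t ≫ (pushforward g).map s =
        compMap (tr π q) (pbUnit h O1) ≫ (pushforwardCongr hg).hom.app _)
    (s' : N ⟶ (Scheme.Modules.pullback h').obj O1)
    (hs' : t ≫ (pushforward g).map s' =
        compMap (tr π q) (pbUnit h' O1) ≫ (pushforwardCongr hg').hom.app _)
    {Q : Type*} (ev : Q → Γ(N, ⊤)) (hev : Function.Surjective ev)
    (hk : ∀ x : Q, s.app ⊤ (ev x) = 0 → s'.app ⊤ (ev x) = 0) : h = h' := by
  refine eq_of_ker_le hS hP hN ht hg hg' s hs s' hs' fun y hy => ?_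
  obtain ⟨x, rfl⟩ := hev y
  exact hk x hy

include hS in
/-- A point of `P(L^[Z])` is determined by its subscheme and its quotient of `Γ(X, L)`. -/
theorem eq_of_K_le (hPE : KRR.IsProjBundle πE (TautSh.taut f H I L) OE qE)
    (hI : IsAffineHom (TautSh.famToH f H I)) (hL : Coh.IsQCoh L) (g : T₀ S ⟶ H)
    (hsurj : Function.Surjective (rs (TautSh.famToX f (T₀ S) (HilbD.pull f g I)) L))
    {a b : S ⟶ PE} (ha : a ≫ πE = g.left) (hb : b ≫ πE = g.left)
    (hK : K f I L πE OE qE a ≤ K f I L πE OE qE b) : a = b := by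
  obtain ⟨t, ht, hc⟩ := exists_isUniv f g I L hI hL
  obtain ⟨s, -, hs1, hs2⟩ := exists_s f hPE g ht hc a ha
  obtain ⟨s', -, hs1', hs2'⟩ := exists_s f hPE g ht hc b hb
  have hsj := pushEval_surj f (I := I) (L := L) g hsurj
  have hN : Coh.IsQCoh (TautSh.taut f (T₀ S) (HilbD.pull f g I) L) :=
    isQCoh_taut f (isAffineHom_pull f g hI) hL
  exact eq_of_K_le_aux hS hPE hN ht ha hb s hs1 s' hs1'
    (fun x => (TautSh.pushEval f (T₀ S) (HilbD.pull f g I) L).app ⊤ x) hsj
    (fun x hx => (hs2' x).1 (hK ((hs2 x).2 hx)))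

include hS in
/-- A point of `P(V)` over the base is determined by its kernel. -/
theorem eq_of_K'_le {P : Scheme.{u}} {V : S.Modules} {π : P ⟶ S} {O1 : P.Modules}
    {q : (Scheme.Modules.pullback π).obj V ⟶ O1} (hP : KRR.IsProjBundle π V O1 q)
    (hV : Coh.IsQCoh V) {c c' : S ⟶ P} (hc : c ≫ π = 𝟙 S) (hc' : c' ≫ π = 𝟙 S)
    (hK : K' π O1 q c ≤ K' π O1 q c') : c = c' := by
  obtain ⟨s, -, hs⟩ := exists_quot hP (isUniv_id V) c hc
  obtain ⟨s', -, hs'⟩ := exists_quot hP (isUniv_id V) c' hc'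
  refine eq_of_ker_le hS hP hV (isUniv_id V) hc hc' s hs s' hs' fun y hy => ?_
  have h1 : y ∈ K' π O1 q c := by
    rw [K', ← kr_congr hc, ← hs]
    exact hy
  have h2 := hK h1
  rw [K', ← kr_congr hc', ← hs'] at h2
  exact h2

omit [Subsingleton S] [Nonempty S] in
/-- Factorization of a morphism of modules on an affine scheme through a morphism surjective on
global sections. -/
theorem exists_fac {V N L' : S.Modules} (hV : Coh.IsQCoh V) (hN : Coh.IsQCoh N) (α : V ⟶ N)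
    (hα : Function.Surjective (α.app ⊤)) (β : V ⟶ L')
    (h : ∀ x : Γ(V, ⊤), α.app ⊤ x = 0 → β.app ⊤ x = 0) : ∃ s : N ⟶ L', α ≫ s = β := by
  have hV' : V.IsQuasicoherent := hV
  have hN' : N.IsQuasicoherent := hN
  let αl : Γ(V, ⊤) →ₗ[Γ(S, ⊤)] Γ(N, ⊤) :=
    { (α.app ⊤).hom with map_smul' := fun r x => Hom.app_smul α r x }
  let βl : Γ(V, ⊤) →ₗ[Γ(S, ⊤)] Γ(L', ⊤) :=
    { (β.app ⊤).hom with map_smul' := fun r x => Hom.app_smul β r x }
  let e := αl.quotKerEquivOfSurjective hα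
  let sl : Γ(N, ⊤) →ₗ[Γ(S, ⊤)] Γ(L', ⊤) := ((LinearMap.ker αl).liftQ βl h).comp e.symm.toLinearMap
  have hsl : ∀ x, sl (αl x) = βl x := by
    intro x
    have : e.symm (αl x) = (LinearMap.ker αl).mkQ x := by
      rw [LinearEquiv.symm_apply_eq]
      rfl
    change ((LinearMap.ker αl).liftQ βl h) (e.symm (αl x)) = _
    rw [this]
    rfl
  obtain ⟨s, hs, -⟩ := existsUnique_hom N L' sl
  refine ⟨s, ?_⟩
  refine (existsUnique_hom V L' βl).unique (fun x => ?_) (fun x => rfl)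
  exact (hs _).trans (hsl x)

/-- Existence of points of `P(L^[Z])` with given subscheme and given quotient. -/
theorem exists_point_of_K' (hPE : KRR.IsProjBundle πE (TautSh.taut f H I L) OE qE)
    (hI : IsAffineHom (TautSh.famToH f H I)) (hL : Coh.IsQCoh L)
    (hV : Coh.IsQCoh ((pushforward f).obj L)) (g : T₀ S ⟶ H)
    (hsurj : Function.Surjective (rs (TautSh.famToX f (T₀ S) (HilbD.pull f g I)) L))
    {P : Scheme.{u}} {π : P ⟶ S} {O1 : P.Modules}
    {q : (Scheme.Modules.pullback π).obj ((pushforward f).obj L) ⟶ O1}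
    (hP : KRR.IsProjBundle π ((pushforward f).obj L) O1 q) {c : S ⟶ P} (hc : c ≫ π = 𝟙 S)
    (hK : kr (TautSh.pushEval f (T₀ S) (HilbD.pull f g I) L) ≤ K' π O1 q c) :
    ∃ a : S ⟶ PE, a ≫ πE = g.left ∧ K f I L πE OE qE a = K' π O1 q c := by
  obtain ⟨t, ht, hcomp⟩ := exists_isUniv f g I L hI hL
  have hsj := pushEval_surj f (I := I) (L := L) g hsurj
  have hN : Coh.IsQCoh (TautSh.taut f (T₀ S) (HilbD.pull f g I) L) :=
    isQCoh_taut f (isAffineHom_pull f g hI) hL
  obtain ⟨sc, hsce, hsc⟩ := exists_quot hP (isUniv_id _) c hc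
  obtain ⟨α, hα⟩ := (isUniv_id ((pushforward f).obj L) _).2
    (TautSh.pushEval f (T₀ S) (HilbD.pull f g I) L)
  dsimp only at hα
  have hα' : ∀ x, α.app ⊤ x = (TautSh.pushEval f (T₀ S) (HilbD.pull f g I) L).app ⊤ x :=
    fun x => congr(($hα).app ⊤ x)
  have hsc' : ∀ x, x ∈ K' π O1 q c ↔ sc.app ⊤ x = 0 := by
    intro x
    rw [K', ← kr_congr hc, ← hsc]
    rfl
  have hTaff : IsAffine (T₀ S).left := ‹IsAffine S›
  have hTss : Subsingleton (T₀ S).left := ‹Subsingleton S›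
  have hTne : Nonempty (T₀ S).left := ‹Nonempty S›
  obtain ⟨s, hs⟩ := exists_fac hV hN α (fun y => by
    obtain ⟨x, hx⟩ := hsj y
    exact ⟨x, (hα' x).trans hx⟩) sc (fun x hx => (hsc' x).1 (hK ((hα' x).symm.trans hx)))
  have hse : Epi s := by
    have : Epi (α ≫ s) := by rw [hs]; exact hsce
    exact epi_of_epi α s
  have hO1 : PicF.IsInvertible ((Scheme.Modules.pullback c).obj O1) :=
    isInvertible_pullback c (Groth.Agent.Ega2.QCohLocal.isFinLocFreeOfRank_one_iff.1 hP.invertible)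
  obtain ⟨a, ha, u, hu, hau⟩ := exists_point hPE ht hO1 s
  refine ⟨a, ha, ?_⟩
  ext x
  rw [hsc' x, ← hs, K, mem_kr_compMap, kr_compMap_eq _ (isUniv_pbUnit a OE) hu, ← kr_congr ha, hau]
  have h3 := app_top_congr (Over.w g) (compMap (TautSh.pushEval f H I L) t) x
  rw [hcomp] at h3
  have h4 := (hα' x).trans h3
  exact Iff.of_eq (congrArg (fun z => s.app ⊤ z = 0) h4.symm)

end Points

end K994.Sct
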