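import Groth.Agent.TautSh.K994.PB

/-!
# Base change of tautological sheaves and of the evaluation map
-/

set_option autoImplicit false
universe u

open CategoryTheory CategoryTheory.Limits AlgebraicGeometry Opposite TopologicalSpace
open AlgebraicGeometry.Scheme.Modules

namespace K994.Taut

open Groth.Agent.CohqA.PullbackUniv Groth.Agent.CohqA.PullbackSections
  Groth.Agent.CohqA.AffineBaseChange Groth.Agent.CohqA.PullbackAffine
  Groth.Agent.Fdesc.LocGen K994.Adj K994.Pt Groth.Agent.Picfga.HilbPull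

variable {X S : Scheme.{u}} (f : X ⟶ S) {H T : Over S} (g : T ⟶ H)
  (I : (PicF.XT f H).IdealSheafData) (L : X.Modules)

lemma pushEval_eq : TautSh.pushEval f H I L =
    pushSquare f H.hom (TautSh.famToX f H I) (TautSh.famToH f H I) (TautSh.famToX_comp f H I)
      (pbUnit (TautSh.famToX f H I) L) := rfl

lemma tr_evalMap : tr H.hom (TautSh.evalMap f H I L) = TautSh.pushEval f H I L :=
  tr_symm _ _

lemma tr_secantQuot {P : Scheme.{u}} (π : P ⟶ H.left) (O1 : P.Modules)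
    (qP : (Scheme.Modules.pullback π).obj (TautSh.taut f H I L) ⟶ O1) :
    tr (π ≫ H.hom) (TautSh.secantQuot f H I L π O1 qP) =
      compMap (TautSh.pushEval f H I L) (tr π qP) := by
  rw [TautSh.secantQuot, tr_pullbackComp, tr_evalMap]

lemma tr_linSysQuot : tr f (TautSh.linSysQuot f L) = 𝟙 _ := by
  unfold tr TautSh.linSysQuot
  rw [Adjunction.homEquiv_unit]
  exact (pullbackPushforwardAdjunction f).right_triangle_components L

lemma pushEval_app_top (x : Γ(L, ⊤)) :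
    (show Γ((Scheme.Modules.pullback (TautSh.famToX f H I)).obj L, ⊤) from
      (TautSh.pushEval f H I L).app ⊤ x) = (pbUnit (TautSh.famToX f H I) L).app ⊤ x := by
  have h := secMap_pushSquare f H.hom (TautSh.famToX f H I) (TautSh.famToH f H I)
    (TautSh.famToX_comp f H I) (pbUnit (TautSh.famToX f H I) L) ⊤ ⊤ le_rfl le_rfl x
  rw [secMap_top] at h
  have h2 := congr($(secMap_top (TautSh.famToX f H I) (pbUnit (TautSh.famToX f H I) L)) x)
  exact h.trans h2

/-- The map of total spaces of families `Z_T ⟶ Z_H` over `T ⟶ H` and over `X`. -/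
theorem exists_famMap : ∃ m : TautSh.fam f T (HilbD.pull f g I) ⟶ TautSh.fam f H I,
    IsPullback m (TautSh.famToH f T (HilbD.pull f g I)) (TautSh.famToH f H I) g.left ∧
      m ≫ TautSh.famToX f H I = TautSh.famToX f T (HilbD.pull f g I) := by
  obtain ⟨m, hm⟩ := isPullback_pull f g I
  refine ⟨m, hm.paste_vert (isPullback_XTmap f g), ?_⟩
  rw [TautSh.famToX, ← Category.assoc, hm.w, Category.assoc, XTmap_fst]

/-- **Base change of tautological sheaves**, compatibly with evaluation. -/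
theorem exists_isUniv (hI : IsAffineHom (TautSh.famToH f H I)) (hL : Coh.IsQCoh L) :
    ∃ t : TautSh.taut f H I L ⟶
        (pushforward g.left).obj (TautSh.taut f T (HilbD.pull f g I) L),
      IsUniv g.left t ∧
      compMap (TautSh.pushEval f H I L) t ≫ (pushforwardCongr (Over.w g)).hom.app _ =
        TautSh.pushEval f T (HilbD.pull f g I) L := by
  obtain ⟨m, hm, hmX⟩ := exists_famMap f g I
  have : L.IsQuasicoherent := hL
  have : ((Scheme.Modules.pullback (TautSh.famToX f H I)).obj L).IsQuasicoherent :=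
    Groth.Agent.CohqA.PullbackQCoh.isQuasicoherent_of_isUniv _ _
      (isUniv_pbUnit (TautSh.famToX f H I) L)
  obtain ⟨b, hb⟩ := (bijective_compMap m _ (isUniv_pbUnit (TautSh.famToX f H I) L) _).2
    (pbUnit (TautSh.famToX f T (HilbD.pull f g I)) L ≫ (pushforwardCongr hmX.symm).hom.app _)
  dsimp only at hb
  have hbu : IsUniv m b := by
    rw [← isUniv_compMap_iff (isUniv_pbUnit (TautSh.famToX f H I) L) b, hb, isUniv_congr]
    exact isUniv_pbUnit _ _
  refine ⟨pushSquare _ _ _ _ hm.w b, isUniv_pushSquare hm b hbu, ?_⟩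
  ext U x
  have hb' : ∀ (W : X.Opens) (y : Γ(L, W)),
      (show Γ((Scheme.Modules.pullback (TautSh.famToX f T (HilbD.pull f g I))).obj L,
        m ⁻¹ᵁ (TautSh.famToX f H I ⁻¹ᵁ W)) from b.app _
        ((pbUnit (TautSh.famToX f H I) L).app W y)) =
      ((Scheme.Modules.pullback (TautSh.famToX f T (HilbD.pull f g I))).obj L).presheaf.map
        (eqToHom (by rw [← Scheme.Hom.comp_preimage, hmX])).op
        ((pbUnit (TautSh.famToX f T (HilbD.pull f g I)) L).app W y) := by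
    intro W y
    exact congr(($hb).app W y)
  have e0 : T.hom ⁻¹ᵁ U = g.left ⁻¹ᵁ (H.hom ⁻¹ᵁ U) := by
    rw [← Scheme.Hom.comp_preimage, Over.w g]
  let y : Γ((Scheme.Modules.pullback (TautSh.famToX f H I)).obj L,
      TautSh.famToX f H I ⁻¹ᵁ (f ⁻¹ᵁ U)) := (pbUnit (TautSh.famToX f H I) L).app (f ⁻¹ᵁ U) x
  have e1 : TautSh.famToH f H I ⁻¹ᵁ (H.hom ⁻¹ᵁ U) ≤ TautSh.famToX f H I ⁻¹ᵁ (f ⁻¹ᵁ U) := by
    rw [← Scheme.Hom.comp_preimage, ← Scheme.Hom.comp_preimage, TautSh.famToX_comp]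
  have h1 := app_map b e1 y
  have h2 := hb' (f ⁻¹ᵁ U) x
  let NT : (TautSh.fam f T (HilbD.pull f g I)).Modules :=
    (Scheme.Modules.pullback (TautSh.famToX f T (HilbD.pull f g I))).obj L
  have e2 : TautSh.famToH f T (HilbD.pull f g I) ⁻¹ᵁ (T.hom ⁻¹ᵁ U) ≤
      TautSh.famToH f T (HilbD.pull f g I) ⁻¹ᵁ (g.left ⁻¹ᵁ (H.hom ⁻¹ᵁ U)) := by rw [e0]
  have e3 : TautSh.famToH f T (HilbD.pull f g I) ⁻¹ᵁ (g.left ⁻¹ᵁ (H.hom ⁻¹ᵁ U)) ≤
      m ⁻¹ᵁ (TautSh.famToH f H I ⁻¹ᵁ (H.hom ⁻¹ᵁ U)) := preimage_le hm.w _ _ le_rfl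
  have e4 : m ⁻¹ᵁ (TautSh.famToH f H I ⁻¹ᵁ (H.hom ⁻¹ᵁ U)) ≤
      m ⁻¹ᵁ (TautSh.famToX f H I ⁻¹ᵁ (f ⁻¹ᵁ U)) := m.preimage_mono e1
  have e5 : m ⁻¹ᵁ (TautSh.famToX f H I ⁻¹ᵁ (f ⁻¹ᵁ U)) ≤
      TautSh.famToX f T (HilbD.pull f g I) ⁻¹ᵁ (f ⁻¹ᵁ U) := by
    rw [← Scheme.Hom.comp_preimage, hmX]
  have e6 : TautSh.famToH f T (HilbD.pull f g I) ⁻¹ᵁ (T.hom ⁻¹ᵁ U) ≤
      TautSh.famToX f T (HilbD.pull f g I) ⁻¹ᵁ (f ⁻¹ᵁ U) := by
    rw [← Scheme.Hom.comp_preimage, ← Scheme.Hom.comp_preimage, TautSh.famToX_comp]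
  change NT.presheaf.map (homOfLE e2).op (NT.presheaf.map (homOfLE e3).op
    (b.app _ (((Scheme.Modules.pullback (TautSh.famToX f H I)).obj L).presheaf.map
      (homOfLE e1).op y))) = NT.presheaf.map (homOfLE e6).op
        ((pbUnit (TautSh.famToX f T (HilbD.pull f g I)) L).app (f ⁻¹ᵁ U) x)
  have h3 : (b.app _ (((Scheme.Modules.pullback (TautSh.famToX f H I)).obj L).presheaf.map
      (homOfLE e1).op y)) = NT.presheaf.map (homOfLE e4).op (NT.presheaf.map (homOfLE e5).op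
        ((pbUnit (TautSh.famToX f T (HilbD.pull f g I)) L).app (f ⁻¹ᵁ U) x)) :=
    h1.trans (congrArg (NT.presheaf.map (homOfLE e4).op) h2)
  refine (congrArg (fun z => NT.presheaf.map (homOfLE e2).op
    (NT.presheaf.map (homOfLE e3).op z)) h3).trans ?_
  dsimp only
  rw [map_map', map_map']
  exact map_map' NT _ _ _

end K994.Taut
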