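import Groth.Agent.TautSh.K994.Fin4
import Groth.Agent.TautSh.K994.Taut

/-!
# Sections of a quasi-coherent module on closed subschemes of an affine closed subscheme
-/

set_option autoImplicit false
universe u

open CategoryTheory CategoryTheory.Limits AlgebraicGeometry Opposite TopologicalSpace
open AlgebraicGeometry.Scheme.Modules

namespace K994.Sec

open Groth.Agent.CohqA.PullbackUniv Groth.Agent.CohqA.PullbackSections
  Groth.Agent.CohqA.AffineBaseChange Groth.Agent.CohqA.PullbackAffine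
  Groth.Agent.CohqA.BaseChangeMod
  Groth.Agent.Fdesc.LocGen K994.Adj K994.Pt K994.Fin K994.Fin2 K994.Fin3 K994.Fin4

section Alg

variable {A B : Type u} [CommRing A] [CommRing B] {φ : A →+* B} (hφ : Function.Surjective φ)
  {M N : Type u} [AddCommGroup M] [Module A M] [AddCommGroup N] [Module B N] {f : M →+ N}

include hφ in
theorem surjective_of_isBC (h : IsBC φ f) : Function.Surjective f := by
  let R : Submodule B N :=
    { carrier := Set.range f
      add_mem' := by
        rintro _ _ ⟨x, rfl⟩ ⟨y, rfl⟩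
        exact ⟨x + y, map_add f x y⟩
      zero_mem' := ⟨0, map_zero f⟩
      smul_mem' := by
        rintro b _ ⟨x, rfl⟩
        obtain ⟨a, rfl⟩ := hφ b
        exact ⟨a • x, h.map_smul a x⟩ }
  have h1 : R.mkQ = 0 := h.hom_ext fun x => by
    rw [LinearMap.zero_apply, Submodule.mkQ_apply, Submodule.Quotient.mk_eq_zero]
    exact ⟨x, rfl⟩
  have h2 : R = ⊤ := by
    rw [← Submodule.ker_mkQ R, h1, LinearMap.ker_zero]
  intro y
  have : y ∈ R := by rw [h2]; trivial
  exact this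

include hφ in
theorem eq_zero_iff_of_isBC (h : IsBC φ f) (x : M) :
    f x = 0 ↔ x ∈ (RingHom.ker φ) • (⊤ : Submodule A M) := by
  constructor
  · intro hx
    let J : Ideal A := RingHom.ker φ
    let e : (A ⧸ J) ≃+* B := RingHom.quotientKerEquivOfSurjective hφ
    let : Module B (M ⧸ (J • (⊤ : Submodule A M))) :=
      Module.compHom _ e.symm.toRingHom
    let g : M →+ (M ⧸ (J • (⊤ : Submodule A M))) := (J • (⊤ : Submodule A M)).mkQ.toAddMonoidHom
    obtain ⟨g', hg', -⟩ := h.lift _ g (fun r y => by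
      have he : e.symm (φ r) = Ideal.Quotient.mk J r := by
        rw [RingEquiv.symm_apply_eq]
        rfl
      change (J • (⊤ : Submodule A M)).mkQ (r • y) = e.symm (φ r) • _
      rw [he, LinearMap.map_smul]
      rfl)
    have h0 := hg' x
    rw [hx, map_zero] at h0
    exact (Submodule.Quotient.mk_eq_zero _).1 h0.symm
  · intro hx
    refine Submodule.smul_induction_on hx ?_ ?_
    · intro r hr n _
      rw [h.map_smul, (RingHom.mem_ker).1 hr, zero_smul]
    · intro x y hx hy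
      rw [map_add, hx, hy, add_zero]

end Alg

variable {X : Scheme.{u}}

theorem app_top_surjective {V W : Scheme.{u}} [IsAffine W] (j : V ⟶ W) [IsClosedImmersion j]
    {M : W.Modules} {N : V.Modules} (hM : Coh.IsQCoh M) (b : M ⟶ (pushforward j).obj N)
    (hb : IsUniv j b) : Function.Surjective (b.app ⊤) := by
  have : M.IsQuasicoherent := hM
  have : IsAffine V := isAffine_of_isAffineHom j
  obtain ⟨-, h⟩ := isQuasicoherent_and_isBC_of_isUniv j b hb
  exact surjective_of_isBC (N := Γ(N, ⊤)) (appTop_surjective j) h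

/-- Restriction of global sections. -/
noncomputable def rs {V : Scheme.{u}} (i : V ⟶ X) (L : X.Modules) :
    Γ(L, ⊤) →+ Γ((Scheme.Modules.pullback i).obj L, ⊤) :=
  ((pbUnit i L).app ⊤).hom

theorem app_top_eq_zero_iff {V W : Scheme.{u}} [IsAffine W] (j : V ⟶ W) [IsClosedImmersion j]
    {M : W.Modules} {N : V.Modules} (hM : Coh.IsQCoh M) (b : M ⟶ (pushforward j).obj N)
    (hb : IsUniv j b) (x : Γ(M, ⊤)) :
    b.app ⊤ x = 0 ↔ x ∈ RingHom.ker j.appTop.hom • (⊤ : Submodule Γ(W, ⊤) Γ(M, ⊤)) := by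
  have : M.IsQuasicoherent := hM
  have : IsAffine V := isAffine_of_isAffineHom j
  obtain ⟨-, h⟩ := isQuasicoherent_and_isBC_of_isUniv j b hb
  exact eq_zero_iff_of_isBC (N := Γ(N, ⊤)) (appTop_surjective j) h x

theorem mem_kr_iff {I₀ I : X.IdealSheafData} [IsAffine I₀.subscheme] (h : I₀ ≤ I) {L : X.Modules}
    (hL : Coh.IsQCoh L) (x : Γ(L, ⊤)) :
    x ∈ kr (pbUnit I.subschemeι L) ↔
      rs I₀.subschemeι L x ∈ RingHom.ker (inc h).appTop.hom •
        (⊤ : Submodule Γ(I₀.subscheme, ⊤)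
          Γ((Scheme.Modules.pullback I₀.subschemeι).obj L, ⊤)) := by
  have : L.IsQuasicoherent := hL
  have hM : Coh.IsQCoh ((Scheme.Modules.pullback I₀.subschemeι).obj L) :=
    Groth.Agent.CohqA.PullbackQCoh.isQuasicoherent_of_isUniv _ _
      (isUniv_pbUnit I₀.subschemeι L)
  rw [← app_top_eq_zero_iff (inc h) hM (pbUnit (inc h) _) (isUniv_pbUnit _ _)]
  have h1 : IsUniv I.subschemeι (compMap (pbUnit I₀.subschemeι L)
      (pbUnit (inc h) ((Scheme.Modules.pullback I₀.subschemeι).obj L)) ≫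
      (pushforwardCongr (Scheme.IdealSheafData.inclusion_subschemeι h)).hom.app _) := by
    rw [isUniv_congr]
    exact (isUniv_pbUnit _ _).comp (isUniv_pbUnit _ _)
  rw [kr_eq_of_isUniv (isUniv_pbUnit I.subschemeι L) h1, kr_congr]
  rfl

theorem kr_le {I₀ I₁ I₂ I₃ : X.IdealSheafData} [IsAffine I₀.subscheme] (h₁ : I₀ ≤ I₁)
    (h₂ : I₀ ≤ I₂) (h₃ : I₀ ≤ I₃) (h : I₃ ≤ I₁ ⊔ I₂) {L : X.Modules} (hL : Coh.IsQCoh L)
    (hsurj : Function.Surjective (rs I₀.subschemeι L)) (K : AddSubgroup Γ(L, ⊤))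
    (hK₁ : kr (pbUnit I₁.subschemeι L) ≤ K) (hK₂ : kr (pbUnit I₂.subschemeι L) ≤ K) :
    kr (pbUnit I₃.subschemeι L) ≤ K := by
  intro s hs
  rw [mem_kr_iff h₃ hL] at hs
  have hle : RingHom.ker (inc h₃).appTop.hom ≤
      RingHom.ker (inc h₁).appTop.hom ⊔ RingHom.ker (inc h₂).appTop.hom := by
    rw [sup_ker_le, ← inc_ker_eq_comap (h₁.trans le_sup_left), ker_eq, ker_mono_iff]
    exact h
  have hs' := Submodule.smul_mono_left hle hs
  rw [Submodule.sup_smul] at hs'
  obtain ⟨m₁, hm₁, m₂, hm₂, hm⟩ := Submodule.mem_sup.1 hs'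
  obtain ⟨s₁, hs₁⟩ := hsurj m₁
  have a1 : s₁ ∈ kr (pbUnit I₁.subschemeι L) := by
    rw [mem_kr_iff h₁ hL, hs₁]
    exact hm₁
  have a2 : s - s₁ ∈ kr (pbUnit I₂.subschemeι L) := by
    rw [mem_kr_iff h₂ hL, map_sub, hs₁, ← hm, add_sub_cancel_left]
    exact hm₂
  have := K.add_mem (hK₁ a1) (hK₂ a2)
  rwa [add_sub_cancel] at this

end K994.Sec
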