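import Groth.Agent.S4815
import Groth.Agent.S4818
import Groth.Agent.S9187
import Groth.Agent.S4792
import Groth.Agent.S19692
import Groth.Agent.S12442
import Groth.Agent.Etcore.PullbackLim
import Groth.Agent.Picfga.HilbPull
import Groth.Agent.Desc.FPSections
import Groth.Agent.PerfB.StructFlat
import Groth.Agent.PerfC.PullRestrict
import Groth.Agent.CohqA.AffineBaseChange
import Groth.Agent.Grass.K652.LfRank

/-!
# Spreading out of points of the Hilbert functor

For a cofiltered limit of affine schemes over `S` and `f : X ⟶ S` quasi-compact, quasi-separated and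
locally of finite presentation, every finite locally free closed subscheme of degree `d` of `X_T` over
the limit `T` comes from some stage.
-/

set_option autoImplicit false
universe u

open CategoryTheory CategoryTheory.Limits AlgebraicGeometry Opposite TopologicalSpace

namespace K994.Spread

open Groth.Agent.Etcore.PullbackLim Groth.Agent.Picfga.HilbPull

variable {X S : Scheme.{u}} (f : X ⟶ S) {d : ℕ}

/-- The pull-back of the kernel of a closed immersion. -/
lemma pull_ker {T T' : Over S} (g : T' ⟶ T) {Z Z' : Scheme.{u}} (i : Z ⟶ PicF.XT f T)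
    [IsClosedImmersion i] {q : Z' ⟶ Z} {i' : Z' ⟶ PicF.XT f T'}
    (h : IsPullback q i' i (PicF.XTmap f g)) : HilbD.pull f g i.ker = i'.ker := by
  rw [pull_eq_comap, ← Scheme.IdealSheafData.ker_fst_of_isClosedImmersion]
  have h1 : h.flip.isoPullback.hom ≫ pullback.fst (PicF.XTmap f g) i = i' :=
    h.flip.isoPullback_hom_fst
  rw [← h1, Scheme.Hom.ker_comp_of_isIso]

variable {ι : Type u} [Preorder ι] [IsDirected ι (· ≤ ·)] [Nonempty ι] (D : ιᵒᵖ ⥤ Over S)
  (c : Cone D)

/-- The underlying system of schemes. -/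
noncomputable abbrev Tf : ιᵒᵖ ⥤ Scheme.{u} := D ⋙ Over.forget S

/-- The system `X ×_S D_a`. -/
noncomputable def Xs : ιᵒᵖ ⥤ Scheme.{u} where
  obj a := PicF.XT f (D.obj a)
  map h := PicF.XTmap f (D.map h)
  map_id a := by
    rw [CategoryTheory.Functor.map_id]
    exact XTmap_id f _
  map_comp h g := by
    rw [CategoryTheory.Functor.map_comp]
    exact XTmap_comp f _ _

/-- The cone `X ×_S T ⟶ X ×_S D_a`. -/
noncomputable def Xc : Cone (Xs f D) where
  pt := PicF.XT f c.pt
  π :=
    { app := fun a => PicF.XTmap f (c.π.app a)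
      naturality := fun a b h => by
        refine (Category.id_comp _).trans ?_
        refine Eq.trans ?_ (XTmap_comp f (c.π.app a) (D.map h))
        rw [c.w h] }

omit [IsDirected ι (· ≤ ·)] [Nonempty ι] in
lemma hτf ⦃a b : ιᵒᵖ⦄ (h : a ⟶ b) : (Tf D).map h ≫ (D.obj b).hom = (D.obj a).hom :=
  Over.w (D.map h)

omit [IsDirected ι (· ≤ ·)] [Nonempty ι] in
lemma htf (a : ιᵒᵖ) : ((Over.forget S).mapCone c).π.app a ≫ (D.obj a).hom = c.pt.hom :=
  Over.w (c.π.app a)

omit [IsDirected ι (· ≤ ·)] [Nonempty ι] in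
lemma mapp_eq {a b : ιᵒᵖ} (h : a ⟶ b) :
    mapp (Tf D) (fun a => (D.obj a).hom) (hτf D) f h = PicF.XTmap f (D.map h) := by
  apply pullback.hom_ext
  · exact (mapp_fst (Tf D) (fun a => (D.obj a).hom) (hτf D) f h).trans
      (XTmap_fst f (D.map h)).symm
  · exact (mapp_snd (Tf D) (fun a => (D.obj a).hom) (hτf D) f h).trans
      (XTmap_snd f (D.map h)).symm

omit [IsDirected ι (· ≤ ·)] [Nonempty ι] in
lemma proj_eq (a : ιᵒᵖ) :
    proj (Tf D) (fun a => (D.obj a).hom) f ((Over.forget S).mapCone c) c.pt.hom (htf D c) a =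
      PicF.XTmap f (c.π.app a) := by
  apply pullback.hom_ext
  · exact (proj_fst (Tf D) (fun a => (D.obj a).hom) f ((Over.forget S).mapCone c) c.pt.hom
      (htf D c) a).trans (XTmap_fst f (c.π.app a)).symm
  · exact (proj_snd (Tf D) (fun a => (D.obj a).hom) f ((Over.forget S).mapCone c) c.pt.hom
      (htf D c) a).trans (XTmap_snd f (c.π.app a)).symm

noncomputable def sysIso : sys (Tf D) (fun a => (D.obj a).hom) (hτf D) f ≅ Xs f D :=
  NatIso.ofComponents (fun a => Iso.refl (PicF.XT f (D.obj a))) (fun {a b} h => by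
    refine (Category.comp_id _).trans ?_
    refine Eq.trans ?_ (Category.id_comp _).symm
    exact mapp_eq f D h)

/-- `X ×_S T` is the limit of the `X ×_S D_a`. -/
noncomputable def isLimitXc (hc : IsLimit ((Over.forget S).mapCone c)) : IsLimit (Xc f D c) :=
  IsLimit.ofIsoLimit ((IsLimit.postcomposeHomEquiv (sysIso f D) _).symm
    (isLimitCone (Tf D) (fun a => (D.obj a).hom) (hτf D) f ((Over.forget S).mapCone c) c.pt.hom
      (htf D c) hc))
    (Cone.ext (Iso.refl (PicF.XT f c.pt)) (fun a => by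
      refine Eq.trans (Category.comp_id _) ?_
      refine Eq.trans ?_ (Category.id_comp _).symm
      exact proj_eq f D c a))

section Main

variable [QuasiCompact f] [QuasiSeparated f] [LocallyOfFinitePresentation f]
  (hc : IsLimit ((Over.forget S).mapCone c)) [haff : ∀ a, IsAffine (D.obj a).left]

omit [IsDirected ι (· ≤ ·)] [Nonempty ι] [QuasiCompact f] [QuasiSeparated f]
  [LocallyOfFinitePresentation f] in
lemma isAffineHom_Tf (a b : ιᵒᵖ) (h : a ⟶ b) : IsAffineHom ((Tf D).map h) := by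
  have := haff a
  have := haff b
  exact inferInstanceAs (IsAffineHom (D.map h).left)

omit [IsDirected ι (· ≤ ·)] [Nonempty ι] [QuasiCompact f] [QuasiSeparated f]
  [LocallyOfFinitePresentation f] in
lemma isAffineHom_Xs (a b : ιᵒᵖ) (h : a ⟶ b) : IsAffineHom ((Xs f D).map h) :=
  MorphismProperty.of_isPullback (P := @IsAffineHom) (isPullback_XTmap f (D.map h)).flip
    (isAffineHom_Tf D a b h)

omit [IsDirected ι (· ≤ ·)] [Nonempty ι] [QuasiSeparated f] [LocallyOfFinitePresentation f] in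
lemma compactSpace_Xs (a : ιᵒᵖ) : CompactSpace ((Xs f D).obj a) := by
  have := haff a
  change CompactSpace ↥(PicF.XT f (D.obj a))
  exact QuasiCompact.compactSpace_of_compactSpace (PicF.XTproj f (D.obj a))

omit [IsDirected ι (· ≤ ·)] [Nonempty ι] [QuasiCompact f] [LocallyOfFinitePresentation f] in
lemma quasiSeparatedSpace_Xs (a : ιᵒᵖ) : QuasiSeparatedSpace ((Xs f D).obj a) := by
  have := haff a
  change QuasiSeparatedSpace ↥(PicF.XT f (D.obj a))
  exact quasiSeparatedSpace_of_quasiSeparated (PicF.XTproj f (D.obj a))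

include hc in
omit [LocallyOfFinitePresentation f] in
lemma exists_immersion (J : (PicF.XT f c.pt).IdealSheafData)
    (h0 : LocallyOfFinitePresentation J.subschemeι) :
    ∃ (j : ιᵒᵖ) (Zj : Scheme.{u}) (ιj : Zj ⟶ PicF.XT f (D.obj j)) (q : J.subscheme ⟶ Zj),
      IsImmersion ιj ∧ LocallyOfFinitePresentation ιj ∧ QuasiCompact ιj ∧
        IsPullback q J.subschemeι ιj (PicF.XTmap f (c.π.app j)) := by
  have hA := isAffineHom_Xs f D
  have hC := compactSpace_Xs f D
  have hQ := quasiSeparatedSpace_Xs f D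
  let i₀ : ιᵒᵖ := op (Classical.arbitrary ι)
  let iJ : J.subscheme ⟶ (Xc f D c).pt := J.subschemeι
  have k1 : IsImmersion iJ := (inferInstance : IsImmersion J.subschemeι)
  have k2 : LocallyOfFinitePresentation iJ := h0
  have k3 : QuasiCompact iJ := (inferInstance : QuasiCompact J.subschemeι)
  obtain ⟨j, hj, Zj, ιj, q, h1, h2, h3, h4⟩ := Groth.Agent.S4815.result (Xs f D) (Xc f D c)
    (isLimitXc f D c hc) i₀ (Z := J.subscheme) iJ
  exact ⟨j, Zj, ιj, q, h1, h2, h3, h4⟩

include hc in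
omit [QuasiSeparated f] [LocallyOfFinitePresentation f] in
lemma exists_isClosedImmersion {j : ιᵒᵖ} {Zj : Scheme.{u}} (ιj : Zj ⟶ PicF.XT f (D.obj j))
    (h1 : IsImmersion ιj) (h2 : LocallyOfFinitePresentation ιj) (h3 : QuasiCompact ιj)
    (h : IsClosedImmersion (pullback.snd ιj (PicF.XTmap f (c.π.app j)))) :
    ∃ (j' : ιᵒᵖ) (φ : j' ⟶ j),
      IsClosedImmersion (pullback.snd ιj (PicF.XTmap f (D.map φ))) := by
  have hA := isAffineHom_Xs f D
  have hC := compactSpace_Xs f D
  let ij : Zj ⟶ (Xs f D).obj j := ιj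
  have k1 : IsImmersion ij := h1
  have k2 : LocallyOfFinitePresentation ij := h2
  have k3 : QuasiCompact ij := h3
  exact (Groth.Agent.S4818.result (Xs f D) (Xc f D c) (isLimitXc f D c hc) j ij).1 h

include hc in
/-- A closed subscheme of finite presentation of `X_T` comes from a stage. -/
theorem exists_closed (J : (PicF.XT f c.pt).IdealSheafData)
    (hJ : LocallyOfFinitePresentation (J.subschemeι ≫ PicF.XTproj f c.pt)) :
    ∃ (a : ιᵒᵖ) (I : (PicF.XT f (D.obj a)).IdealSheafData),
      LocallyOfFinitePresentation I.subschemeι ∧ HilbD.pull f (c.π.app a) I = J := by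
  have h0 : LocallyOfFinitePresentation J.subschemeι :=
    Groth.Agent.S12442.result J.subschemeι (PicF.XTproj f c.pt)
  obtain ⟨j, Zj, ιj, q, h1, h2, h3, h4⟩ := exists_immersion f D c hc J h0
  have h5 : IsClosedImmersion (pullback.snd ιj (PicF.XTmap f (c.π.app j))) := by
    rw [← h4.isoPullback_inv_snd]
    infer_instance
  obtain ⟨j', φ, h6⟩ := exists_isClosedImmersion f D c hc ιj h1 h2 h3 h5
  let i' : pullback ιj (PicF.XTmap f (D.map φ)) ⟶ PicF.XT f (D.obj j') :=
    pullback.snd ιj (PicF.XTmap f (D.map φ))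
  have h6' : IsClosedImmersion i' := h6
  have hp : IsPullback (pullback.fst ιj (PicF.XTmap f (D.map φ))) i' ιj (PicF.XTmap f (D.map φ)) :=
    IsPullback.of_hasPullback _ _
  have h7 : PicF.XTmap f (c.π.app j) = PicF.XTmap f (c.π.app j') ≫ PicF.XTmap f (D.map φ) := by
    rw [← XTmap_comp]
    exact congrArg _ (c.w φ).symm
  rw [h7] at h4
  have h8 := IsPullback.of_right' h4 hp
  refine ⟨j', i'.ker, ?_, ?_⟩
  · have h9 : i'.ker.subschemeι = inv i'.toImage ≫ i' := by
      rw [IsIso.eq_inv_comp]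
      exact i'.toImage_imageι
    have h10 : LocallyOfFinitePresentation i' := MorphismProperty.of_isPullback hp h2
    rw [h9]
    infer_instance
  · rw [pull_ker f _ i' h8, Scheme.IdealSheafData.ker_subschemeι]

omit [IsDirected ι (· ≤ ·)] [Nonempty ι] in
lemma finite_aux {A B P Q Xi Yi : Scheme.{u}} {p : P ⟶ A} {ψ : B ⟶ A} {m' : Q ⟶ P} {p' : Q ⟶ B}
    (hm' : IsPullback m' p' p ψ) {fi : Xi ⟶ Yi} {gi : Yi ⟶ B} {pY : Yi ⟶ A} {pX : Xi ⟶ P}
    (e1 : IsPullback pY gi (𝟙 A) ψ) (e2 : IsPullback pX fi p pY) (e3 : IsFinite fi) :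
    IsFinite p' := by
  have hgi : IsIso gi := e1.isIso_snd_of_isIso
  have hpY : ψ = inv gi ≫ pY := by
    rw [IsIso.eq_inv_comp]
    have := e1.w
    rw [Category.comp_id] at this
    exact this.symm
  rw [hpY] at hm'
  exact MorphismProperty.of_isPullback (IsPullback.of_right' hm' e2) e3

include hc in
/-- Finiteness of a closed subscheme of `X_T` holds at a stage. -/
theorem exists_finite {a : ιᵒᵖ} (I : (PicF.XT f (D.obj a)).IdealSheafData)
    (hfin : IsFinite ((HilbD.pull f (c.π.app a) I).subschemeι ≫ PicF.XTproj f c.pt)) :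
    ∃ (b : ιᵒᵖ) (φ : b ⟶ a),
      IsFinite ((HilbD.pull f (D.map φ) I).subschemeι ≫ PicF.XTproj f (D.obj b)) := by
  have hA := isAffineHom_Tf D
  have ha := haff a
  have k1 : CompactSpace ((Tf D).obj a) := inferInstanceAs (CompactSpace (D.obj a).left)
  have k2 : QuasiSeparatedSpace ((Tf D).obj a) :=
    inferInstanceAs (QuasiSeparatedSpace (D.obj a).left)
  have k3 : CompactSpace ↥(PicF.XT f (D.obj a)) := compactSpace_Xs f D a
  have k4 : QuasiSeparatedSpace ↥(PicF.XT f (D.obj a)) := quasiSeparatedSpace_Xs f D a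
  have k5 : CompactSpace ↥I.subscheme := QuasiCompact.compactSpace_of_compactSpace I.subschemeι
  have k6 : QuasiSeparatedSpace ↥I.subscheme := quasiSeparatedSpace_of_quasiSeparated I.subschemeι
  obtain ⟨m, hm⟩ := isPullback_pull_base f (c.π.app a) I
  have sq : IsPullback (c.π.app a).left (𝟙 c.pt.left) (𝟙 (D.obj a).left) (c.π.app a).left :=
    IsPullback.id_vert _
  obtain ⟨b, φ, Xi, Yi, fi, gi, pY, pX, e1, e2, e3⟩ := Groth.Agent.S9187.result (Tf D)
    ((Over.forget S).mapCone c) hc a (X₀ := I.subscheme) (Y₀ := (D.obj a).left)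
    (I.subschemeι ≫ PicF.XTproj f (D.obj a)) (𝟙 (D.obj a).left)
    (X := (HilbD.pull f (c.π.app a) I).subscheme) (Y := c.pt.left)
    ((HilbD.pull f (c.π.app a) I).subschemeι ≫ PicF.XTproj f c.pt) (𝟙 c.pt.left)
    (c.π.app a).left m sq hm
  refine ⟨b, φ, ?_⟩
  have e1' : IsPullback pY gi (𝟙 (D.obj a).left) (D.map φ).left := e1
  obtain ⟨m', hm'⟩ := isPullback_pull_base f (D.map φ) I
  exact finite_aux hm' e1' e2 e3

omit [QuasiCompact f] [QuasiSeparated f] [LocallyOfFinitePresentation f] in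
/-- The degree of a family in terms of the pull-back of the push-forward of the structure sheaf. -/
lemma rank_iff {T T' : Over S} (g : T' ⟶ T) (I : (PicF.XT f T).IdealSheafData)
    [IsAffineHom (I.subschemeι ≫ PicF.XTproj f T)] :
    FlatMod.IsFinLocFreeOfRank d ((Scheme.Modules.pullback g.left).obj
      ((Scheme.Modules.pushforward (I.subschemeι ≫ PicF.XTproj f T)).obj
        (Coh.structureModule I.subscheme))) ↔
      Mor2.IsFinLocFreeOfDeg d ((HilbD.pull f g I).subschemeι ≫ PicF.XTproj f T') := by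
  obtain ⟨m, hm⟩ := isPullback_pull_base f g I
  have hq : (Coh.structureModule I.subscheme).IsQuasicoherent :=
    Groth.Agent.Ega2.QCohLocal.isQCoh_structureModule I.subscheme
  obtain ⟨e⟩ := Groth.Agent.CohqA.AffineBaseChange.nonempty_iso hm
    (Coh.structureModule I.subscheme)
  have e' := e ≪≫ (Scheme.Modules.pushforward ((HilbD.pull f g I).subschemeι ≫
    PicF.XTproj f T')).mapIso (Groth.Agent.PerfC.PullRestrict.pullbackUnit m)
  have h1 : IsAffineHom ((HilbD.pull f g I).subschemeι ≫ PicF.XTproj f T') :=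
    MorphismProperty.of_isPullback (P := @IsAffineHom) hm ‹_›
  have h2 := Groth.Agent.S19692.result ((HilbD.pull f g I).subschemeι ≫ PicF.XTproj f T') d
  refine Iff.trans ⟨fun h => ?_, fun h => ?_⟩ h2.symm
  · exact ⟨h1, K652.LfRank.of_iso e' h⟩
  · exact K652.LfRank.of_iso e'.symm h.2

include hc in
omit [QuasiCompact f] [QuasiSeparated f] [LocallyOfFinitePresentation f] in
theorem exists_rank {b : ιᵒᵖ} (I : (PicF.XT f (D.obj b)).IdealSheafData)
    (h1 : IsFinite (I.subschemeι ≫ PicF.XTproj f (D.obj b)))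
    (h2 : LocallyOfFinitePresentation (I.subschemeι ≫ PicF.XTproj f (D.obj b)))
    (h : Mor2.IsFinLocFreeOfDeg d ((HilbD.pull f (c.π.app b) I).subschemeι ≫
      PicF.XTproj f c.pt)) :
    ∃ (j : ιᵒᵖ) (ψ : j ⟶ b), Mor2.IsFinLocFreeOfDeg d ((HilbD.pull f (D.map ψ) I).subschemeι ≫
      PicF.XTproj f (D.obj j)) := by
  have hA := isAffineHom_Tf D
  have hb' := haff b
  have k1 : CompactSpace ((Tf D).obj b) := inferInstanceAs (CompactSpace (D.obj b).left)
  have k2 : Coh.IsQCoh ((Scheme.Modules.pushforward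
    (I.subschemeι ≫ PicF.XTproj f (D.obj b))).obj (Coh.structureModule I.subscheme)) :=
    Groth.Agent.Ega1.QcqsPush.isQCoh_pushforward _ _
      (Groth.Agent.Ega2.QCohLocal.isQCoh_structureModule _)
  have k3 : CohB1.IsFP ((Scheme.Modules.pushforward
    (I.subschemeι ≫ PicF.XTproj f (D.obj b))).obj (Coh.structureModule I.subscheme)) :=
    (Groth.Agent.Desc.FPSections.isFP_pushforward_iff _ _
      (Groth.Agent.Ega2.QCohLocal.isQCoh_structureModule _)).1
        (Groth.Agent.PerfB.StructFlat.isFP_structure)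
  let F₀ : ((Tf D).obj b).Modules := (Scheme.Modules.pushforward
    (I.subschemeι ≫ PicF.XTproj f (D.obj b))).obj (Coh.structureModule I.subscheme)
  have k2' : Coh.IsQCoh F₀ := k2
  have k5 := (rank_iff f (c.π.app b) I).2 h
  obtain ⟨j, ψ, k6⟩ := (Groth.Agent.S4792.result (Tf D) ((Over.forget S).mapCone c) hc b F₀ k3 d).1 k5
  exact ⟨j, ψ, (rank_iff f (D.map ψ) I).1 k6⟩

include hc in
/-- **Spreading out**: points of the Hilbert functor with values in the limit come from a stage. -/
theorem exists_stage (Z : HilbD.Obj f d c.pt) :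
    ∃ (a : ιᵒᵖ) (Z₀ : HilbD.Obj f d (D.obj a)), HilbD.pull f (c.π.app a) Z₀.1 = Z.1 := by
  obtain ⟨⟨z1, z2, z3⟩, z4⟩ := Z.2
  obtain ⟨a, I, hI, hIZ⟩ := exists_closed f D c hc Z.1 z3
  rw [← hIZ] at z1
  obtain ⟨b, φ, hb⟩ := exists_finite f D c hc I z1
  have h1 : HilbD.pull f (c.π.app b) (HilbD.pull f (D.map φ) I) = Z.1 := by
    rw [← hIZ, ← pull_comp]
    exact congrArg (fun z => HilbD.pull f z I) (c.w φ)
  have h2 : LocallyOfFinitePresentation
      ((HilbD.pull f (D.map φ) I).subschemeι ≫ PicF.XTproj f (D.obj b)) := by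
    obtain ⟨m, hm⟩ := isPullback_pull f (D.map φ) I
    have h21 : LocallyOfFinitePresentation (HilbD.pull f (D.map φ) I).subschemeι :=
      MorphismProperty.of_isPullback hm hI
    infer_instance
  have k4 : Mor2.IsFinLocFreeOfDeg d ((HilbD.pull f (c.π.app b)
      (HilbD.pull f (D.map φ) I)).subschemeι ≫ PicF.XTproj f c.pt) := by
    rw [h1]
    exact Z.2
  obtain ⟨j, ψ, k7⟩ := exists_rank f D c hc (HilbD.pull f (D.map φ) I) hb h2 k4
  refine ⟨j, ⟨HilbD.pull f (D.map ψ) (HilbD.pull f (D.map φ) I), k7⟩, ?_⟩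
  change HilbD.pull f (c.π.app j) (HilbD.pull f (D.map ψ) (HilbD.pull f (D.map φ) I)) = Z.1
  rw [← h1, ← pull_comp f _ (D.map ψ)]
  exact congrArg (fun z => HilbD.pull f z (HilbD.pull f (D.map φ) I)) (c.w ψ)

end Main

end K994.Spread
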